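import Groth.Agent.Lib.HilbPn.Sum
import Mathlib.Algebra.BigOperators.Finprod

/-!
# An upper bound on the pieces of pattern `(+,+,-)`
-/

namespace GrothLib.HilbPn

open MvPolynomial W4c1hilbpn

universe u

variable {k : Type u} [Field k]

/-- A map is determined by its values on the columns without outgoing edge. -/
theorem finrank_Col_le {b : ℕ → ℕ → ℕ} {N i j m : ℕ} (hN : ∀ a c, N ≤ a ∨ N ≤ c → b a c = 0) :
    Module.finrank k (Col k b i j (-((m : ℤ) + 1))) ≤
      (cell b N i j m 0 0 \ (cell b N i j m 1 0 ∪ cell b N i j m 0 1)).card := by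
  set F := cell b N i j m 0 0 \ (cell b N i j m 1 0 ∪ cell b N i j m 0 1) with hF
  let R : Col k b i j (-((m : ℤ) + 1)) →ₗ[k] (↥F → k) :=
    { toFun := fun g v => g.1 v.1.1 v.1.2, map_add' := fun _ _ => rfl, map_smul' := fun _ _ => rfl }
  have hR : Function.Injective R := by
    refine (injective_iff_map_eq_zero R).2 fun g hg => Subtype.ext (funext₂ fun a c => ?_)
    obtain ⟨g1, g2, g3⟩ := (mem_Col_pos hN).1 g.2
    change g.1 a c = 0
    induction hd : 2 * N - (a + c) using Nat.strong_induction_on generalizing a c with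
    | _ d ih =>
      subst hd
      by_cases h0 : (a, c) ∈ cell b N i j m 0 0
      swap
      · exact g1 a c h0
      have hac : a < N ∧ c < N := by
        simp only [cell, Finset.mem_filter, Finset.mem_product, Finset.mem_range] at h0; exact h0.1
      by_cases h10 : (a, c) ∈ cell b N i j m 1 0
      · rw [← g2 a c h10]; exact ih _ (by omega) (a + 1) c rfl
      by_cases h01 : (a, c) ∈ cell b N i j m 0 1
      · rw [← g3 a c h01]; exact ih _ (by omega) a (c + 1) rfl
      exact congrFun hg ⟨(a, c), by simp [hF, h0, h10, h01]⟩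
  have := LinearMap.finrank_le_finrank_of_injective hR
  rwa [Module.finrank_pi, Fintype.card_coe] at this

variable {I : Ideal (MvPolynomial (Fin 3) k)} (hI : IsMonomial I) [Module.Finite k (MvPolynomial (Fin 3) k ⧸ I)]

include hI in
theorem finrank_ppn_le (a1 a2 : ℕ) :
    Module.finrank k ↥(⨆ α : {α : Fin 3 → ℤ // α 0 = (a1 : ℤ) ∧ α 1 = (a2 : ℤ) ∧ α 2 < 0}, tPiece I α.1) ≤
      ∑ᶠ p : ℕ × ℕ, (if a1 ≤ p.1 ∧ a2 ≤ p.2
        then stairZ I p.1 p.2 - max (stairZ I (p.1 + 1) p.2) (stairZ I p.1 (p.2 + 1)) else 0) := by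
  classical
  set π := Equiv.refl (Fin 3)
  obtain ⟨N, hN, hb⟩ := exists_stair_bound π hI
  set b := stair I π with hbdef
  rw [finrank_pos_line π hI hN hb a1 a2 (fun α => α 0 = (a1 : ℤ) ∧ α 1 = (a2 : ℤ) ∧ α 2 < 0)
    (fun α h => ⟨h.1, h.2.1⟩) (fun m => ⟨rfl, rfl, show -((m : ℤ) + 1) < 0 by omega⟩)]
  refine (Finset.sum_le_sum fun m _ => finrank_Col_le (k := k) (b := b) (i := a1) (j := a2) (m := m) hN).trans ?_
  have hinj : Function.Injective fun v : ℕ × ℕ => (v.1 + a1, v.2 + a2) := fun v w e => by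
    simp only [Prod.ext_iff, add_left_inj] at e; exact Prod.ext e.1 e.2
  rw [finsum_eq_sum_of_support_subset (s := (Finset.range N ×ˢ Finset.range N).image fun v => (v.1 + a1, v.2 + a2)),
    Finset.sum_image hinj.injOn]
  · simp only [le_add_iff_nonneg_left, zero_le, and_self, if_true, ← stair_refl]
    have sd : ∀ (s : Finset (ℕ × ℕ)) (P Q : ℕ × ℕ → Prop) [DecidablePred P] [DecidablePred Q],
        s.filter P \ s.filter Q = s.filter fun v => P v ∧ ¬ Q v := fun s P Q _ _ => by
      ext v; simp; tauto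
    simp only [cell, ← Finset.filter_or, sd, Finset.card_filter]
    rw [Finset.sum_comm]
    refine le_of_eq (Finset.sum_congr rfl fun v _ => ?_)
    rw [← Finset.card_filter]
    obtain ⟨a, c⟩ := v
    simp only [add_zero, Nat.add_right_comm _ 1 a1, Nat.add_right_comm _ 1 a2]
    have := hb a c
    have := stair_antitone π hI (show a ≤ a + a1 by omega) (show c ≤ c + a2 by omega)
    have := stair_antitone π hI (show a + a1 ≤ a + 1 + a1 by omega) (le_refl (c + a2))
    have := stair_antitone π hI (le_refl (a + a1)) (show c + a2 ≤ c + 1 + a2 by omega)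
    simp only [← hbdef, Nat.add_right_comm _ 1 a1, Nat.add_right_comm _ 1 a2] at *
    have e : ∀ (p q r s : ℕ), q ≤ p → p ≤ N → r ≤ q → s ≤ q →
        ((Finset.range N).filter fun m => (m < p ∧ p ≤ q + m) ∧ ¬ ((m < p ∧ p ≤ r + m) ∨ (m < p ∧ p ≤ s + m))).card =
          q - max r s := fun p q r s h1 h2 h3 h4 => by
      have e : (Finset.range N).filter (fun m => (m < p ∧ p ≤ q + m) ∧
          ¬ ((m < p ∧ p ≤ r + m) ∨ (m < p ∧ p ≤ s + m))) = Finset.Ico (p - q) (p - max r s) := by
        ext m; simp; omega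
      rw [e, Nat.card_Ico]; omega
    exact e _ _ _ _ (by omega) (by omega) (by omega) (by omega)
  · intro p hp
    simp only [Function.mem_support] at hp
    simp only [Finset.coe_image, Set.mem_image, Finset.mem_coe, Finset.mem_product, Finset.mem_range, Prod.exists]
    split_ifs at hp with h
    · refine ⟨p.1 - a1, p.2 - a2, ?_, by ext <;> simp <;> omega⟩
      by_contra hh
      have := hN p.1 p.2 (by omega)
      rw [hbdef, stair_refl] at this
      omega
    · exact absurd rfl hp

end GrothLib.HilbPn
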