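import Groth.Agent.Lib.HilbPn.PowThree
import Groth.Agent.Lib.HilbPn.Upper

/-!
# Strongly stable ideals in three variables
-/

namespace GrothLib.HilbPn

open MvPolynomial W4c1hilbpn

universe u

/-- The slice sums grow by more than the top antidiagonal. -/
theorem growth {N : ℕ} (L W : ℕ → ℕ) (hL : ∀ c, N ≤ c → L c = 0)
    (h1 : ∀ c, 0 < L c → L c + 1 ≤ W c) (hanti : ∀ c c', c ≤ c' → L c' ≤ L c) (h2 : ∀ c, L c ≤ W (c + 1))
    (hW : ∀ c, N ≤ c → W c = 0) {m : ℕ} (hm : (m + 1).choose 2 < ∑ c ∈ Finset.range N, L c) :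
    (∑ c ∈ Finset.range N, L c) + m + 2 ≤ ∑ c ∈ Finset.range N, W c := by
  obtain ⟨a, ha, ha'⟩ : ∃ a, 0 < L a ∧ m + 1 ≤ a + L a := by
    by_contra hno
    push Not at hno
    have : ∑ c ∈ Finset.range N, L c ≤ ∑ c ∈ Finset.range N, (m - c) := Finset.sum_le_sum fun c _ => by
      rcases Nat.eq_zero_or_pos (L c) with h | h
      · omega
      · have := hno c h; omega
    have e : ∀ M m : ℕ, ∑ c ∈ Finset.range M, (m - c) ≤ (m + 1).choose 2 := by
      intro M
      induction M with
      | zero => simp
      | succ M ih =>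
        intro m
        rw [Finset.sum_range_succ']
        rcases m with _ | m
        · simp
        · simp only [Nat.add_sub_add_right, Nat.sub_zero]
          have := ih m
          rw [Nat.choose_succ_succ' (m + 1) 1, Nat.choose_one_right]
          simp only [show (1 : ℕ) + 1 = 2 from rfl]
          omega
    have := e N m
    omega
  have haN : a < N := by
    by_contra h
    have := hL a (by omega); omega
  obtain ⟨M, hM⟩ := Nat.exists_eq_add_of_le (show a + 1 ≤ N from haN)
  have s1 : ∑ c ∈ Finset.range (a + 1), (L c + 1) ≤ ∑ c ∈ Finset.range (a + 1), W c :=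
    Finset.sum_le_sum fun c hc => h1 c (lt_of_lt_of_le ha (hanti c a (Nat.le_of_lt_succ (Finset.mem_range.1 hc))))
  have s2 : ∑ x ∈ Finset.range M, L (a + x) ≤ ∑ x ∈ Finset.range M, W (a + 1 + x) :=
    Finset.sum_le_sum fun x _ => by rw [show a + 1 + x = a + x + 1 by omega]; exact h2 _
  have s3 : L (a + M) = 0 := by
    rcases Nat.lt_or_ge (a + M) N with h | h
    · have := h2 (a + M)
      rw [hW _ (by omega)] at this
      omega
    · exact hL _ h
  have e1 : ∑ x ∈ Finset.range M, L (a + x) + L (a + M) = ∑ x ∈ Finset.range M, L (a + 1 + x) + L a := by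
    rw [← Finset.sum_range_succ, Finset.sum_range_succ']
    simp [Nat.add_assoc, Nat.add_comm 1]
  rw [hM, Finset.sum_range_add, Finset.sum_range_add W]
  rw [Finset.sum_add_distrib, Finset.sum_const, Finset.card_range, smul_eq_mul, mul_one] at s1
  omega

variable {k : Type u} [Field k] {I : Ideal (MvPolynomial (Fin 3) k)} (π : Equiv.Perm (Fin 3)) (hπ : π 0 = 0)
  (hI : IsStronglyStable I) [Module.Finite k (MvPolynomial (Fin 3) k ⧸ I)]

variable (I) in
/-- Number of standard monomials in a slice. -/
noncomputable def slc (N i : ℕ) : ℕ := ∑ c ∈ Finset.range N, stair I π i c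

include hπ hI in
theorem move_expo {i c n : ℕ} :
    (expo π i (c + 1) n ∈ exps I → expo π (i + 1) c n ∈ exps I) ∧
    (expo π i c (n + 1) ∈ exps I → expo π (i + 1) c n ∈ exps I) := by
  have hs : π.symm 0 = 0 := by rw [Equiv.symm_apply_eq, hπ]
  constructor <;> intro h
  · have hne : π.symm 1 ≠ 0 := fun e => by rw [Equiv.symm_apply_eq, hπ] at e; exact absurd e (by decide)
    have h' := hI.2 _ h 0 (π.symm 1) (Fin.pos_iff_ne_zero.2 hne) (by simp)
    convert h' using 1
    ext l
    obtain ⟨x, rfl⟩ := π.symm.surjective l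
    rw [show (0 : Fin 3) = π.symm 0 from hs.symm]
    fin_cases x <;> simp [Finsupp.single_apply]
  · have hne : π.symm 2 ≠ 0 := fun e => by rw [Equiv.symm_apply_eq, hπ] at e; exact absurd e (by decide)
    have h' := hI.2 _ h 0 (π.symm 2) (Fin.pos_iff_ne_zero.2 hne) (by simp)
    convert h' using 1
    ext l
    obtain ⟨x, rfl⟩ := π.symm.surjective l
    rw [show (0 : Fin 3) = π.symm 0 from hs.symm]
    fin_cases x <;> simp [Finsupp.single_apply]

include hπ hI in
theorem stair_moves (i c : ℕ) :
    stair I π (i + 1) c ≤ stair I π i (c + 1) ∧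
      (0 < stair I π (i + 1) c → stair I π (i + 1) c + 1 ≤ stair I π i c) := by
  refine ⟨(mem_exps_expo_iff π hI.1).1 ((move_expo π hπ hI).1 ((mem_exps_expo_iff π hI.1).2 le_rfl)), fun h => ?_⟩
  have hle := stair_antitone π hI.1 (show i ≤ i + 1 by omega) (le_refl c)
  obtain ⟨n, hn⟩ := Nat.exists_eq_add_of_le (show 1 ≤ stair I π i c by omega)
  have := (mem_exps_expo_iff π hI.1).1 ((move_expo π hπ hI).2
    ((mem_exps_expo_iff π hI.1).2 (show stair I π i c ≤ n + 1 by omega)))
  omega

variable {N r : ℕ}

include hπ hI in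
theorem slc_step (hN : ∀ a c, N ≤ a ∨ N ≤ c → stair I π a c = 0) {i m : ℕ}
    (hm : (m + 1).choose 2 < slc I π N (i + 1)) : slc I π N (i + 1) + m + 2 ≤ slc I π N i :=
  growth _ _ (fun c h => hN _ _ (Or.inr h)) (fun c => (stair_moves π hπ hI i c).2)
    (fun _ _ h => stair_antitone π hI.1 le_rfl h) (fun c => (stair_moves π hπ hI i c).1) (fun c h => hN _ _ (Or.inr h)) hm

theorem sum_tri (r : ℕ) : ∑ i ∈ Finset.range r, (r - i + 1).choose 2 = (r + 2).choose 3 := by
  rw [← sum_choose_two r]
  exact Finset.sum_congr rfl fun i hi => by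
    have := Finset.mem_range.1 hi
    congr 1; omega

include hI in
theorem finrank_eq_sum_slc (hN : ∀ a c, N ≤ a ∨ N ≤ c → stair I π a c = 0) :
    Module.finrank k (MvPolynomial (Fin 3) k ⧸ I) = ∑ i ∈ Finset.range N, slc I π N i :=
  finrank_quotient π hI.1 hN

include hπ hI in
theorem suffix_bound (hN : ∀ a c, N ≤ a ∨ N ≤ c → stair I π a c = 0)
    (hd : Module.finrank k (MvPolynomial (Fin 3) k ⧸ I) ≤ (r + 2).choose 3) :
    (∀ i, r ≤ i → slc I π N i = 0) ∧
      ∀ j, j ≤ r → ∑ i ∈ Finset.Ico j r, slc I π N i ≤ ∑ i ∈ Finset.Ico j r, (r - i + 1).choose 2 := by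
  -- an excess in a slice forces an excess in all lower slices
  have up : ∀ i, i < r → (r - (i + 1) + 1).choose 2 < slc I π N (i + 1) →
      (r - i + 1).choose 2 < slc I π N i := by
    intro i hi h
    have := slc_step π hπ hI hN h
    rw [show r - i + 1 = (r - (i + 1) + 1) + 1 by omega, Nat.choose_succ_succ' (r - (i + 1) + 1) 1,
      Nat.choose_one_right]
    simp only [show (1 : ℕ) + 1 = 2 from rfl]
    omega
  have down : ∀ p, p ≤ r → (r - p + 1).choose 2 < slc I π N p →
      ∀ i, i ≤ p → (r - i + 1).choose 2 < slc I π N i := by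
    intro p
    induction p with
    | zero => intro _ h i hi; rwa [Nat.le_zero.1 hi]
    | succ p ih =>
      intro hp h i hi
      rcases eq_or_lt_of_le hi with rfl | hi'
      · exact h
      · exact ih (by omega) (up p (by omega) h) i (by omega)
  have hzN : ∀ i, N ≤ i → slc I π N i = 0 := fun i h => Finset.sum_eq_zero fun c _ => hN _ _ (Or.inl h)
  have htot : ∑ i ∈ Finset.range r, slc I π N i ≤ (r + 2).choose 3 := by
    refine le_trans ?_ hd
    rw [finrank_eq_sum_slc π hI hN]
    rcases le_total r N with h | h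
    · exact Finset.sum_le_sum_of_subset (Finset.range_mono h)
    · rw [Finset.sum_subset (Finset.range_mono h) fun i _ hi => hzN i (by simpa using hi)]
  rw [← sum_tri] at htot
  have hr0 : slc I π N r = 0 := by
    by_contra h
    have hall := down r le_rfl (by simp; omega)
    rcases Nat.eq_zero_or_pos r with rfl | hr
    · have : slc I π N 0 ≤ Module.finrank k (MvPolynomial (Fin 3) k ⧸ I) := by
        rw [finrank_eq_sum_slc π hI hN]
        rcases Nat.eq_zero_or_pos N with rfl | hN0
        · simp [slc]
        · exact Finset.single_le_sum (f := fun i => slc I π N i) (fun i _ => Nat.zero_le _) (Finset.mem_range.2 hN0)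
      simp at hd
      omega
    · have := Finset.sum_lt_sum_of_nonempty (s := Finset.range r) ⟨0, Finset.mem_range.2 hr⟩
        fun i hi => hall i (Finset.mem_range.1 hi).le
      omega
  refine ⟨fun i hi => Nat.le_zero.1 ?_, fun j hj => ?_⟩
  · rw [← hr0]
    exact Finset.sum_le_sum fun c _ => stair_antitone π hI.1 hi le_rfl
  · by_cases hgood : ∀ i ∈ Finset.Ico j r, slc I π N i ≤ (r - i + 1).choose 2
    · exact Finset.sum_le_sum hgood
    · push Not at hgood
      obtain ⟨p, hp, hpgt⟩ := hgood
      rw [Finset.mem_Ico] at hp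
      have hpre : ∑ i ∈ Finset.range j, (r - i + 1).choose 2 ≤ ∑ i ∈ Finset.range j, slc I π N i :=
        Finset.sum_le_sum fun i hi => (down p hp.2.le hpgt i (by have := Finset.mem_range.1 hi; omega)).le
      rw [← Finset.sum_range_add_sum_Ico (fun i => slc I π N i) hj,
        ← Finset.sum_range_add_sum_Ico (fun i => (r - i + 1).choose 2) hj] at htot
      omega

include hπ hI in
theorem eq_pow_of_suffix (hN : ∀ a c, N ≤ a ∨ N ≤ c → stair I π a c = 0)
    (hd : Module.finrank k (MvPolynomial (Fin 3) k ⧸ I) ≤ (r + 2).choose 3)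
    (heq : ∀ j, j < r → ∑ i ∈ Finset.Ico j r, slc I π N i = ∑ i ∈ Finset.Ico j r, (r - i + 1).choose 2) :
    I = idealOfVars (Fin 3) k ^ r := by
  have hz := (suffix_bound π hπ hI hN hd).1
  have hd_eq : ∀ i, i < r → slc I π N i = (r - i + 1).choose 2 := by
    intro i hi
    have h1 := heq i hi
    rw [Finset.sum_eq_sum_Ico_succ_bot hi, Finset.sum_eq_sum_Ico_succ_bot hi] at h1
    rcases Nat.lt_or_ge (i + 1) r with h | h
    · have := heq (i + 1) h; omega
    · rw [Finset.Ico_eq_empty_of_le h] at h1
      simpa using h1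
  have main : ∀ m i, i + m = r → ∀ c, stair I π i c = m - c := by
    intro m
    induction m with
    | zero =>
      intro i hi c
      rcases Nat.lt_or_ge c N with hc | hc
      · have h0 := hz i (by omega)
        rw [slc, Finset.sum_eq_zero_iff] at h0
        simpa using h0 c (Finset.mem_range.2 hc)
      · rw [hN _ _ (Or.inr hc)]; omega
    | succ m ih =>
      intro i hi c
      have hv := ih (i + 1) (by omega)
      have hsum := hd_eq i (by omega)
      rw [show r - i + 1 = m + 2 by omega] at hsum
      have hge : ∀ c, m + 1 - c ≤ stair I π i c := by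
        intro c
        rcases Nat.lt_or_ge c m with h | h
        · have := (stair_moves π hπ hI i c).2 (by rw [hv]; omega)
          rw [hv] at this; omega
        · rcases eq_or_lt_of_le h with rfl | h'
          · rcases m with _ | m
            · have hpos : 0 < slc I π N i := by rw [hsum]; decide
              by_contra hno
              have hz0 : stair I π i 0 = 0 := by omega
              have : slc I π N i = 0 := Finset.sum_eq_zero fun c _ =>
                Nat.le_zero.1 (hz0 ▸ stair_antitone π hI.1 le_rfl (Nat.zero_le c))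
              omega
            · have := (stair_moves π hπ hI i m).1
              rw [hv] at this; omega
          · omega
      have hmN : m < N := by
        by_contra h
        have := hge m
        rw [hN _ _ (Or.inr (show N ≤ m by omega))] at this; omega
      have e : ∑ c ∈ Finset.range N, (m + 1 - c) = (m + 2).choose 2 := by
        rw [← Finset.sum_subset (Finset.range_mono (show m + 1 ≤ N by omega))
          fun c _ hc => by simp only [Finset.mem_range, not_lt] at hc; omega]
        clear hd_eq hsum hge hv ih hi hmN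
        induction m with
        | zero => decide
        | succ m ih =>
          rw [Finset.sum_range_succ', Nat.choose_succ_succ' (m + 2) 1, Nat.choose_one_right]
          simp only [Nat.add_sub_add_right, Nat.sub_zero, show (1 : ℕ) + 1 = 2 from rfl, ih]
          omega
      rcases Nat.lt_or_ge c N with hc | hc
      · by_contra hne
        have := Finset.sum_lt_sum (s := Finset.range N) (f := fun c => m + 1 - c) (g := fun c => stair I π i c)
          (fun c _ => hge c) ⟨c, Finset.mem_range.2 hc, lt_of_le_of_ne (hge c) fun h => hne h.symm⟩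
        rw [e, ← hsum] at this
        exact lt_irrefl _ this
      · rw [hN _ _ (Or.inr hc)]; omega
  have hexp : ∀ β, β ∈ exps I ↔ β ∈ exps (idealOfVars (Fin 3) k ^ r) := by
    intro β
    obtain ⟨a, c, n, rfl⟩ : ∃ a c n, β = expo π a c n := ⟨_, _, _, expo_surj π β⟩
    rw [mem_exps_expo_iff π hI.1, mem_exps_pow, show ∑ l, expo π a c n l = a + c + n by
      simp only [expo_apply]; rw [Equiv.sum_comp π fun m => ![a, c, n] m, Fin.sum_univ_three]; rfl]
    rcases Nat.lt_or_ge a r with ha | ha
    · rw [main (r - a) a (by omega) c]; omega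
    · have h0 : stair I π a c ≤ stair I π r c := stair_antitone π hI.1 ha le_rfl
      rw [main 0 r (by omega) c] at h0
      omega
  refine le_antisymm (fun p hp => ?_) fun p hp => ?_
  · exact mem_of_support_subset fun β hβ => (hexp β).1 (hI.1 p hp β hβ)
  · exact mem_of_support_subset fun β hβ => (hexp β).2 (isMonomial_pow r p hp β hβ)

include hπ hI in
/-- Equality of all suffix sums characterizes the power of the irrelevant ideal; the bound. -/
theorem sigPiece_le (hd : Module.finrank k (MvPolynomial (Fin 3) k ⧸ I) ≤ (r + 2).choose 3) :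
    Module.finrank k (sigPiece I {π.symm 2}) ≤ (r + 3).choose 4 ∧
      (Module.finrank k (sigPiece I {π.symm 2}) = (r + 3).choose 4 → I = idealOfVars (Fin 3) k ^ r) := by
  obtain ⟨N₀, hN₀, hb₀⟩ := exists_stair_bound π hI.1
  set N := N₀ + r with hNdef
  have hN : ∀ a c, N ≤ a ∨ N ≤ c → stair I π a c = 0 := fun a c h =>
    hN₀ a c (h.imp (fun h => by omega) (fun h => by omega))
  have hb : ∀ a c, stair I π a c ≤ N := fun a c => (hb₀ a c).trans (by omega)
  obtain ⟨hz, hsuf⟩ := suffix_bound π hπ hI hN hd
  have hline : ∀ i j, ∑ m ∈ Finset.range N, dPos I π i j m ≤ ∑ a ∈ Finset.range N, stair I π (a + i) j := by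
    intro i j
    refine (Finset.sum_le_sum fun m _ => finrank_Col_le (k := k) (i := i) (j := j) (m := m) hN).trans ?_
    have hsub : ∀ m, (cell (stair I π) N i j m 0 0 \ (cell (stair I π) N i j m 1 0 ∪ cell (stair I π) N i j m 0 1)).card +
        (cell (stair I π) N i j m 0 1).card ≤ (cell (stair I π) N i j m 0 0).card := fun m => by
      rw [← Finset.card_union_of_disjoint]
      · refine Finset.card_le_card (Finset.union_subset Finset.sdiff_subset fun v hv => ?_)
        obtain ⟨a, c⟩ := v
        exact cell_closed (fun a c => stair_antitone π hI.1 (by omega) le_rfl)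
          (fun a c => stair_antitone π hI.1 le_rfl (by omega)) hN hv
      · exact Finset.disjoint_left.2 fun v hv hv' => (Finset.mem_sdiff.1 hv).2 (Finset.mem_union_right _ hv')
    have h2 := Finset.sum_le_sum (s := Finset.range N) fun m _ => hsub m
    rw [Finset.sum_add_distrib, sum_cell π hI.1 hN hb, sum_cell π hI.1 hN hb] at h2
    have e : ∑ a ∈ Finset.range N, ∑ c ∈ Finset.range N, stair I π (a + i) (c + j) =
        ∑ a ∈ Finset.range N, stair I π (a + i) j + ∑ a ∈ Finset.range N, ∑ c ∈ Finset.range N, stair I π (a + i) (c + j + 1) := by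
      rw [← Finset.sum_add_distrib]
      refine Finset.sum_congr rfl fun a _ => ?_
      have := Finset.sum_range_succ' (fun c => stair I π (a + i) (c + j)) N
      rw [Finset.sum_range_succ, hN _ _ (Or.inr (show N ≤ N + j by omega)), add_zero] at this
      simp only [zero_add, Nat.add_right_comm _ 1 j] at this
      omega
    simp only [add_zero] at h2
    omega
  have htot : Module.finrank k (sigPiece I {π.symm 2}) ≤
      ∑ i ∈ Finset.range r, ∑ l ∈ Finset.Ico i r, slc I π N l := by
    rw [finrank_sigPiece_last π hI.1 hN hb]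
    refine (Finset.sum_le_sum fun i _ => Finset.sum_le_sum fun j _ => hline i j).trans ?_
    have e : ∀ i, ∑ j ∈ Finset.range N, ∑ a ∈ Finset.range N, stair I π (a + i) j =
        ∑ l ∈ Finset.Ico i r, slc I π N l := fun i => by
      rw [Finset.sum_comm]
      change ∑ a ∈ Finset.range N, slc I π N (a + i) = _
      rw [Finset.sum_Ico_eq_sum_range]
      simp only [Nat.add_comm i]
      refine (Finset.sum_subset (Finset.range_mono (show r - i ≤ N by omega)) fun a _ ha => ?_).symm
      simp only [Finset.mem_range, not_lt] at ha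
      exact hz _ (by omega)
    simp only [e]
    refine le_of_eq (Finset.sum_subset (Finset.range_mono (show r ≤ N by omega)) fun i _ hi => ?_).symm
    simp only [Finset.mem_range, not_lt] at hi
    rw [Finset.Ico_eq_empty_of_le hi, Finset.sum_empty]
  have htri : ∑ i ∈ Finset.range r, ∑ l ∈ Finset.Ico i r, (r - l + 1).choose 2 = (r + 3).choose 4 := by
    rw [← sum_triangle r]
    refine Finset.sum_congr rfl fun i _ => ?_
    rw [Finset.sum_Ico_eq_sum_range]
    refine Finset.sum_congr rfl fun j hj => ?_
    have := Finset.mem_range.1 hj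
    congr 1; omega
  refine ⟨htot.trans ((Finset.sum_le_sum fun i hi => hsuf i (Finset.mem_range.1 hi).le).trans htri.le), fun he => ?_⟩
  refine eq_pow_of_suffix π hπ hI hN hd fun j hj => ?_
  by_contra hne
  have := Finset.sum_lt_sum (s := Finset.range r) (fun i hi => hsuf i (Finset.mem_range.1 hi).le)
    ⟨j, Finset.mem_range.2 hj, lt_of_le_of_ne (hsuf j hj.le) hne⟩
  omega

include hI in
theorem finrank_sliceX (hN : ∀ a c, N ≤ a ∨ N ≤ c → stair I (Equiv.refl (Fin 3)) a c = 0) (i : ℕ) :
    Module.finrank k (MvPolynomial (Fin 2) k ⧸ sliceX I i) = slc I (Equiv.refl (Fin 3)) N i := by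
  classical
  set π := Equiv.refl (Fin 3)
  have hm : ∀ f : MvPolynomial (Fin 2) k, f ∈ sliceX I i ↔ rename Fin.succ f * X (0 : Fin 3) ^ i ∈ I := fun f => by
    rw [sliceX, Ideal.mem_comap, Submodule.mem_colon_singleton, smul_eq_mul]
    rfl
  have he : ∀ β : Fin 2 →₀ ℕ, Finsupp.mapDomain Fin.succ β + Finsupp.single 0 i = expo π i (β 0) (β 1) := fun β => by
    ext x
    refine Fin.cases ?_ (fun y => ?_) x
    · have h0 : Finsupp.mapDomain Fin.succ β (0 : Fin 3) = 0 :=
        Finsupp.mapDomain_notin_range β (0 : Fin 3) fun ⟨(x : Fin 2), hx⟩ => Fin.succ_ne_zero x hx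
      simp [π, h0]
    · rw [Finsupp.add_apply, Finsupp.mapDomain_apply (Fin.succ_injective _)]
      fin_cases y <;> simp [π]
  have hexp : ∀ β, β ∈ exps (sliceX I i) ↔ stair I π i (β 0) ≤ β 1 := fun β => by
    rw [← mem_exps_expo_iff π hI.1]
    change monomial β (1 : k) ∈ sliceX I i ↔ _
    rw [hm, rename_monomial, X_pow_eq_monomial, monomial_mul, one_mul, he]
    rfl
  have hM : IsMonomial (sliceX I i) := fun f hf β hβ => by
    rw [show monomial β (1 : k) ∈ sliceX I i ↔ β ∈ exps (sliceX I i) from Iff.rfl, hexp,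
      ← mem_exps_expo_iff π hI.1, ← he]
    refine hI.1 _ ((hm f).1 hf) _ ?_
    rw [mem_support_iff, X_pow_eq_monomial, coeff_mul_monomial, mul_one, coeff_rename_mapDomain _ (Fin.succ_injective _)]
    exact mem_support_iff.1 hβ
  let T := (Finset.range N).sigma fun c => Finset.range (stair I π i c)
  have hspan : (⊤ : Submodule k (MvPolynomial (Fin 2) k ⧸ sliceX I i)) ≤ Submodule.span k
      (Set.range fun β : ↥((exps (sliceX I i))ᶜ) => Ideal.Quotient.mk (sliceX I i) (monomial (β : Fin 2 →₀ ℕ) (1 : k))) := by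
    intro x _
    obtain ⟨f, rfl⟩ := Ideal.Quotient.mk_surjective x
    rw [as_sum f, map_sum]
    refine Submodule.sum_mem _ fun β _ => ?_
    rw [show monomial β (coeff β f) = coeff β f • monomial β (1 : k) by rw [smul_monomial, smul_eq_mul, mul_one]]
    change coeff β f • Ideal.Quotient.mk (sliceX I i) (monomial β (1 : k)) ∈ _
    refine Submodule.smul_mem _ _ ?_
    by_cases hβ : β ∈ exps (sliceX I i)
    · rw [mk_monomial_eq_zero_iff.2 hβ]; exact zero_mem _
    · exact Submodule.subset_span ⟨⟨β, hβ⟩, rfl⟩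
  rw [Module.finrank_eq_nat_card_basis (Module.Basis.mk (linearIndependent_standard hM) hspan), slc,
    Finset.sum_congr rfl (fun c (_ : c ∈ Finset.range N) => (Finset.card_range (stair I π i c)).symm),
    ← Finset.card_sigma, ← Nat.card_eq_finsetCard]
  refine Nat.card_congr (Equiv.ofBijective
    (fun v => ⟨Finsupp.equivFunOnFinite.symm ![v.1.1, v.1.2], fun h => absurd ((hexp _).1 h)
      (not_le.2 (by simpa using Finset.mem_range.1 (Finset.mem_sigma.1 v.2).2))⟩) ⟨?_, ?_⟩).symm
  · rintro ⟨⟨a, c⟩, _⟩ ⟨⟨a', c'⟩, _⟩ e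
    have e0 := DFunLike.congr_fun (congrArg Subtype.val e) 0
    have e1 := DFunLike.congr_fun (congrArg Subtype.val e) 1
    simp at e0 e1
    subst e0 e1
    rfl
  · rintro ⟨β, hβ⟩
    have hlt : β 1 < stair I π i (β 0) := not_le.1 fun h => hβ ((hexp β).2 h)
    refine ⟨⟨⟨β 0, β 1⟩, Finset.mem_sigma.2 ⟨Finset.mem_range.2 ?_, Finset.mem_range.2 hlt⟩⟩, Subtype.ext ?_⟩
    · by_contra h
      rw [hN _ _ (Or.inr (not_lt.1 h))] at hlt
      omega
    · ext x; fin_cases x <;> simp

end GrothLib.HilbPn
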