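import Groth.Agent.Lib.HilbPn.Comp
import Mathlib.RingTheory.MvPolynomial.Ideal
import Mathlib.Data.Finsupp.Weight
import Mathlib.Data.Finsupp.Multiset
import Mathlib.Data.Sym.Card
import Mathlib.Data.Finsupp.Interval

/-!
# The powers of the irrelevant ideal
-/

namespace GrothLib.HilbPn

open MvPolynomial W4c1hilbpn

universe u

variable {σ : Type} {k : Type u} [Field k]

theorem isMonomial_pow (r : ℕ) : IsMonomial ((idealOfVars σ k) ^ r) := fun p hp β hβ =>
  (monomial_mem_pow_idealOfVars_iff r β one_ne_zero).2 ((mem_pow_idealOfVars_iff r p).1 hp β hβ)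

theorem mem_exps_pow [Fintype σ] {r : ℕ} {β : σ →₀ ℕ} :
    β ∈ exps ((idealOfVars σ k) ^ r) ↔ r ≤ ∑ i, β i := by
  rw [← Finsupp.degree_eq_sum]
  exact monomial_mem_pow_idealOfVars_iff r β one_ne_zero

theorem finite_of_finite_compl_exps {I : Ideal (MvPolynomial σ k)} (hfin : (exps I)ᶜ.Finite) :
    Module.Finite k (MvPolynomial σ k ⧸ I) := by
  classical
  refine ⟨⟨hfin.toFinset.image fun β => Ideal.Quotient.mk I (monomial β (1 : k)), eq_top_iff.2 fun q _ => ?_⟩⟩
  obtain ⟨p, rfl⟩ := Ideal.Quotient.mk_surjective q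
  rw [as_sum p, map_sum]
  refine Submodule.sum_mem _ fun β _ => ?_
  rw [show Ideal.Quotient.mk I (monomial β (coeff β p)) = coeff β p • Ideal.Quotient.mk I (monomial β (1 : k)) by
    rw [show monomial β (coeff β p) = coeff β p • monomial β (1 : k) by rw [smul_monomial, smul_eq_mul, mul_one]]
    rfl]
  refine Submodule.smul_mem _ _ ?_
  by_cases hβ : β ∈ exps I
  · rw [mk_monomial_eq_zero_iff.2 hβ]; exact zero_mem _
  · refine Submodule.subset_span ?_
    rw [Finset.coe_image]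
    exact ⟨β, hfin.mem_toFinset.2 hβ, rfl⟩

theorem finite_quotient_pow [Fintype σ] (r : ℕ) :
    Module.Finite k (MvPolynomial σ k ⧸ (idealOfVars σ k) ^ r) := by
  classical
  refine finite_of_finite_compl_exps ((Set.finite_Iic (Finsupp.equivFunOnFinite.symm fun _ => r)).subset ?_)
  intro β hβ i
  have h := Finset.single_le_sum (f := fun j => β j) (fun j _ => Nat.zero_le _) (Finset.mem_univ i)
  have : ¬ r ≤ ∑ j, β j := fun h' => hβ (mem_exps_pow.2 h')
  change β i ≤ r
  omega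

variable [Fintype σ] {r : ℕ} {α : σ → ℤ}

local notation "𝔪" => idealOfVars σ k

theorem sum_tr (α : σ → ℤ) (β : σ →₀ ℕ) : ∑ i, tr α β i = ((∑ i, β i : ℕ) : ℤ) + ∑ i, α i := by
  simp [tr, Finset.sum_add_distrib]

theorem sum_lt_of_mem_region {γ : σ → ℤ} (h : γ ∈ region (𝔪 ^ r) α) (hn : ∀ i, 0 ≤ γ i) :
    ∑ i, γ i < (r : ℤ) := by
  have h1 := pos_notMem_of_nonneg h hn
  rw [mem_exps_pow, not_le] at h1
  have : ((∑ i, pos γ i : ℕ) : ℤ) = ∑ i, γ i := by
    push_cast
    exact Finset.sum_congr rfl fun i _ => by have := hn i; simp; omega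
  omega

theorem le_sum_of_mem_region {γ : σ → ℤ} (h : γ ∈ region (𝔪 ^ r) α) :
    (r : ℤ) + ∑ i, α i ≤ ∑ i, γ i := by
  obtain ⟨⟨β, hβ, rfl⟩, -⟩ := mem_region_iff.1 h
  rw [sum_tr]
  have := mem_exps_pow.1 hβ
  omega

theorem tr_mem_region {β : σ →₀ ℕ} (hβ : r ≤ ∑ i, β i) (h : ((∑ i, β i : ℕ) : ℤ) + ∑ i, α i < r) :
    tr α β ∈ region (𝔪 ^ r) α := by
  refine mem_region_iff.2 ⟨⟨β, mem_exps_pow.2 hβ, rfl⟩, fun hh => ?_⟩
  have h1 := mem_exps_pow.1 hh.2
  have h2 : ((∑ i, pos (tr α β) i : ℕ) : ℤ) = ∑ i, tr α β i := by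
    push_cast
    exact Finset.sum_congr rfl fun i _ => by have := hh.1 i; simp; omega
  rw [sum_tr] at h2
  omega

theorem not_finite_of_sum_le [Nontrivial σ] (hs : ∑ i, α i ≤ -2) {γ : σ → ℤ} (h : γ ∈ region (𝔪 ^ r) α) :
    ¬ ((regGraph (𝔪 ^ r) α).connectedComponentMk ⟨γ, h⟩).supp.Finite := by
  classical
  obtain ⟨i, hi⟩ : ∃ i, α i < 0 := by
    by_contra hno; push Not at hno
    have := Finset.sum_nonneg fun i (_ : i ∈ (Finset.univ : Finset σ)) => hno i
    omega
  obtain ⟨j, hj⟩ := exists_ne i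
  obtain ⟨N, hN⟩ : ∃ N : ℕ, γ i < N := ⟨(γ i).toNat + 1, by omega⟩
  induction N using Nat.strong_induction_on generalizing γ with
  | _ N ih =>
  by_cases hneg : ∃ l, γ l < 0
  · exact not_finite_of_neg h hneg.choose_spec
  push Not at hneg
  have hsum := sum_lt_of_mem_region h hneg
  obtain ⟨hβ, hγ⟩ := back_spec h
  rw [mem_exps_pow] at hβ
  set β := back α γ with hβdef
  rw [← hγ, sum_tr] at hsum
  have hβi : 1 ≤ β i := by
    have h1 := congrFun hγ i; have := hneg i
    rw [tr_apply] at h1; omega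
  -- reach a point with the same `i`-th coordinate from which one may step down in direction `i`
  obtain ⟨β₁, hb1, hb1', hb1i, hb1R, hb1c⟩ : ∃ β₁ : σ →₀ ℕ, r + 1 ≤ ∑ l, β₁ l ∧
      ((∑ l, β₁ l : ℕ) : ℤ) + ∑ l, α l < r ∧ β₁ i = β i ∧ ∃ hR : tr α β₁ ∈ region (𝔪 ^ r) α,
      (regGraph (𝔪 ^ r) α).connectedComponentMk ⟨_, hR⟩ =
        (regGraph (𝔪 ^ r) α).connectedComponentMk ⟨γ, h⟩ := by
    have hR : tr α β ∈ region (𝔪 ^ r) α := hγ.symm ▸ h
    by_cases hlt : r + 1 ≤ ∑ l, β l
    · exact ⟨β, hlt, hsum, rfl, hR, by congr⟩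
    · have e : ∑ l, (β + Finsupp.single j 1 : σ →₀ ℕ) l = ∑ l, β l + 1 := by
        rw [← Finsupp.degree_eq_sum, map_add, Finsupp.degree_single, Finsupp.degree_eq_sum]
      refine ⟨β + Finsupp.single j 1, by omega, by omega,
        by simp [Finsupp.single_eq_of_ne (Ne.symm hj)], tr_mem_region (by omega) (by omega), ?_⟩
      rw [← reg_adj_tr hR (tr_mem_region (by omega) (by omega))]
      congr
  have e : β₁ = (β₁ - Finsupp.single i 1) + Finsupp.single i 1 :=
    (tsub_add_cancel_of_le (Finsupp.single_le_iff.2 (by omega))).symm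
  set β₂ := β₁ - Finsupp.single i 1 with hβ2
  have esum : ∑ l, β₁ l = ∑ l, β₂ l + 1 := by
    rw [e, ← Finsupp.degree_eq_sum, map_add, Finsupp.degree_single, Finsupp.degree_eq_sum]
  have hR2 : tr α β₂ ∈ region (𝔪 ^ r) α := tr_mem_region (by omega) (by omega)
  have hadj := reg_adj_tr hR2 (show tr α (β₂ + Finsupp.single i 1) ∈ _ from e ▸ hb1R)
  rw [← hb1c]
  have key : (regGraph (𝔪 ^ r) α).connectedComponentMk ⟨_, hb1R⟩ =
      (regGraph (𝔪 ^ r) α).connectedComponentMk ⟨_, hR2⟩ := by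
    rw [hadj]; congr
  rw [key]
  refine ih (N - 1) ?_ hR2 ?_
  · have := hneg i; omega
  · have h1 := congrFun hγ i
    have h2 : β₁ i = β₂ i + 1 := by rw [e]; simp
    have := hneg i
    rw [tr_apply] at h1 ⊢
    omega

theorem comp_supp_eq_singleton [Nontrivial σ] (hs : ∑ i, α i = -1) {γ : σ → ℤ} (h : γ ∈ region (𝔪 ^ r) α)
    (hn : ∀ i, 0 ≤ γ i) : ((regGraph (𝔪 ^ r) α).connectedComponentMk ⟨γ, h⟩).supp = {⟨γ, h⟩} := by
  classical
  have hγ := sum_lt_of_mem_region h hn
  have hγ' := le_sum_of_mem_region h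
  have hno : ∀ b : region (𝔪 ^ r) α, ¬ (regGraph (𝔪 ^ r) α).Adj ⟨γ, h⟩ b := by
    intro b hadj
    have hb' := le_sum_of_mem_region b.2
    obtain ⟨i, e | e⟩ := step_cases (show (stepGraph σ).Adj γ b.1 from hadj)
    · have hnb : ∀ l, 0 ≤ b.1 l := fun l => by
        have := hn l
        by_cases hl : l = i <;> simp [e, hl] <;> (try subst hl) <;> omega
      have hb := sum_lt_of_mem_region b.2 hnb
      have : ∑ l, b.1 l = ∑ l, γ l + 1 := by simp [e, Finset.sum_add_distrib]
      omega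
    · have : ∑ l, γ l = ∑ l, b.1 l + 1 := by simp [e, Finset.sum_add_distrib]
      omega
  ext b
  simp only [SimpleGraph.ConnectedComponent.mem_supp_iff, SimpleGraph.ConnectedComponent.eq, Set.mem_singleton_iff]
  refine ⟨fun hr => ?_, fun e => e ▸ SimpleGraph.Reachable.refl _⟩
  obtain ⟨w⟩ := hr.symm
  cases w with
  | nil => rfl
  | cons h' _ => exact absurd h' (hno _)

theorem natCard_degree (N : ℕ) :
    Nat.card {t : σ →₀ ℕ // ∑ i, t i = N} = (Fintype.card σ + N - 1).choose N := by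
  classical
  rw [← Sym.card_sym_eq_choose (α := σ), ← Nat.card_eq_fintype_card]
  refine Nat.card_congr ((Equiv.subtypeEquivRight fun t => ?_).trans (Sym.equivNatSum σ N).symm)
  rw [← Finsupp.degree_eq_sum]
  rfl

/-- The number of bounded components for a power of the irrelevant ideal. -/
theorem nBddComp_pow [Nontrivial σ] (r : ℕ) (α : σ → ℤ) :
    nBddComp (𝔪 ^ r) α = if (∑ i, α i = -1 ∧ ∑ i, (-α i).toNat ≤ r)
      then Nat.choose (Fintype.card σ + r - (∑ i, (-α i).toNat) - 1) (Fintype.card σ - 1) else 0 := by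
  classical
  change Nat.card (BddComp (𝔪 ^ r) α) = _
  set a : σ →₀ ℕ := pos α with ha
  set w := ∑ i, (-α i).toNat with hw
  have hasum : ((∑ i, a i : ℕ) : ℤ) = ∑ i, α i + w := by
    rw [hw]; push_cast; rw [← Finset.sum_add_distrib]
    exact Finset.sum_congr rfl fun i _ => by simp [ha]; omega
  have hout : ∀ c : BddComp (𝔪 ^ r) α, (∀ i, 0 ≤ (Quot.out c.1 : region (𝔪 ^ r) α).1 i) ∧
      ((regGraph (𝔪 ^ r) α).connectedComponentMk (Quot.out c.1)).supp.Finite := fun c => by
    have e : (regGraph (𝔪 ^ r) α).connectedComponentMk (Quot.out c.1) = c.1 := Quot.out_eq _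
    exact ⟨nonneg_of_bdd (Quot.out c.1).2 (e.symm ▸ c.2), e.symm ▸ c.2⟩
  have hmem : ∀ c : BddComp (𝔪 ^ r) α, ∑ i, α i = -1 ∧ ∑ i, (Quot.out c.1 : region (𝔪 ^ r) α).1 i = (r : ℤ) - 1 := by
    intro c
    obtain ⟨hn, hf⟩ := hout c
    have h1 := sum_lt_of_mem_region (Quot.out c.1).2 hn
    have h2 := le_sum_of_mem_region (Quot.out c.1).2
    have h3 : ¬ ∑ i, α i ≤ -2 := fun hs => not_finite_of_sum_le hs (Quot.out c.1).2 hf
    omega
  have hge : ∀ (γ : σ → ℤ), γ ∈ region (𝔪 ^ r) α → (∀ i, 0 ≤ γ i) → ∀ i, (a i : ℤ) ≤ γ i := by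
    intro γ hγ hn i
    obtain ⟨⟨β, hβ, rfl⟩, -⟩ := mem_region_iff.1 hγ
    have := hn i
    simp only [ha, pos_apply, tr_apply] at *
    omega
  split_ifs with hcond
  · obtain ⟨hs, hwr⟩ := hcond
    have hmemR : ∀ t : {t : σ →₀ ℕ // ∑ i, t i = r - w},
        (fun i => ((a + t.1) i : ℤ)) ∈ region (𝔪 ^ r) α := by
      intro t
      have e : (fun i => ((a + t.1) i : ℤ)) = tr α (pos (fun i => -α i) + t.1) := funext fun i => by
        simp [ha, tr_apply]; omega
      have esum : ∑ i, (pos (fun i => -α i) + t.1) i = r := by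
        simp only [Finsupp.add_apply, Finset.sum_add_distrib, pos_apply, ← hw, t.2]; omega
      rw [e]
      exact tr_mem_region esum.ge (by rw [esum, hs]; omega)
    let F : {t : σ →₀ ℕ // ∑ i, t i = r - w} → BddComp (𝔪 ^ r) α := fun t =>
      ⟨(regGraph (𝔪 ^ r) α).connectedComponentMk ⟨_, hmemR t⟩, by
        rw [comp_supp_eq_singleton hs _ fun i => by positivity]; exact Set.finite_singleton _⟩
    have hF : Function.Bijective F := by
      constructor
      · intro t t' e
        have hh : (⟨_, hmemR t⟩ : region (𝔪 ^ r) α) ∈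
            ((regGraph (𝔪 ^ r) α).connectedComponentMk ⟨_, hmemR t'⟩).supp := congrArg Subtype.val e
        rw [comp_supp_eq_singleton hs _ fun i => by positivity] at hh
        refine Subtype.ext (Finsupp.ext fun i => ?_)
        have := congrFun (congrArg Subtype.val (Set.mem_singleton_iff.1 hh)) i
        simpa using this
      · intro c
        obtain ⟨hn, -⟩ := hout c
        set γ := (Quot.out c.1 : region (𝔪 ^ r) α).1 with hγdef
        have hg := hge γ (Quot.out c.1).2 hn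
        refine ⟨⟨pos (fun i => γ i - a i), ?_⟩, Subtype.ext ?_⟩
        · have e1 : ((∑ i, pos (fun i => γ i - a i) i : ℕ) : ℤ) = ∑ i, γ i - (∑ i, a i : ℕ) := by
            push_cast; rw [← Finset.sum_sub_distrib]
            exact Finset.sum_congr rfl fun i _ => by have := hg i; simp; omega
          have := (hmem c).2
          rw [← hγdef] at this
          omega
        · refine Eq.trans ?_ (Quot.out_eq c.1)
          change (regGraph (𝔪 ^ r) α).connectedComponentMk _ = (regGraph (𝔪 ^ r) α).connectedComponentMk _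
          congr 1
          refine Subtype.ext (funext fun i => ?_)
          have := hg i
          simp [← hγdef]; omega
    rw [← Nat.card_congr (Equiv.ofBijective F hF), natCard_degree]
    have hc : 1 ≤ Fintype.card σ := Fintype.card_pos
    rw [show Fintype.card σ + r - w - 1 = Fintype.card σ + (r - w) - 1 by omega,
      ← Nat.choose_symm (n := Fintype.card σ + (r - w) - 1) (k := Fintype.card σ - 1) (by omega)]
    congr 1; omega
  · haveI : IsEmpty (BddComp (𝔪 ^ r) α) := ⟨fun c => by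
      obtain ⟨hs, hγ⟩ := hmem c
      refine hcond ⟨hs, ?_⟩
      have := Finset.sum_le_sum (s := Finset.univ) fun i _ => hge _ (Quot.out c.1).2 (hout c).1 i
      push_cast at hasum
      omega⟩
    exact Nat.card_of_isEmpty

end GrothLib.HilbPn
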