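import Groth.Agent.Lib.HilbPn.Hom0
import Groth.Agent.Lib.HilbPn.Pow

/-!
# Degree-zero homomorphisms for the two-block Borel ideals `x₀(x₀,…,x_{n-1}) + J`
-/

namespace GrothLib.HilbPn

open MvPolynomial W4c1hilbpn

universe u

variable {n : ℕ}

/-- Unit vector. -/
noncomputable abbrev e1v (i : Fin (n + 1)) : Fin (n + 1) →₀ ℕ := Finsupp.single i 1

/-- The generators `x₀ x_i`. -/
noncomputable def gz (i : Fin (n + 1)) : Fin (n + 1) →₀ ℕ := e1v 0 + e1v i

theorem gz_inj {i l : Fin (n + 1)} (h : gz i = gz l) : i = l :=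
  Finsupp.single_left_injective one_ne_zero (add_left_cancel h)

theorem sum_e1v (i : Fin (n + 1)) : ∑ x, e1v i x = 1 := by
  rw [← Finsupp.degree_eq_sum, Finsupp.degree_single]

theorem e1v_le {T : Fin (n + 1) →₀ ℕ} {i : Fin (n + 1)} (h : 0 < T i) : e1v i ≤ T := Finsupp.single_le_iff.2 h

theorem sum_eq_one {T : Fin (n + 1) →₀ ℕ} (h : ∑ x, T x = 1) {i : Fin (n + 1)} (hi : 0 < T i) : T = e1v i := by
  have e : T - e1v i + e1v i = T := tsub_add_cancel_of_le (e1v_le hi)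
  have := congrArg Finsupp.degree e
  rw [map_add, Finsupp.degree_single, Finsupp.degree_eq_sum T, h] at this
  have h0 : T - e1v i = 0 := (Finsupp.degree_eq_zero_iff _).1 (by omega)
  rw [← e, h0, zero_add]

theorem exists_pos {T : Fin (n + 1) →₀ ℕ} (h : 0 < ∑ x, T x) : ∃ i, 0 < T i := by
  by_contra hno
  push Not at hno
  rw [Finset.sum_eq_zero fun x _ => Nat.le_zero.1 (hno x)] at h
  exact lt_irrefl _ h

theorem sum_eq_two {T : Fin (n + 1) →₀ ℕ} (h : ∑ x, T x = 2) {i : Fin (n + 1)} (hi : 0 < T i) :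
    ∃ l, T = e1v i + e1v l := by
  have e : T - e1v i + e1v i = T := tsub_add_cancel_of_le (e1v_le hi)
  have := congrArg Finsupp.degree e
  rw [map_add, Finsupp.degree_single, Finsupp.degree_eq_sum T, h] at this
  have h1 : ∑ x, (T - e1v i : Fin (n + 1) →₀ ℕ) x = 1 := by rw [← Finsupp.degree_eq_sum]; omega
  obtain ⟨l, hl⟩ := exists_pos (h1.symm ▸ Nat.one_pos)
  exact ⟨l, by conv_lhs => rw [← e, sum_eq_one h1 hl, add_comm]⟩

theorem sum_gz (i : Fin (n + 1)) : ∑ x, gz i x = 2 := by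
  rw [gz, ← Finsupp.degree_eq_sum, map_add, Finsupp.degree_single, Finsupp.degree_single]

variable {k : Type u} [Field k] {I : Ideal (MvPolynomial (Fin (n + 1)) k)} {J : Set (Fin (n + 1) →₀ ℕ)}
  (hI : IsMonomial I)
  (hexp : ∀ β, β ∈ exps I ↔ (∃ i : Fin (n + 1), i.val < n ∧ gz i ≤ β) ∨ β ∈ J)
  (hJ : ∀ β ∈ J, ∃ x : Fin (n + 1), 1 ≤ x.val ∧ x.val < n ∧ 0 < β x)

include hexp in
theorem gz_mem {i : Fin (n + 1)} (hi : i.val < n) : gz i ∈ exps I := (hexp _).2 (Or.inl ⟨i, hi, le_rfl⟩)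

include hexp in
theorem mem_of_two {β : Fin (n + 1) →₀ ℕ} {x : Fin (n + 1)} (h0 : 0 < β 0) (hx : x.val < n) (hx0 : x ≠ 0)
    (h : 0 < β x) : β ∈ exps I :=
  (hexp β).2 <| Or.inl ⟨x, hx, fun y => by
    simp only [gz, e1v, Finsupp.add_apply, Finsupp.single_apply]
    split_ifs <;> subst_vars <;> first | omega | exact absurd rfl hx0⟩

include hexp in
theorem mem_of_sq {β : Fin (n + 1) →₀ ℕ} (hn : 0 < n) (h0 : 2 ≤ β 0) : β ∈ exps I :=
  (hexp β).2 <| Or.inl ⟨0, by simpa using hn, fun y => by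
    simp only [gz, e1v, Finsupp.add_apply, Finsupp.single_apply]
    split_ifs <;> subst_vars <;> omega⟩

include hexp in
theorem mem_J_of_zero {β : Fin (n + 1) →₀ ℕ} (h0 : β 0 = 0) (h : β ∈ exps I) : β ∈ J :=
  ((hexp β).1 h).resolve_left fun ⟨i, _, hle⟩ => by
    have := hle 0
    simp [gz, e1v, h0] at this

include hexp hJ in
theorem socle_notMem (hn : 0 < n) (t : ℕ) : e1v 0 + Finsupp.single (Fin.last n) t ∉ exps I := by
  rw [hexp]
  rintro (⟨i, hi, hle⟩ | h)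
  · by_cases h0 : i = 0
    · subst h0
      have := hle 0
      simp [gz, e1v, Finsupp.single_apply, Fin.ext_iff, Fin.val_last, Nat.pos_iff_ne_zero.1 hn] at this
    · have := hle i
      have hil : i ≠ Fin.last n := fun e => by rw [e] at hi; simp at hi
      simp [gz, e1v, Ne.symm h0, Ne.symm hil, h0, hil] at this
  · obtain ⟨x, hx1, hxn, hpos⟩ := hJ _ h
    have h0 : x ≠ 0 := fun e => by rw [e] at hx1; simp at hx1
    have hl : x ≠ Fin.last n := fun e => by rw [e] at hxn; simp at hxn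
    simp [e1v, h0, hl, Ne.symm h0, Ne.symm hl] at hpos

include hexp in
theorem std_of_pos {T : Fin (n + 1) →₀ ℕ} (hn : 0 < n) (h0 : 0 < T 0) (hT : T ∉ exps I) :
    ∃ t, T = e1v 0 + Finsupp.single (Fin.last n) t := by
  refine ⟨T (Fin.last n), Finsupp.ext fun x => ?_⟩
  have hne : (0 : Fin (n + 1)) ≠ Fin.last n := fun e => by
    have := congrArg Fin.val e; simp at this; omega
  by_cases hx0 : x = 0
  · subst hx0
    have : ¬ 2 ≤ T 0 := fun h => hT (mem_of_sq hexp hn h)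
    simp [e1v, Ne.symm hne, hne]; omega
  by_cases hxl : x = Fin.last n
  · subst hxl; simp [e1v, Ne.symm hne, hne]
  · have hxn : x.val < n := by
      have := x.isLt
      have : x.val ≠ n := fun e => hxl (Fin.ext (by simpa using e))
      omega
    have : ¬ 0 < T x := fun h => hT (mem_of_two hexp h0 hxn hx0 h)
    simp [e1v, hx0, hxl, Ne.symm hx0, Ne.symm hxl]; omega

/-- Vanishing of the values at the generators `x₀ x_i`. -/
theorem cf_gz_eq_zero (hI : IsMonomial I)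
    (hexp : ∀ β, β ∈ exps I ↔ (∃ i : Fin (n + 1), i.val < n ∧ gz i ≤ β) ∨ β ∈ J)
    {s : Fin (n + 1)} (hs : s.val < n) (hs0 : s ≠ 0) {φ : Tgt I} (hφ : φ ∈ hom0 I)
    (ha : ∀ i : Fin (n + 1), i.val < n → cf hI (gz i) (e1v 0 + e1v (Fin.last n)) φ = 0)
    (hL : ∀ l : Fin (n + 1), l ≠ 0 → cf hI (gz s) (e1v s + e1v l) φ = 0)
    (hS : ∀ T : Fin (n + 1) →₀ ℕ, ∑ x, T x = 2 → T 0 = 0 → T ∉ exps I →
      e1v s + T ∈ exps I → ∀ i : Fin (n + 1), i.val < n → cf hI (gz i) T φ = 0)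
    (hO : ∀ T : Fin (n + 1) →₀ ℕ, ∑ x, T x = 2 → T 0 = 0 → T ∉ exps I → T s = 0 →
      (∃ o : Fin (n + 1), o.val < n ∧ o ≠ 0 ∧ o ≠ s ∧ e1v o + T ∉ exps I) ∨ cf hI (gz s) T φ = 0)
    (i : Fin (n + 1)) (hi : i.val < n) (T : Fin (n + 1) →₀ ℕ) : cf hI (gz i) T φ = 0 := by
  by_cases hT : T ∈ exps I
  · exact cf_eq_zero_of_mem hI _ hT φ
  by_cases hdeg : ∑ x, T x = ∑ x, gz i x
  swap
  · exact cf_eq_zero_of_degree hI hdeg hφ
  rw [sum_gz] at hdeg
  by_cases h0 : 0 < T 0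
  · obtain ⟨t, rfl⟩ := std_of_pos hexp (by omega) h0 hT
    rw [← Finsupp.degree_eq_sum, map_add, Finsupp.degree_single, Finsupp.degree_single] at hdeg
    obtain rfl : t = 1 := by omega
    exact ha i hi
  have hT0 : T 0 = 0 := by omega
  have rel : ∀ o : Fin (n + 1), o.val < n → o ≠ 0 → o ≠ i → e1v o + T ∉ exps I →
      cf hI (gz i) T φ = if e1v i ≤ e1v o + T then cf hI (gz o) (e1v o + T - e1v i) φ else 0 :=
    fun o ho ho0 _ hU => cf_rel hI (gz_mem hexp hi) (gz_mem hexp ho) (by simp only [gz]; abel) hU φ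
  have htgt : ∀ o : Fin (n + 1), o ≠ i → e1v i ≤ e1v o + T → ∃ l, T = e1v i + e1v l := fun o ho hle => by
    refine sum_eq_two hdeg ?_
    have := hle i
    simp [e1v, ho, Ne.symm ho] at this
    omega
  by_cases his : i = s
  · subst his
    by_cases hTs : 0 < T i
    · obtain ⟨l, rfl⟩ := sum_eq_two hdeg hTs
      refine hL l fun e => ?_
      subst e; simp [e1v] at hT0
    · rcases hO T hdeg hT0 hT (by omega) with ⟨o, ho, ho0, hos, hU⟩ | h
      · rw [rel o ho ho0 hos hU, if_neg]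
        intro hle
        obtain ⟨l, e⟩ := htgt o hos hle
        rw [e] at hTs; simp [e1v] at hTs
      · exact h
  · by_cases hU : e1v s + T ∈ exps I
    · exact hS T hdeg hT0 hT hU i hi
    rw [rel s hs hs0 (Ne.symm his) hU]
    split_ifs with hle
    · obtain ⟨l, rfl⟩ := htgt s (Ne.symm his) hle
      rw [show e1v s + (e1v i + e1v l) - e1v i = e1v s + e1v l by rw [add_left_comm, add_tsub_cancel_left]]
      refine hL l fun e => ?_
      subst e; simp [e1v] at hT0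
    · rfl

/-- The conditions for a socle-valued map on one generator. -/
theorem translData_gen {G : Set (Fin (n + 1) →₀ ℕ)} (hG : ∀ β ∈ exps I, ∃ g ∈ G, g ≤ β)
    {A T : Fin (n + 1) →₀ ℕ} (hdeg : ∑ x, T x = ∑ x, A x)
    (h : ∀ g ∈ G, g ≠ A → g - A + T ∈ exps I) : TranslData I {β | A ≤ β} A T where
  up β hβ γ := show A ≤ γ + β from le_trans (show A ≤ β from hβ) le_add_self
  le β hβ := hβ
  deg := hdeg
  out β hβ hP γ hγ := by
    obtain ⟨g, hg, hle⟩ := hG β hβ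
    have hne : g ≠ A := fun e => hP (e ▸ hle)
    have hh : g - A + T ≤ γ + β - A + T := add_le_add (tsub_le_tsub_right (hle.trans le_add_self) A) le_rfl
    rw [← add_tsub_cancel_of_le hh]
    exact add_mem_exps (h g hg hne) _

end GrothLib.HilbPn
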