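import Mathlib.LinearAlgebra.Matrix.Rank
import Mathlib.LinearAlgebra.FiniteDimensional.Lemmas
import Mathlib.Algebra.BigOperators.Fin
import Mathlib.Tactic.LinearCombination

/-!
# Duality for staircase functions

`b : ℕ → ℕ → ℕ` is antitone in both arguments and of finite support. `Col b α` is the combinatorial
model of a multigraded piece of `Hom(I, S/I)` for the ideal with staircase `b`.
-/

namespace GrothLib.HilbPn

universe u

variable {k : Type u} [Field k]

/-- `(x, y, z)` is a standard exponent for the staircase `b`. -/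
def Std (b : ℕ → ℕ → ℕ) (x y z : ℤ) : Prop :=
  0 ≤ x ∧ 0 ≤ y ∧ 0 ≤ z ∧ z < (b x.toNat y.toNat : ℤ)

/-- Values on column generators of maps of multidegree `(p, q, r)`. -/
def Col (k : Type u) [Field k] (b : ℕ → ℕ → ℕ) (p q r : ℤ) : Submodule k (ℕ → ℕ → k) where
  carrier := {g | (∀ a c : ℕ, ¬ Std b (a + p) (c + q) (b a c + r) → g a c = 0) ∧
    (∀ a c : ℕ, Std b (a + 1 + p) (c + q) (b a c + r) → g (a + 1) c = g a c) ∧
    (∀ a c : ℕ, Std b (a + p) (c + 1 + q) (b a c + r) → g a (c + 1) = g a c)}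
  zero_mem' := ⟨fun _ _ _ => rfl, fun _ _ _ => rfl, fun _ _ _ => rfl⟩
  add_mem' {f g} hf hg := ⟨fun a c h => by simp [hf.1 a c h, hg.1 a c h],
    fun a c h => by simp [hf.2.1 a c h, hg.2.1 a c h], fun a c h => by simp [hf.2.2 a c h, hg.2.2 a c h]⟩
  smul_mem' t g hg := ⟨fun a c h => by simp [hg.1 a c h], fun a c h => by simp [hg.2.1 a c h],
    fun a c h => by simp [hg.2.2 a c h]⟩

/-- Shift by one in the first argument, zero at the boundary. -/
def pre1 (F : ℕ → ℕ → k) : ℕ → ℕ → k
  | 0, _ => 0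
  | a + 1, c => F a c

/-- Shift by one in the second argument, zero at the boundary. -/
def pre2 (F : ℕ → ℕ → k) : ℕ → ℕ → k
  | _, 0 => 0
  | a, c + 1 => F a c

variable (b : ℕ → ℕ → ℕ) (N i j m : ℕ)

/-- Cells of type `(s, t)` of the relative complex. -/
def cell (s t : ℕ) : Finset (ℕ × ℕ) :=
  (Finset.range N ×ˢ Finset.range N).filter fun v =>
    m < b v.1 v.2 ∧ b v.1 v.2 ≤ b (v.1 + i + s) (v.2 + j + t) + m

variable {b N i j m}
variable (h1 : ∀ a c, b (a + 1) c ≤ b a c) (h2 : ∀ a c, b a (c + 1) ≤ b a c)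
  (hN : ∀ a c, N ≤ a ∨ N ≤ c → b a c = 0)

include hN in
theorem mem_cell {s t a c : ℕ} :
    (a, c) ∈ cell b N i j m s t ↔ m < b a c ∧ b a c ≤ b (a + i + s) (c + j + t) + m := by
  simp only [cell, Finset.mem_filter, Finset.mem_product, Finset.mem_range]
  constructor
  · exact And.right
  · refine fun h => ⟨?_, h⟩
    by_contra hh
    have := hN a c (by omega)
    omega

/-- Extension by zero. -/
def ext0 {C : Finset (ℕ × ℕ)} (g : ↥C → k) (a c : ℕ) : k :=
  if h : (a, c) ∈ C then g ⟨_, h⟩ else 0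

theorem sum_ite_eq_ext0 {C : Finset (ℕ × ℕ)} (g : ↥C → k) (a c : ℕ) :
    ∑ v : ↥C, (if v.1 = (a, c) then g v else 0) = ext0 g a c := by
  rw [ext0]
  split_ifs with h
  · rw [Finset.sum_eq_single ⟨(a, c), h⟩ (fun v _ hv => if_neg fun e => hv (Subtype.ext e))
      (fun h' => absurd (Finset.mem_univ _) h'), if_pos rfl]
  · exact Finset.sum_eq_zero fun v _ => if_neg fun e => h (by rw [← e]; exact v.2)

theorem sum_ite_succ_eq {C : Finset (ℕ × ℕ)} (g : ↥C → k) (a c : ℕ) :
    ∑ v : ↥C, (if (v.1.1 + 1, v.1.2) = (a, c) then g v else 0) = pre1 (ext0 g) a c ∧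
    ∑ v : ↥C, (if (v.1.1, v.1.2 + 1) = (a, c) then g v else 0) = pre2 (ext0 g) a c := by
  constructor
  · cases a with
    | zero => exact Finset.sum_eq_zero fun v _ => if_neg (by simp)
    | succ a => rw [pre1, ← sum_ite_eq_ext0]; simp [Prod.ext_iff]
  · cases c with
    | zero => exact Finset.sum_eq_zero fun v _ => if_neg (by simp)
    | succ c => rw [pre2, ← sum_ite_eq_ext0]; simp [Prod.ext_iff]

variable (b N i j m) in
/-- The coboundary from vertices to edges. -/
def cob (k : Type u) [Field k] :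
    Matrix (↥(cell b N i j m 1 0) ⊕ ↥(cell b N i j m 0 1)) ↥(cell b N i j m 0 0) k :=
  fun e v => e.elim
    (fun w => (if v.1 = (w.1.1 + 1, w.1.2) then 1 else 0) - (if v.1 = (w.1.1, w.1.2) then 1 else 0))
    (fun w => (if v.1 = (w.1.1, w.1.2 + 1) then 1 else 0) - (if v.1 = (w.1.1, w.1.2) then 1 else 0))

theorem cob_mulVec (g : ↥(cell b N i j m 0 0) → k) :
    (∀ w : ↥(cell b N i j m 1 0), (cob b N i j m k).mulVec g (Sum.inl w) =
      ext0 g (w.1.1 + 1) w.1.2 - ext0 g w.1.1 w.1.2) ∧
    (∀ w : ↥(cell b N i j m 0 1), (cob b N i j m k).mulVec g (Sum.inr w) =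
      ext0 g w.1.1 (w.1.2 + 1) - ext0 g w.1.1 w.1.2) := by
  constructor <;> intro w <;>
  simp only [Matrix.mulVec, dotProduct, cob, Sum.elim_inl, Sum.elim_inr, sub_mul, Finset.sum_sub_distrib,
    ite_mul, one_mul, zero_mul, sum_ite_eq_ext0]

theorem cob_transpose_mulVec (f : ↥(cell b N i j m 1 0) ⊕ ↥(cell b N i j m 0 1) → k)
    (v : ↥(cell b N i j m 0 0)) :
    (cob b N i j m k).transpose.mulVec f v =
      (pre1 (ext0 (f ∘ Sum.inl)) v.1.1 v.1.2 - ext0 (f ∘ Sum.inl) v.1.1 v.1.2) +
        (pre2 (ext0 (f ∘ Sum.inr)) v.1.1 v.1.2 - ext0 (f ∘ Sum.inr) v.1.1 v.1.2) := by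
  rw [← (sum_ite_succ_eq (f ∘ Sum.inl) v.1.1 v.1.2).1, ← (sum_ite_succ_eq (f ∘ Sum.inr) v.1.1 v.1.2).2,
    ← sum_ite_eq_ext0 (f ∘ Sum.inl), ← sum_ite_eq_ext0 (f ∘ Sum.inr)]
  simp only [Matrix.mulVec, dotProduct, Matrix.transpose_apply, cob, Fintype.sum_sum_type, Sum.elim_inl,
    Sum.elim_inr, sub_mul, Finset.sum_sub_distrib, ite_mul, one_mul, zero_mul, Function.comp_apply, eq_comm,
    Prod.mk.eta]

variable (b N i j m) in
/-- Square potentials. -/
def Pot (k : Type u) [Field k] : Submodule k (ℕ → ℕ → k) where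
  carrier := {h | (∀ a c, b a c ≤ m → h a c = 0) ∧
    (∀ a c, m < b a c → (a, c) ∉ cell b N i j m 1 0 → h a c = pre2 h a c) ∧
    (∀ a c, m < b a c → (a, c) ∉ cell b N i j m 0 1 → h a c = pre1 h a c)}
  zero_mem' := ⟨fun _ _ _ => rfl, fun a c _ _ => by cases c <;> rfl, fun a c _ _ => by cases a <;> rfl⟩
  add_mem' {f g} hf hg := ⟨fun a c h => by simp [hf.1 a c h, hg.1 a c h],
    fun a c h h' => by
      have e1 := hf.2.1 a c h h'; have e2 := hg.2.1 a c h h'
      cases c <;> simp_all [pre2],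
    fun a c h h' => by
      have e1 := hf.2.2 a c h h'; have e2 := hg.2.2 a c h h'
      cases a <;> simp_all [pre1]⟩
  smul_mem' t g hg := ⟨fun a c h => by simp [hg.1 a c h],
    fun a c h h' => by have e1 := hg.2.1 a c h h'; cases c <;> simp_all [pre2],
    fun a c h h' => by have e1 := hg.2.2 a c h h'; cases a <;> simp_all [pre1]⟩

include h1 h2 hN in
theorem cell_closed {a c s t : ℕ} (h : (a, c) ∈ cell b N i j m s t) :
    (a, c) ∈ cell b N i j m 0 0 := by
  rw [mem_cell hN] at h ⊢
  have ha : Antitone fun x => b x (c + j + t) := antitone_nat_of_succ_le fun x => h1 x _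
  have hc : Antitone fun y => b (a + i) y := antitone_nat_of_succ_le fun y => h2 _ y
  have := ha (show a + i ≤ a + i + s by omega); have := hc (show c + j ≤ c + j + t by omega)
  simp only [add_zero] at *
  omega

include h1 h2 hN in
theorem cell_head {a c : ℕ} :
    ((a, c) ∈ cell b N i j m 1 0 → m < b (a + 1) c → (a + 1, c) ∈ cell b N i j m 0 0) ∧
    ((a, c) ∈ cell b N i j m 0 1 → m < b a (c + 1) → (a, c + 1) ∈ cell b N i j m 0 0) := by
  constructor <;> intro h h' <;> rw [mem_cell hN] at h ⊢ <;>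
  [have := h1 a c; have := h2 a c] <;>
  simp only [add_zero, Nat.add_right_comm a 1 i, Nat.add_right_comm c 1 j] at * <;> omega

variable (b N i j m) in
/-- Boundary of a square potential. -/
def bdry (k : Type u) [Field k] : (ℕ → ℕ → k) →ₗ[k]
    (↥(cell b N i j m 1 0) ⊕ ↥(cell b N i j m 0 1) → k) where
  toFun h e := e.elim (fun w => h w.1.1 w.1.2 - pre2 h w.1.1 w.1.2) (fun w => pre1 h w.1.1 w.1.2 - h w.1.1 w.1.2)
  map_add' f g := by
    funext e; rcases e with ⟨⟨a, c⟩, _⟩ | ⟨⟨a, c⟩, _⟩
    · cases c <;> simp [pre2] <;> ring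
    · cases a <;> simp [pre1] <;> ring
  map_smul' t g := by
    funext e; rcases e with ⟨⟨a, c⟩, _⟩ | ⟨⟨a, c⟩, _⟩
    · cases c <;> simp [pre2] <;> ring
    · cases a <;> simp [pre1] <;> ring

include hN in
theorem ext0_bdry {h : ℕ → ℕ → k} (hh : h ∈ Pot b N i j m k) {a c : ℕ} (hD : m < b a c) :
    ext0 ((bdry b N i j m k h) ∘ Sum.inl) a c = h a c - pre2 h a c ∧
    ext0 ((bdry b N i j m k h) ∘ Sum.inr) a c = pre1 h a c - h a c := by
  constructor <;> rw [ext0] <;> split_ifs with hc
  · rfl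
  · rw [hh.2.1 a c hD hc, sub_self]
  · rfl
  · rw [hh.2.2 a c hD hc, sub_self]

include h1 h2 hN in
theorem bdry_mem_ker {h : ℕ → ℕ → k} (hh : h ∈ Pot b N i j m k) :
    (cob b N i j m k).transpose.mulVec (bdry b N i j m k h) = 0 := by
  funext v
  obtain ⟨⟨a, c⟩, hv⟩ := v
  have hD : m < b a c := ((mem_cell hN).1 hv).1
  rw [cob_transpose_mulVec]
  dsimp only
  rw [(ext0_bdry hN hh hD).1, (ext0_bdry hN hh hD).2, Pi.zero_apply]
  rcases a with _ | a <;> rcases c with _ | c <;> simp only [pre1, pre2]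
  · ring
  · rw [(ext0_bdry hN hh (lt_of_lt_of_le hD (h2 _ _))).2, pre1]; ring
  · rw [(ext0_bdry hN hh (lt_of_lt_of_le hD (h1 _ _))).1, pre2]; ring
  · rw [(ext0_bdry hN hh (lt_of_lt_of_le hD (h1 _ _))).1, (ext0_bdry hN hh (lt_of_lt_of_le hD (h2 _ _))).2]
    simp only [pre1, pre2]; ring

include h1 h2 hN in
theorem ker_cob_transpose :
    LinearMap.ker (cob b N i j m k).transpose.mulVecLin = (Pot b N i j m k).map (bdry b N i j m k) := by
  refine le_antisymm (fun f hf => ?_) ?_
  swap
  · rintro - ⟨h, hh, rfl⟩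
    exact bdry_mem_ker h1 h2 hN hh
  replace hf : (cob b N i j m k).transpose.mulVec f = 0 := hf
  set F := ext0 (f ∘ Sum.inl) with hF
  set G := ext0 (f ∘ Sum.inr) with hG
  let h0 : ℕ → ℕ → k := fun a c => ∑ l ∈ Finset.range (c + 1), F a l
  let h : ℕ → ℕ → k := fun a c => if m < b a c then h0 a c else 0
  have hdiv : ∀ a c, m < b a c → F a c + G a c = pre1 F a c + pre2 G a c := by
    intro a c hD
    by_cases hv : (a, c) ∈ cell b N i j m 0 0
    · have := congrFun hf ⟨_, hv⟩
      rw [cob_transpose_mulVec, Pi.zero_apply] at this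
      change pre1 F a c - F a c + (pre2 G a c - G a c) = 0 at this
      linear_combination -this
    · have e1 : F a c = 0 := dif_neg fun h' => hv (cell_closed h1 h2 hN h')
      have e2 : G a c = 0 := dif_neg fun h' => hv (cell_closed h1 h2 hN h')
      have e3 : pre1 F a c = 0 := by
        cases a with
        | zero => rfl
        | succ a => exact dif_neg fun h' => hv ((cell_head h1 h2 hN).1 h' hD)
      have e4 : pre2 G a c = 0 := by
        cases c with
        | zero => rfl
        | succ c => exact dif_neg fun h' => hv ((cell_head h1 h2 hN).2 h' hD)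
      rw [e1, e2, e3, e4]
  have hh0 : ∀ a c, m < b a c → pre2 h a c = pre2 h0 a c ∧ pre1 h a c = pre1 h0 a c := by
    intro a c hD
    constructor
    · cases c with
      | zero => rfl
      | succ c => exact if_pos (lt_of_lt_of_le hD (h2 _ _))
    · cases a with
      | zero => rfl
      | succ a => exact if_pos (lt_of_lt_of_le hD (h1 _ _))
  have hx : ∀ a c, F a c = h0 a c - pre2 h0 a c := by
    intro a c
    cases c with
    | zero => simp [h0, pre2]
    | succ c => simp [h0, pre2, Finset.sum_range_succ _ (c + 1)]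
  have hy : ∀ a c, m < b a c → G a c = pre1 h0 a c - h0 a c := by
    intro a c
    induction c with
    | zero =>
      intro hD
      have := hdiv a 0 hD
      have e : pre1 h0 a 0 = pre1 F a 0 := by cases a <;> simp [pre1, h0]
      simp only [e, h0, pre2, zero_add, Finset.sum_range_one] at this ⊢
      linear_combination this
    | succ c ih =>
      intro hD
      have := hdiv a (c + 1) hD
      have e : pre1 h0 a (c + 1) = pre1 h0 a c + pre1 F a (c + 1) := by
        cases a <;> simp [pre1, h0, Finset.sum_range_succ _ (c + 1)]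
      have e' : h0 a (c + 1) = h0 a c + F a (c + 1) := Finset.sum_range_succ _ _
      rw [show pre2 G a (c + 1) = G a c from rfl, ih (lt_of_lt_of_le hD (h2 _ _))] at this
      rw [e, e']
      linear_combination this
  refine ⟨h, ⟨fun a c hD => if_neg (not_lt.2 hD), fun a c hD hc => ?_, fun a c hD hc => ?_⟩, ?_⟩
  · rw [(hh0 a c hD).1, show h a c = h0 a c from if_pos hD]
    have e : F a c = 0 := dif_neg hc
    rwa [hx, sub_eq_zero] at e
  · rw [(hh0 a c hD).2, show h a c = h0 a c from if_pos hD]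
    have e : G a c = 0 := dif_neg hc
    rw [hy a c hD, sub_eq_zero] at e
    exact e.symm
  · funext e
    rcases e with ⟨⟨a, c⟩, hw⟩ | ⟨⟨a, c⟩, hw⟩
    · change h a c - pre2 h a c = _
      have hD : m < b a c := ((mem_cell hN).1 hw).1
      rw [(hh0 a c hD).1, show h a c = h0 a c from if_pos hD, ← hx]
      exact dif_pos hw
    · change pre1 h a c - h a c = _
      have hD : m < b a c := ((mem_cell hN).1 hw).1
      rw [(hh0 a c hD).2, show h a c = h0 a c from if_pos hD, ← hy a c hD]
      exact dif_pos hw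

include h2 hN in
theorem bdry_injOn {h : ℕ → ℕ → k} (hh : h ∈ Pot b N i j m k) (h0 : bdry b N i j m k h = 0) : h = 0 := by
  have key : ∀ a c, m < b a c → h a c = pre2 h a c := by
    intro a c hD
    by_cases hc : (a, c) ∈ cell b N i j m 1 0
    · exact sub_eq_zero.1 (congrFun h0 (Sum.inl ⟨_, hc⟩))
    · exact hh.2.1 a c hD hc
  funext a c
  induction c with
  | zero =>
    by_cases hD : m < b a 0
    · exact key a 0 hD
    · exact hh.1 a 0 (not_lt.1 hD)
  | succ c ih =>
    by_cases hD : m < b a (c + 1)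
    · exact (key a (c + 1) hD).trans ih
    · exact hh.1 a (c + 1) (not_lt.1 hD)

include hN in
theorem mem_Col_pos {g : ℕ → ℕ → k} :
    g ∈ Col k b i j (-((m : ℤ) + 1)) ↔ (∀ a c, (a, c) ∉ cell b N i j m 0 0 → g a c = 0) ∧
      (∀ a c, (a, c) ∈ cell b N i j m 1 0 → g (a + 1) c = g a c) ∧
      (∀ a c, (a, c) ∈ cell b N i j m 0 1 → g a (c + 1) = g a c) := by
  have e : ∀ a c s t : ℕ, Std b (a + s + i) (c + t + j) (b a c + -((m : ℤ) + 1)) ↔
      (a, c) ∈ cell b N i j m s t := by
    intro a c s t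
    rw [mem_cell hN, Std, show ((a : ℤ) + s + i).toNat = a + i + s by omega,
      show ((c : ℤ) + t + j).toNat = c + j + t by omega]
    omega
  refine and_congr (forall₂_congr fun a c => ?_) (and_congr (forall₂_congr fun a c => ?_) (forall₂_congr fun a c => ?_))
  · rw [← e a c 0 0]; simp
  · rw [← e a c 1 0]; simp
  · rw [← e a c 0 1]; simp

include h1 h2 hN in
/-- Maps of multidegree `(i, j, -(m+1))` are the kernel of the coboundary. -/
theorem finrank_ker_cob :
    Module.finrank k (LinearMap.ker (cob b N i j m k).mulVecLin) =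
      Module.finrank k (Col k b i j (-((m : ℤ) + 1))) := by
  refine LinearEquiv.finrank_eq ?_
  refine LinearEquiv.ofLinear
    { toFun := fun g => ⟨ext0 g.1, (mem_Col_pos hN).2 ⟨fun a c h => dif_neg h, fun a c h => ?_, fun a c h => ?_⟩⟩,
      map_add' := fun f g => Subtype.ext (funext₂ fun a c => ?_), map_smul' := fun t g => Subtype.ext (funext₂ fun a c => ?_) }
    { toFun := fun g => ⟨fun v => g.1 v.1.1 v.1.2, ?_⟩, map_add' := fun _ _ => rfl, map_smul' := fun _ _ => rfl }
    (LinearMap.ext fun g => Subtype.ext (funext₂ fun a c => ?_)) (LinearMap.ext fun g => Subtype.ext (funext fun v => ?_))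
  · have e := congrFun (show (cob b N i j m k).mulVec g.1 = 0 from g.2) (Sum.inl ⟨_, h⟩)
    rw [(cob_mulVec g.1).1] at e
    exact sub_eq_zero.1 e
  · have e := congrFun (show (cob b N i j m k).mulVec g.1 = 0 from g.2) (Sum.inr ⟨_, h⟩)
    rw [(cob_mulVec g.1).2] at e
    exact sub_eq_zero.1 e
  · simp only [Submodule.coe_add, Pi.add_apply, ext0]; split_ifs <;> simp
  · simp only [Submodule.coe_smul, Pi.smul_apply, ext0, RingHom.id_apply]; split_ifs <;> simp
  · have hg := (mem_Col_pos hN).1 g.2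
    have e : ∀ a c, ext0 (fun v : ↥(cell b N i j m 0 0) => g.1 v.1.1 v.1.2) a c = g.1 a c := fun a c => by
      rw [ext0]; split_ifs with h
      · rfl
      · exact (hg.1 a c h).symm
    refine funext fun w => ?_
    rcases w with ⟨⟨a, c⟩, hw⟩ | ⟨⟨a, c⟩, hw⟩
    · change (cob b N i j m k).mulVec _ _ = 0
      rw [(cob_mulVec _).1, e, e]; exact sub_eq_zero.2 (hg.2.1 a c hw)
    · change (cob b N i j m k).mulVec _ _ = 0
      rw [(cob_mulVec _).2, e, e]; exact sub_eq_zero.2 (hg.2.2 a c hw)
  · change ext0 (fun v : ↥(cell b N i j m 0 0) => g.1 v.1.1 v.1.2) a c = g.1 a c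
    rw [ext0]; split_ifs with h
    · rfl
    · exact (((mem_Col_pos hN).1 g.2).1 a c h).symm
  · exact dif_pos v.2

include hN in
theorem Pot_le_supported {h : ℕ → ℕ → k} (hh : h ∈ Pot b N i j m k) {a c : ℕ} (h' : N ≤ a ∨ N ≤ c) :
    h a c = 0 := hh.1 a c (by rw [hN a c h']; exact Nat.zero_le _)

variable (b N i j m) in
/-- Restriction of potentials to the squares of the complex. -/
def restrSq (k : Type u) [Field k] : ↥(Pot b N i j m k) →ₗ[k] (↥(cell b N i j m 1 1) → k) where
  toFun h v := h.1 v.1.1 v.1.2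
  map_add' _ _ := rfl
  map_smul' _ _ := rfl

include h1 h2 hN in
theorem restrSq_surjective : Function.Surjective (restrSq b N i j m k) := by
  intro g
  have hsq : ∀ {a c : ℕ}, m < b a c →
      ((a, c) ∉ cell b N i j m 1 0 → (a, c) ∉ cell b N i j m 1 1 ∧ (c = 0 ∨ (a, c - 1) ∉ cell b N i j m 1 1)) ∧
      ((a, c) ∉ cell b N i j m 0 1 → (a, c) ∉ cell b N i j m 1 1 ∧ (a = 0 ∨ (a - 1, c) ∉ cell b N i j m 1 1)) := by
    intro a c hD
    constructor <;> intro h
    · refine ⟨fun h' => h ?_, ?_⟩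
      · rw [mem_cell hN] at h' ⊢
        have := h2 (a + i + 1) (c + j + 0); simp only [add_zero] at *; omega
      · rcases c with _ | c
        · exact Or.inl rfl
        · refine Or.inr fun h' => h ?_
          rw [mem_cell hN] at h' ⊢
          have := h2 a c
          simp only [Nat.add_sub_cancel, add_zero, Nat.add_right_comm c 1 j] at *
          omega
    · refine ⟨fun h' => h ?_, ?_⟩
      · rw [mem_cell hN] at h' ⊢
        have := h1 (a + i + 0) (c + j + 1); simp only [add_zero] at *; omega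
      · rcases a with _ | a
        · exact Or.inl rfl
        · refine Or.inr fun h' => h ?_
          rw [mem_cell hN] at h' ⊢
          have := h1 a c
          simp only [Nat.add_sub_cancel, add_zero, Nat.add_right_comm a 1 i] at *
          omega
  refine ⟨⟨ext0 g, fun a c hD => dif_neg fun h => absurd ((mem_cell hN).1 h).1 (not_lt.2 hD),
    fun a c hD hc => ?_, fun a c hD hc => ?_⟩, funext fun v => dif_pos v.2⟩
  · obtain ⟨e1, e2⟩ := (hsq hD).1 hc
    rw [ext0, dif_neg e1]
    rcases c with _ | c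
    · rfl
    · change 0 = ext0 g a c
      rw [ext0, dif_neg (by simpa using e2)]
  · obtain ⟨e1, e2⟩ := (hsq hD).2 hc
    rw [ext0, dif_neg e1]
    rcases a with _ | a
    · rfl
    · change 0 = ext0 g a c
      rw [ext0, dif_neg (by simpa using e2)]

include h1 h2 hN in
theorem finrank_ker_restrSq :
    Module.finrank k (LinearMap.ker (restrSq b N i j m k)) =
      Module.finrank k (Col k b (-(i : ℤ) - 1) (-(j : ℤ) - 1) m) := by
  have hU : ∀ {h : ↥(Pot b N i j m k)}, restrSq b N i j m k h = 0 → ∀ {a c : ℕ},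
      ¬ b (a + i + 1) (c + j + 1) + m < b a c → h.1 a c = 0 := fun {h} h0 {a c} hn => by
    by_cases hD : m < b a c
    · exact congrFun h0 ⟨(a, c), (mem_cell hN).2 ⟨hD, not_lt.1 hn⟩⟩
    · exact h.2.1 a c (not_lt.1 hD)
  let up : (ℕ → ℕ → k) → ℕ → ℕ → k := fun h a c => if i < a ∧ j < c then h (a - i - 1) (c - j - 1) else 0
  have hup : ∀ h : LinearMap.ker (restrSq b N i j m k), up h.1.1 ∈ Col k b (-(i : ℤ) - 1) (-(j : ℤ) - 1) m := by
    rintro ⟨⟨h, hh⟩, h0⟩
    refine ⟨fun a c hn => ?_, fun a c hs => ?_, fun a c hs => ?_⟩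
    · simp only [up]; split_ifs with hac
      · refine hU h0 fun hlt => hn ?_
        obtain ⟨a, rfl⟩ := Nat.exists_eq_add_of_le hac.1
        obtain ⟨c, rfl⟩ := Nat.exists_eq_add_of_le hac.2
        simp only [show i.succ + a - i - 1 = a by omega, show j.succ + c - j - 1 = c by omega] at hlt
        rw [show a + i + 1 = i.succ + a by omega, show c + j + 1 = j.succ + c by omega] at hlt
        rw [Std, show ((i.succ + a : ℕ) + (-(i : ℤ) - 1)).toNat = a by omega,
          show ((j.succ + c : ℕ) + (-(j : ℤ) - 1)).toNat = c by omega]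
        omega
      · rfl
    · obtain ⟨hx, hy, hz, hlt⟩ := hs
      obtain ⟨w, rfl⟩ : ∃ w, c = w + j + 1 := ⟨c - j - 1, by omega⟩
      obtain ⟨u, rfl⟩ : ∃ u, a = u + i := ⟨a - i, by omega⟩
      rw [show (((u + i : ℕ) : ℤ) + 1 + (-(i : ℤ) - 1)).toNat = u by omega,
        show (((w + j + 1 : ℕ) : ℤ) + (-(j : ℤ) - 1)).toNat = w by omega] at hlt
      have hD : m < b u w := by omega
      have hc : (u, w) ∉ cell b N i j m 0 1 := fun h' => by
        rw [mem_cell hN] at h'; simp only [add_zero] at h'; omega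
      simp only [up, if_pos (show i < u + i + 1 ∧ j < w + j + 1 by omega),
        show u + i + 1 - i - 1 = u by omega, show w + j + 1 - j - 1 = w by omega]
      rw [hh.2.2 u w hD hc]
      rcases u with _ | u
      · rw [if_neg (by omega)]; rfl
      · rw [if_pos (by omega), show u + 1 + i - i - 1 = u by omega]; rfl
    · obtain ⟨hx, hy, hz, hlt⟩ := hs
      obtain ⟨u, rfl⟩ : ∃ u, a = u + i + 1 := ⟨a - i - 1, by omega⟩
      obtain ⟨w, rfl⟩ : ∃ w, c = w + j := ⟨c - j, by omega⟩
      rw [show (((w + j : ℕ) : ℤ) + 1 + (-(j : ℤ) - 1)).toNat = w by omega,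
        show (((u + i + 1 : ℕ) : ℤ) + (-(i : ℤ) - 1)).toNat = u by omega] at hlt
      have hD : m < b u w := by omega
      have hc : (u, w) ∉ cell b N i j m 1 0 := fun h' => by
        rw [mem_cell hN] at h'; simp only [add_zero] at h'; omega
      simp only [up, if_pos (show i < u + i + 1 ∧ j < w + j + 1 by omega),
        show u + i + 1 - i - 1 = u by omega, show w + j + 1 - j - 1 = w by omega]
      rw [hh.2.1 u w hD hc]
      rcases w with _ | w
      · rw [if_neg (by omega)]; rfl
      · rw [if_pos (by omega), show w + 1 + j - j - 1 = w by omega]; rfl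
  let L : LinearMap.ker (restrSq b N i j m k) →ₗ[k] Col k b (-(i : ℤ) - 1) (-(j : ℤ) - 1) m :=
    { toFun := fun h => ⟨up h.1.1, hup h⟩
      map_add' := fun f g => Subtype.ext (funext₂ fun a c => by simp [up]; split_ifs <;> simp)
      map_smul' := fun t g => Subtype.ext (funext₂ fun a c => by simp [up]) }
  refine LinearEquiv.finrank_eq (LinearEquiv.ofBijective L ⟨fun f g e => ?_, fun g => ?_⟩)
  · refine Subtype.ext (Subtype.ext (funext₂ fun a c => ?_))
    have := congrFun₂ (congrArg Subtype.val e) (a + i + 1) (c + j + 1)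
    simpa [L, up, show a + i + 1 - i - 1 = a by omega, show c + j + 1 - j - 1 = c by omega,
      show i < a + i + 1 by omega, show j < c + j + 1 by omega] using this
  · obtain ⟨g, hg1, hg2, hg3⟩ := g
    have hz : ∀ {a c}, ¬ b (a + i + 1) (c + j + 1) + m < b a c → g (a + i + 1) (c + j + 1) = 0 := by
      intro a c hn
      refine hg1 _ _ fun hs => hn ?_
      obtain ⟨-, -, -, hlt⟩ := hs
      rw [show (((a + i + 1 : ℕ) : ℤ) + (-(i : ℤ) - 1)).toNat = a by omega,
        show (((c + j + 1 : ℕ) : ℤ) + (-(j : ℤ) - 1)).toNat = c by omega] at hlt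
      omega
    have hzb : ∀ a c, a ≤ i ∨ c ≤ j → g a c = 0 := fun a c h => hg1 a c fun hs => by
      obtain ⟨hx, hy, -, -⟩ := hs; omega
    refine ⟨⟨⟨fun a c => g (a + i + 1) (c + j + 1), fun a c hD => hz (by omega), fun a c hD hc => ?_,
      fun a c hD hc => ?_⟩, funext fun v => hz (not_lt.2 ((mem_cell hN).1 v.2).2)⟩, Subtype.ext (funext₂ fun a c => ?_)⟩
    · have hlt : b (a + i + 1) (c + j) + m < b a c := by
        rw [mem_cell hN] at hc; simp only [add_zero] at hc; omega
      have e := hg3 (a + i + 1) (c + j) ⟨by omega, by omega, by omega, by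
        rw [show (((c + j : ℕ) : ℤ) + 1 + (-(j : ℤ) - 1)).toNat = c by omega,
          show (((a + i + 1 : ℕ) : ℤ) + (-(i : ℤ) - 1)).toNat = a by omega]
        omega⟩
      change g (a + i + 1) (c + j + 1) = _
      rw [e]
      rcases c with _ | c
      · exact hzb _ _ (by omega)
      · change _ = g (a + i + 1) (c + j + 1); congr 1; omega
    · have hlt : b (a + i) (c + j + 1) + m < b a c := by
        rw [mem_cell hN] at hc; simp only [add_zero] at hc; omega
      have e := hg2 (a + i) (c + j + 1) ⟨by omega, by omega, by omega, by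
        rw [show (((a + i : ℕ) : ℤ) + 1 + (-(i : ℤ) - 1)).toNat = a by omega,
          show (((c + j + 1 : ℕ) : ℤ) + (-(j : ℤ) - 1)).toNat = c by omega]
        omega⟩
      change g (a + i + 1) (c + j + 1) = _
      rw [e]
      rcases a with _ | a
      · exact hzb _ _ (by omega)
      · change _ = g (a + i + 1) (c + j + 1); congr 1; omega
    · change up _ a c = g a c
      simp only [up]
      split_ifs with h
      · rw [show a - i - 1 + i + 1 = a by omega, show c - j - 1 + j + 1 = c by omega]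
      · exact (hzb a c (by omega)).symm

include h1 h2 hN in
/-- Euler characteristic: `dim T_{(i,j,-(m+1))} - dim T_{(-i-1,-j-1,m)}`. -/
theorem finrank_Col_add (k : Type u) [Field k] :
    Module.finrank k (Col k b i j (-((m : ℤ) + 1))) + (cell b N i j m 1 0).card + (cell b N i j m 0 1).card =
      Module.finrank k (Col k b (-(i : ℤ) - 1) (-(j : ℤ) - 1) m) + (cell b N i j m 0 0).card +
        (cell b N i j m 1 1).card := by
  have e1 := (cob b N i j m k).mulVecLin.finrank_range_add_finrank_ker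
  have e2 := (cob b N i j m k).transpose.mulVecLin.finrank_range_add_finrank_ker
  rw [finrank_ker_cob h1 h2 hN, Module.finrank_pi, Fintype.card_coe] at e1
  rw [ker_cob_transpose h1 h2 hN, Module.finrank_pi, Fintype.card_sum, Fintype.card_coe, Fintype.card_coe] at e2
  have er : Module.finrank k (LinearMap.range (cob b N i j m k).transpose.mulVecLin) =
      Module.finrank k (LinearMap.range (cob b N i j m k).mulVecLin) := Matrix.rank_transpose _
  let Φ : ↥(Pot b N i j m k) →ₗ[k] ↥((Pot b N i j m k).map (bdry b N i j m k)) :=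
    ((bdry b N i j m k).domRestrict (Pot b N i j m k)).codRestrict _ fun h => ⟨h.1, h.2, rfl⟩
  have hΦ : Function.Bijective Φ := ⟨(injective_iff_map_eq_zero Φ).2 fun h h0 =>
      Subtype.ext (bdry_injOn h2 hN h.2 (congrArg Subtype.val h0)),
    fun ⟨_, h, hh, e⟩ => ⟨⟨h, hh⟩, Subtype.ext e⟩⟩
  haveI : Module.Finite k ↥(Pot b N i j m k) := Module.Finite.equiv (LinearEquiv.ofBijective Φ hΦ).symm
  have e3 := (restrSq b N i j m k).finrank_range_add_finrank_ker
  rw [LinearMap.range_eq_top.2 (restrSq_surjective h1 h2 hN), finrank_top, Module.finrank_pi, Fintype.card_coe,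
    finrank_ker_restrSq h1 h2 hN, (LinearEquiv.ofBijective Φ hΦ).finrank_eq] at e3
  omega

end GrothLib.HilbPn
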