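import Groth.Agent.Lib.HilbPn.Comp
import Groth.Agent.Lib.HilbPn.Col
import Groth.Agent.Lib.HilbPn.Pow
import Mathlib.Data.Fintype.Perm

/-!
# Graded pieces in three variables as staircase data
-/

namespace GrothLib.HilbPn

open MvPolynomial W4c1hilbpn

universe u

variable {k : Type u} [Field k] {I : Ideal (MvPolynomial (Fin 3) k)} (π : Equiv.Perm (Fin 3))

/-- An integer vector in permuted coordinates. -/
def vec (x y z : ℤ) : Fin 3 → ℤ := fun l => ![x, y, z] (π l)

/-- An exponent vector in permuted coordinates. -/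
noncomputable def expo (a c n : ℕ) : Fin 3 →₀ ℕ := Finsupp.equivFunOnFinite.symm fun l => ![a, c, n] (π l)

variable (I) in
/-- Staircase numbers in permuted coordinates. -/
noncomputable def stair (a c : ℕ) : ℕ := Nat.card {n : ℕ // expo π a c n ∉ exps I}

@[simp] theorem expo_apply (a c n : ℕ) (l : Fin 3) : expo π a c n l = ![a, c, n] (π l) := rfl

theorem expo_refl (a c n : ℕ) : expo (Equiv.refl _) a c n = e3 a c n := rfl

theorem stair_refl (a c : ℕ) : stair I (Equiv.refl _) a c = stairZ I a c := rfl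

theorem fin3_forall {P : Fin 3 → Prop} : (∀ l, P (π l)) ↔ P 0 ∧ P 1 ∧ P 2 := by
  rw [π.surjective.forall.symm, Fin.forall_fin_succ, Fin.forall_fin_succ, Fin.forall_fin_one]
  rfl

theorem expo_inj {a c n a' c' n' : ℕ} : expo π a c n = expo π a' c' n' ↔ a = a' ∧ c = c' ∧ n = n' := by
  rw [Finsupp.ext_iff]
  exact fin3_forall (P := fun m => ![a, c, n] m = ![a', c', n'] m) π

theorem vec_inj {a c n a' c' n' : ℤ} : vec π a c n = vec π a' c' n' ↔ a = a' ∧ c = c' ∧ n = n' := by
  rw [funext_iff]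
  exact fin3_forall (P := fun m => ![a, c, n] m = ![a', c', n'] m) π

theorem expo_surj (β : Fin 3 →₀ ℕ) : β = expo π (β (π.symm 0)) (β (π.symm 1)) (β (π.symm 2)) := by
  ext l
  obtain ⟨m, rfl⟩ := π.symm.surjective l
  fin_cases m <;> simp

theorem vec_surj (α : Fin 3 → ℤ) : α = vec π (α (π.symm 0)) (α (π.symm 1)) (α (π.symm 2)) := by
  funext l
  obtain ⟨m, rfl⟩ := π.symm.surjective l
  fin_cases m <;> simp [vec]

theorem expo_add (a c n a' c' n' : ℕ) : expo π a c n + expo π a' c' n' = expo π (a + a') (c + c') (n + n') := by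
  ext l
  simp only [Finsupp.add_apply, expo_apply]
  generalize π l = m
  fin_cases m <;> rfl

theorem tr_expo (p q r : ℤ) (a c n : ℕ) : tr (vec π p q r) (expo π a c n) = vec π (a + p) (c + q) (n + r) := by
  funext l
  simp only [tr_apply, vec, expo_apply]
  generalize π l = m
  fin_cases m <;> rfl

theorem pos_vec (x y z : ℤ) : pos (vec π x y z) = expo π x.toNat y.toNat z.toNat := by
  ext l
  simp only [pos_apply, vec, expo_apply]
  generalize π l = m
  fin_cases m <;> rfl

theorem vec_nonneg {x y z : ℤ} : (∀ l, 0 ≤ vec π x y z l) ↔ 0 ≤ x ∧ 0 ≤ y ∧ 0 ≤ z :=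
  fin3_forall (P := fun m => 0 ≤ ![x, y, z] m) π

theorem expo_mono_mem {a c n a' c' n' : ℕ} (h : expo π a c n ∈ exps I) (ha : a ≤ a') (hc : c ≤ c')
    (hn : n ≤ n') : expo π a' c' n' ∈ exps I := by
  have := add_mem_exps h (expo π (a' - a) (c' - c) (n' - n))
  rwa [expo_add, Nat.add_sub_cancel' ha, Nat.add_sub_cancel' hc, Nat.add_sub_cancel' hn] at this

variable (hI : IsMonomial I) [Module.Finite k (MvPolynomial (Fin 3) k ⧸ I)]

include hI in
theorem exists_bound : ∃ N, ∀ β : Fin 3 →₀ ℕ, β ∉ exps I → ∀ l, β l < N := by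
  refine ⟨((finite_compl_exps hI).toFinset.sup fun β => ∑ l, β l) + 1, fun β hβ l => Nat.lt_succ_of_le ?_⟩
  exact (Finset.single_le_sum (f := fun l => β l) (fun _ _ => Nat.zero_le _) (Finset.mem_univ l)).trans
    (Finset.le_sup (f := fun β : Fin 3 →₀ ℕ => ∑ l, β l) ((finite_compl_exps hI).mem_toFinset.2 hβ))

include hI in
theorem mem_exps_expo_iff {a c n : ℕ} : expo π a c n ∈ exps I ↔ stair I π a c ≤ n := by
  classical
  obtain ⟨N, hN⟩ := exists_bound hI
  have hex : ∃ n, expo π a c n ∈ exps I := ⟨N, by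
    by_contra h
    have := hN _ h (π.symm 2)
    simp at this⟩
  have he : ∀ n, expo π a c n ∉ exps I ↔ n < Nat.find hex := fun n =>
    ⟨fun h => not_le.1 fun hle => h (expo_mono_mem π (Nat.find_spec hex) le_rfl le_rfl hle),
      fun h => Nat.find_min hex h⟩
  have hs : stair I π a c = Nat.find hex := by
    rw [stair, Nat.card_congr ((Equiv.subtypeEquivRight he).trans Fin.equivSubtype.symm), Nat.card_fin]
  rw [hs, ← not_lt, ← he, not_not]

include hI in
theorem stair_antitone {a c a' c' : ℕ} (ha : a ≤ a') (hc : c ≤ c') : stair I π a' c' ≤ stair I π a c :=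
  (mem_exps_expo_iff π hI).1 (expo_mono_mem π ((mem_exps_expo_iff π hI).2 le_rfl) ha hc le_rfl)

include hI in
theorem exists_stair_bound : ∃ N, (∀ a c, N ≤ a ∨ N ≤ c → stair I π a c = 0) ∧ ∀ a c, stair I π a c ≤ N := by
  obtain ⟨N, hN⟩ := exists_bound hI
  refine ⟨N, fun a c h => ?_, fun a c => (mem_exps_expo_iff π hI).1 ?_⟩
  · refine Nat.le_zero.1 ((mem_exps_expo_iff π hI).1 ?_)
    by_contra h'
    have h0 := hN _ h' (π.symm 0); have h1 := hN _ h' (π.symm 1)
    simp at h0 h1
    omega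
  · by_contra h
    have := hN _ h (π.symm 2)
    simp at this

include hI in
theorem std_iff {x y z : ℤ} :
    Std (stair I π) x y z ↔ (∀ l, 0 ≤ vec π x y z l) ∧ pos (vec π x y z) ∉ exps I := by
  rw [vec_nonneg, pos_vec, mem_exps_expo_iff π hI, Std]
  omega

variable {p q r : ℤ}

theorem smul_shift (g : k) {x y z : ℤ} (s t w : ℕ) (h : g = 0 ∨ 0 ≤ x ∧ 0 ≤ y ∧ 0 ≤ z) :
    g • monomial (expo π s t w) (1 : k) • Ideal.Quotient.mk I (monomial (pos (vec π x y z)) (1 : k)) =
      g • Ideal.Quotient.mk I (monomial (pos (vec π (x + s) (y + t) (z + w))) (1 : k)) := by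
  rcases h with rfl | h
  · rw [zero_smul, zero_smul]
  · rw [pos_vec, pos_vec, show (x + s).toNat = s + x.toNat by omega, show (y + t).toNat = t + y.toNat by omega,
      show (z + w).toNat = w + z.toNat by omega, ← expo_add, monomial_add_eq, map_mul]
    rfl

variable (p q r) in
/-- The value of a graded map at the generator of a column. -/
noncomputable def colVal (φ : tPiece I (vec π p q r)) (a c : ℕ) : k :=
  coefAt hI (pos (vec π (a + p) (c + q) (stair I π a c + r)))
    (φ.1 ⟨monomial (expo π a c (stair I π a c)) 1, (mem_exps_expo_iff π hI).2 le_rfl⟩)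

theorem apply_gen (φ : tPiece I (vec π p q r)) (a c : ℕ) :
    φ.1 ⟨monomial (expo π a c (stair I π a c)) 1, (mem_exps_expo_iff π hI).2 le_rfl⟩ =
      colVal π hI p q r φ a c •
        Ideal.Quotient.mk I (monomial (pos (vec π (a + p) (c + q) (stair I π a c + r))) (1 : k)) := by
  set hβ := (mem_exps_expo_iff π hI (a := a) (c := c)).2 le_rfl
  set δ := pos (vec π (a + p) (c + q) (stair I π a c + r)) with hδ
  by_cases hn : ∀ l, 0 ≤ tr (vec π p q r) (expo π a c (stair I π a c)) l
  · obtain ⟨t, ht⟩ := Submodule.mem_span_singleton.1 ((φ.2 _ hβ).1 hn)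
    rw [shift_eq_pos, tr_expo, ← hδ] at ht
    by_cases hs : δ ∈ exps I
    · rw [← ht, mk_monomial_eq_zero_iff.2 hs, smul_zero, smul_zero]
    · rw [colVal, ← hδ, ← ht, coefAt_smul_mk_monomial hI hs]
  · push Not at hn
    rw [colVal, eq_zero_of_neg φ hβ hn, map_zero, zero_smul]

theorem colVal_eq_zero (φ : tPiece I (vec π p q r)) (a c : ℕ)
    (h : ¬ Std (stair I π) (a + p) (c + q) (stair I π a c + r)) : colVal π hI p q r φ a c = 0 := by
  rw [std_iff π hI, not_and_or, not_not, not_forall] at h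
  rcases h with ⟨l, hl⟩ | h
  · rw [colVal, eq_zero_of_neg φ ((mem_exps_expo_iff π hI).2 le_rfl) ⟨l, by rw [tr_expo]; exact not_le.1 hl⟩,
      map_zero]
  · rw [colVal, coefAt, dif_pos h, LinearMap.zero_apply]

theorem colVal_step (φ : tPiece I (vec π p q r)) (a c s t : ℕ)
    (h : Std (stair I π) (a + s + p) (c + t + q) (stair I π a c + r)) :
    colVal π hI p q r φ (a + s) (c + t) = colVal π hI p q r φ a c := by
  have hd : stair I π (a + s) (c + t) ≤ stair I π a c := stair_antitone π hI (by omega) (by omega)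
  obtain ⟨d, hd⟩ := Nat.exists_eq_add_of_le hd
  have hg : ∀ a' c', colVal π hI p q r φ a' c' = 0 ∨
      0 ≤ (a' : ℤ) + p ∧ 0 ≤ (c' : ℤ) + q ∧ 0 ≤ (stair I π a' c' : ℤ) + r := by
    intro a' c'
    by_cases h' : Std (stair I π) (a' + p) (c' + q) (stair I π a' c' + r)
    · exact Or.inr ⟨h'.1, h'.2.1, h'.2.2.1⟩
    · exact Or.inl (colVal_eq_zero π hI φ a' c' h')
  have e1 : expo π s t 0 + expo π a c (stair I π a c) =
      expo π 0 0 d + expo π (a + s) (c + t) (stair I π (a + s) (c + t)) := by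
    rw [expo_add, expo_add, expo_inj]; omega
  have hm : monomial (expo π s t 0 + expo π a c (stair I π a c)) (1 : k) ∈ I := by
    rw [add_comm]; exact add_mem_exps ((mem_exps_expo_iff π hI).2 le_rfl) _
  have hm' : monomial (expo π 0 0 d + expo π (a + s) (c + t) (stair I π (a + s) (c + t))) (1 : k) ∈ I := e1 ▸ hm
  have key : monomial (expo π s t 0) (1 : k) •
        φ.1 ⟨monomial (expo π a c (stair I π a c)) 1, (mem_exps_expo_iff π hI).2 le_rfl⟩ =
      monomial (expo π 0 0 d) (1 : k) •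
        φ.1 ⟨monomial (expo π (a + s) (c + t) (stair I π (a + s) (c + t))) 1, (mem_exps_expo_iff π hI).2 le_rfl⟩ := by
    rw [← tgt_monomial_add φ.1 _ _ hm, ← tgt_monomial_add φ.1 _ _ hm']
    exact congrArg φ.1 (Subtype.ext (congrArg (fun e => monomial e (1 : k)) e1))
  rw [apply_gen π hI φ, apply_gen π hI φ, smul_comm, smul_shift π _ s t 0 (hg _ _), smul_comm,
    smul_shift π _ 0 0 d (hg _ _)] at key
  obtain ⟨hn, hstd⟩ := (std_iff π hI).1 h
  have e2 : vec π ((a : ℤ) + p + s) (c + q + t) (stair I π a c + r + (0 : ℕ)) =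
      vec π (a + s + p) (c + t + q) (stair I π a c + r) := by rw [vec_inj]; omega
  have e3 : vec π (((a + s : ℕ) : ℤ) + p + (0 : ℕ)) ((c + t : ℕ) + q + (0 : ℕ)) (stair I π (a + s) (c + t) + r + d) =
      vec π (a + s + p) (c + t + q) (stair I π a c + r) := by rw [vec_inj]; omega
  rw [e2, e3] at key
  have := congrArg (coefAt hI (pos (vec π (a + s + p) (c + t + q) (stair I π a c + r)))) key
  rw [coefAt_smul_mk_monomial hI hstd, coefAt_smul_mk_monomial hI hstd] at this
  exact this.symm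

theorem colVal_mem (φ : tPiece I (vec π p q r)) : colVal π hI p q r φ ∈ Col k (stair I π) p q r :=
  ⟨fun a c h => colVal_eq_zero π hI φ a c h,
    fun a c h => colVal_step π hI φ a c 1 0 (by simpa using h),
    fun a c h => colVal_step π hI φ a c 0 1 (by simpa using h)⟩

variable (p q r) in
/-- A graded map as staircase data. -/
noncomputable def toCol : tPiece I (vec π p q r) →ₗ[k] Col k (stair I π) p q r where
  toFun φ := ⟨colVal π hI p q r φ, colVal_mem π hI φ⟩
  map_add' φ ψ := Subtype.ext (funext₂ fun a c => by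
    simp only [colVal, Submodule.coe_add, Pi.add_apply, LinearMap.add_apply, map_add])
  map_smul' t φ := Subtype.ext (funext₂ fun a c => by
    simp only [colVal, SetLike.val_smul, Pi.smul_apply, LinearMap.smul_apply, map_smul, RingHom.id_apply])

theorem toCol_injective : Function.Injective (toCol π hI p q r) := by
  rw [injective_iff_map_eq_zero]
  intro φ hφ
  refine Subtype.ext (tgt_ext hI fun β hβ => ?_)
  change φ.1 _ = 0
  obtain ⟨a, c, n, rfl⟩ : ∃ a c n, β = expo π a c n := ⟨_, _, _, expo_surj π β⟩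
  have hn := (mem_exps_expo_iff π hI).1 hβ
  obtain ⟨d, rfl⟩ := Nat.exists_eq_add_of_le hn
  have e1 : expo π a c (stair I π a c + d) = expo π 0 0 d + expo π a c (stair I π a c) := by
    rw [expo_add, expo_inj]; omega
  have hm : monomial (expo π 0 0 d + expo π a c (stair I π a c)) (1 : k) ∈ I := e1 ▸ hβ
  rw [show (⟨_, hβ⟩ : I) = ⟨_, hm⟩ from Subtype.ext (congrArg (fun e => monomial e (1 : k)) e1),
    tgt_monomial_add φ.1 ((mem_exps_expo_iff π hI).2 le_rfl) _ hm, apply_gen π hI φ,
    show colVal π hI p q r φ a c = 0 from congrFun₂ (congrArg Subtype.val hφ) a c, zero_smul, smul_zero]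

open Classical in
/-- Values of the map attached to staircase data. -/
noncomputable def ofColFun (g : Col k (stair I π) p q r) :
    MvPolynomial (Fin 3) k →ₗ[k] (MvPolynomial (Fin 3) k ⧸ I) :=
  (basisMonomials (Fin 3) k).constr k fun β =>
    if β ∈ exps I then g.1 (β (π.symm 0)) (β (π.symm 1)) •
      Ideal.Quotient.mk I (monomial (pos (tr (vec π p q r) β)) (1 : k)) else 0

theorem ofColFun_expo (g : Col k (stair I π) p q r) {a c n : ℕ} (h : expo π a c n ∈ exps I) :
    ofColFun π g (monomial (expo π a c n) 1) =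
      g.1 a c • Ideal.Quotient.mk I (monomial (pos (vec π (a + p) (c + q) (n + r))) (1 : k)) := by
  rw [ofColFun, show monomial (expo π a c n) (1 : k) = basisMonomials (Fin 3) k (expo π a c n) from by simp,
    Module.Basis.constr_basis, if_pos h, tr_expo]
  simp

include hI in
theorem col_ne_zero_nonneg (g : Col k (stair I π) p q r) {a c n : ℕ} (hn : stair I π a c ≤ n) :
    g.1 a c = 0 ∨ 0 ≤ (a : ℤ) + p ∧ 0 ≤ (c : ℤ) + q ∧ 0 ≤ (n : ℤ) + r := by
  by_cases h' : Std (stair I π) (a + p) (c + q) (stair I π a c + r)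
  · obtain ⟨hx, hy, hz, -⟩ := h'; exact Or.inr ⟨hx, hy, by omega⟩
  · exact Or.inl (g.2.1 a c h')

include hI in
theorem ofColFun_step (g : Col k (stair I π) p q r) {a c n : ℕ} (h : expo π a c n ∈ exps I) (s t w : ℕ)
    (hstep : (s = 0 ∧ t = 0) ∨ (s = 1 ∧ t = 0) ∨ (s = 0 ∧ t = 1)) :
    ofColFun π g (monomial (expo π s t w + expo π a c n) 1) =
      monomial (expo π s t w) (1 : k) • ofColFun π g (monomial (expo π a c n) 1) := by
  have h' : expo π (a + s) (c + t) (n + w) ∈ exps I := expo_mono_mem π h (by omega) (by omega) (by omega)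
  have hn := (mem_exps_expo_iff π hI).1 h
  rw [expo_add, show s + a = a + s by omega, show t + c = c + t by omega, show w + n = n + w by omega,
    ofColFun_expo π g h', ofColFun_expo π g h, smul_comm, smul_shift π _ s t w (col_ne_zero_nonneg π hI g hn)]
  have e : vec π ((a : ℤ) + p + s) (c + q + t) (n + r + w) =
      vec π (((a + s : ℕ) : ℤ) + p) ((c + t : ℕ) + q) ((n + w : ℕ) + r) := by rw [vec_inj]; omega
  rw [e]
  set T := vec π (((a + s : ℕ) : ℤ) + p) ((c + t : ℕ) + q) ((n + w : ℕ) + r) with hT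
  by_cases hst : (s = 0 ∧ t = 0)
  · simp [hst.1, hst.2]
  by_cases hp : pos T ∈ exps I
  · rw [mk_monomial_eq_zero_iff.2 hp, smul_zero, smul_zero]
  congr 1
  by_cases hz : 0 ≤ (stair I π a c : ℤ) + r
  swap
  · have h1 : g.1 a c = 0 := g.2.1 a c fun hs => hz hs.2.2.1
    have h2 : g.1 (a + s) (c + t) = 0 := g.2.1 _ _ fun hs => hz <| by
      have := stair_antitone π hI (show a ≤ a + s by omega) (show c ≤ c + t by omega) (I := I)
      have := hs.2.2.1; omega
    rw [h1, h2]
  by_cases hxy : 0 ≤ ((a + s : ℕ) : ℤ) + p ∧ 0 ≤ ((c + t : ℕ) : ℤ) + q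
  swap
  · have h1 : g.1 a c = 0 := g.2.1 a c fun hs => hxy ⟨by have := hs.1; omega, by have := hs.2.1; omega⟩
    have h2 : g.1 (a + s) (c + t) = 0 := g.2.1 _ _ fun hs => hxy ⟨hs.1, hs.2.1⟩
    rw [h1, h2]
  have hs : Std (stair I π) (((a + s : ℕ) : ℤ) + p) ((c + t : ℕ) + q) ((n + w : ℕ) + r) :=
    (std_iff π hI).2 ⟨(vec_nonneg π).2 ⟨hxy.1, hxy.2, by omega⟩, hp⟩
  have hs' : Std (stair I π) ((a : ℤ) + s + p) ((c : ℤ) + t + q) ((stair I π a c : ℤ) + r) := by
    obtain ⟨hx, hy, -, hlt⟩ := hs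
    exact ⟨by omega, by omega, hz, by
      rw [show ((a : ℤ) + s + p).toNat = (((a + s : ℕ) : ℤ) + p).toNat by omega,
        show ((c : ℤ) + t + q).toNat = (((c + t : ℕ) : ℤ) + q).toNat by omega]
      omega⟩
  rcases hstep with h0 | ⟨rfl, rfl⟩ | ⟨rfl, rfl⟩
  · exact absurd h0 hst
  · simpa using g.2.2.1 a c (by simpa using hs')
  · simpa using g.2.2.2 a c (by simpa using hs')

include hI in
theorem ofColFun_mul_monomial (g : Col k (stair I π) p q r) (γ : Fin 3 →₀ ℕ) : ∀ β ∈ exps I,
    ofColFun π g (monomial (γ + β) 1) = monomial γ (1 : k) • ofColFun π g (monomial β 1) := by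
  obtain ⟨s, t, w, rfl⟩ : ∃ s t w, γ = expo π s t w := ⟨_, _, _, expo_surj π γ⟩
  induction s with
  | zero =>
    induction t with
    | zero =>
      intro β hβ
      obtain ⟨a, c, n, rfl⟩ : ∃ a c n, β = expo π a c n := ⟨_, _, _, expo_surj π β⟩
      exact ofColFun_step π hI g hβ 0 0 w (Or.inl ⟨rfl, rfl⟩)
    | succ t ih =>
      intro β hβ
      obtain ⟨a, c, n, rfl⟩ : ∃ a c n, β = expo π a c n := ⟨_, _, _, expo_surj π β⟩
      have e : expo π 0 (t + 1) w = expo π 0 1 0 + expo π 0 t w := by rw [expo_add, expo_inj]; omega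
      have h' : expo π (0 + a) (t + c) (w + n) ∈ exps I := expo_mono_mem π hβ (by omega) (by omega) (by omega)
      rw [e, add_assoc, expo_add π 0 t w, ofColFun_step π hI g h' 0 1 0 (Or.inr (Or.inr ⟨rfl, rfl⟩)),
        ← expo_add, monomial_add_eq (expo π 0 t w) (expo π 0 1 0), ih _ hβ, mul_smul]
  | succ s ih =>
    intro β hβ
    obtain ⟨a, c, n, rfl⟩ : ∃ a c n, β = expo π a c n := ⟨_, _, _, expo_surj π β⟩
    have e : expo π (s + 1) t w = expo π 1 0 0 + expo π s t w := by rw [expo_add, expo_inj]; omega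
    have h' : expo π (s + a) (t + c) (w + n) ∈ exps I := expo_mono_mem π hβ (by omega) (by omega) (by omega)
    rw [e, add_assoc, expo_add π s t w, ofColFun_step π hI g h' 1 0 0 (Or.inr (Or.inl ⟨rfl, rfl⟩)),
      ← expo_add, monomial_add_eq (expo π s t w) (expo π 1 0 0), ih _ hβ, mul_smul]

theorem toCol_surjective : Function.Surjective (toCol π hI p q r) := by
  intro g
  let φ : Tgt I :=
    { toFun := fun f => ofColFun π g (f : MvPolynomial (Fin 3) k)
      map_add' := fun f f' => map_add _ _ _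
      map_smul' := fun s f => linear_of_monomial hI _ (fun β hβ γ => ofColFun_mul_monomial π hI g γ β hβ) s f.2 }
  have hφ : φ ∈ tPiece I (vec π p q r) := by
    intro β hβ
    obtain ⟨a, c, n, rfl⟩ : ∃ a c n, β = expo π a c n := ⟨_, _, _, expo_surj π β⟩
    constructor
    · intro _
      change ofColFun π g _ ∈ _
      rw [ofColFun_expo π g hβ, shift_eq_pos, tr_expo]
      exact Submodule.smul_mem _ _ (Submodule.mem_span_singleton_self _)
    · rintro ⟨l, hl⟩
      change ofColFun π g _ = 0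
      rw [ofColFun_expo π g hβ]
      rcases col_ne_zero_nonneg π hI g ((mem_exps_expo_iff π hI).1 hβ) with h | h
      · rw [h, zero_smul]
      · refine absurd hl (not_lt.2 ?_)
        change 0 ≤ tr _ _ l
        rw [tr_expo]
        exact (vec_nonneg π).2 h l
  refine ⟨⟨φ, hφ⟩, Subtype.ext (funext₂ fun a c => ?_)⟩
  change coefAt hI _ (ofColFun π g _) = _
  rw [ofColFun_expo π g ((mem_exps_expo_iff π hI).2 le_rfl)]
  by_cases hs : Std (stair I π) (a + p) (c + q) (stair I π a c + r)
  · rw [coefAt_smul_mk_monomial hI ((std_iff π hI).1 hs).2]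
  · rw [g.2.1 a c hs, zero_smul, map_zero]

include hI in
/-- A graded piece of `T(I)` has the dimension of its staircase model. -/
theorem finrank_tPiece_vec (p q r : ℤ) :
    Module.finrank k (tPiece I (vec π p q r)) = Module.finrank k (Col k (stair I π) p q r) :=
  (LinearEquiv.ofBijective (toCol π hI p q r) ⟨toCol_injective π hI, toCol_surjective π hI⟩).finrank_eq

end GrothLib.HilbPn
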