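import Groth.Agent.Lib.HilbPn.Decomp
import Mathlib.LinearAlgebra.Dimension.Constructions
import Mathlib.LinearAlgebra.FiniteDimensional.Basic

/-!
# Graded pieces of `Hom_S(I, S/I)` and bounded components of regions
-/

namespace GrothLib.HilbPn

open MvPolynomial W4c1hilbpn

universe u

variable {σ : Type} [Fintype σ] {k : Type u} [Field k] {I : Ideal (MvPolynomial σ k)} {α : σ → ℤ}

/-- The natural exponent vector of a nonnegative integer vector. -/
noncomputable def pos (γ : σ → ℤ) : σ →₀ ℕ := Finsupp.equivFunOnFinite.symm fun i => (γ i).toNat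

/-- The exponent vector `γ - α`. -/
noncomputable def back (α γ : σ → ℤ) : σ →₀ ℕ := pos fun i => γ i - α i

/-- The integer vector `β + α`. -/
def tr (α : σ → ℤ) (β : σ →₀ ℕ) : σ → ℤ := fun i => (β i : ℤ) + α i

omit [Fintype σ] in
theorem tr_apply (α : σ → ℤ) (β : σ →₀ ℕ) (i : σ) : tr α β i = (β i : ℤ) + α i := rfl

@[simp] theorem pos_apply (γ : σ → ℤ) (i : σ) : pos γ i = (γ i).toNat := rfl

theorem shift_eq_pos (β : σ →₀ ℕ) (α : σ → ℤ) : shift β α = pos (tr α β) := rfl

theorem back_tr (α : σ → ℤ) (β : σ →₀ ℕ) : back α (tr α β) = β :=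
  Finsupp.ext fun i => by simp [back, tr]

theorem mem_region_iff {γ : σ → ℤ} :
    γ ∈ region I α ↔ (∃ β ∈ exps I, γ = tr α β) ∧ ¬ ((∀ i, 0 ≤ γ i) ∧ pos γ ∈ exps I) := Iff.rfl

theorem back_spec {γ : σ → ℤ} (h : γ ∈ region I α) : back α γ ∈ exps I ∧ tr α (back α γ) = γ := by
  obtain ⟨⟨β, hβ, rfl⟩, -⟩ := mem_region_iff.1 h
  rw [back_tr]
  exact ⟨hβ, rfl⟩

theorem tr_add_single [DecidableEq σ] (α : σ → ℤ) (β : σ →₀ ℕ) (i : σ) :
    tr α (β + Finsupp.single i 1) = tr α β + Pi.single i 1 := by
  funext j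
  simp only [tr, Finsupp.add_apply, Pi.add_apply]
  by_cases h : j = i
  · subst h; simp; ring
  · simp [h]

theorem step_cases [DecidableEq σ] {a b : σ → ℤ} (h : (stepGraph σ).Adj a b) :
    ∃ i, b = a + Pi.single i 1 ∨ a = b + Pi.single i 1 := by
  simp only [stepGraph, SimpleGraph.fromRel_adj] at h
  have hs : ∑ i, |a i - b i| = 1 := h.2.elim id fun e => by
    rw [← e]; exact Finset.sum_congr rfl fun i _ => abs_sub_comm _ _
  obtain ⟨i, hi⟩ := Function.ne_iff.1 h.1
  have hi1 : 1 ≤ |a i - b i| := Int.one_le_abs (sub_ne_zero.2 hi)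
  have hle := Finset.single_le_sum (f := fun j => |a j - b j|) (fun j _ => abs_nonneg _) (Finset.mem_univ i)
  have hsplit := Finset.add_sum_erase Finset.univ (fun j => |a j - b j|) (Finset.mem_univ i)
  have hz : ∀ j, j ≠ i → a j = b j := fun j hj => by
    have h0 : ∑ l ∈ Finset.univ.erase i, |a l - b l| = 0 := by omega
    have := (Finset.sum_eq_zero_iff_of_nonneg fun l _ => abs_nonneg _).1 h0 j (by simp [hj])
    exact sub_eq_zero.1 (abs_eq_zero.1 this)
  refine ⟨i, ?_⟩
  rcases abs_eq (zero_le_one (α := ℤ)) |>.1 (show |a i - b i| = 1 by omega) with h' | h'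
  · right
    funext j
    by_cases hj : j = i
    · subst hj; simp; omega
    · simp [hj, hz j hj]
  · left
    funext j
    by_cases hj : j = i
    · subst hj; simp; omega
    · simp [hj, hz j hj]

theorem step_adj [DecidableEq σ] (a : σ → ℤ) (i : σ) : (stepGraph σ).Adj a (a + Pi.single i 1) := by
  simp only [stepGraph, SimpleGraph.fromRel_adj]
  refine ⟨fun h => by simpa using congrFun h i, Or.inl ?_⟩
  rw [Finset.sum_eq_single i (fun j _ hj => by simp [hj]) (by simp)]
  simp

/-- The graph of the region. -/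
abbrev regGraph (I : Ideal (MvPolynomial σ k)) (α : σ → ℤ) : SimpleGraph (region I α) :=
  (stepGraph σ).induce (region I α)

/-- Bounded connected components of the region. -/
abbrev BddComp (I : Ideal (MvPolynomial σ k)) (α : σ → ℤ) : Type :=
  {c : (regGraph I α).ConnectedComponent // c.supp.Finite}

theorem reg_adj_tr [DecidableEq σ] {β : σ →₀ ℕ} {i : σ} (h : tr α β ∈ region I α)
    (h' : tr α (β + Finsupp.single i 1) ∈ region I α) :
    (regGraph I α).connectedComponentMk ⟨_, h⟩ = (regGraph I α).connectedComponentMk ⟨_, h'⟩ := by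
  refine SimpleGraph.ConnectedComponent.sound (SimpleGraph.Adj.reachable ?_)
  change (stepGraph σ).Adj (tr α β) (tr α (β + Finsupp.single i 1))
  rw [tr_add_single]
  exact step_adj _ _

/-- A component through a point with a negative coordinate is unbounded. -/
theorem not_finite_of_neg [Nontrivial σ] {γ : σ → ℤ} (h : γ ∈ region I α) {i : σ} (hi : γ i < 0) :
    ¬ ((regGraph I α).connectedComponentMk ⟨γ, h⟩).supp.Finite := by
  classical
  obtain ⟨j, hj⟩ := exists_ne i
  obtain ⟨hβ, hγ⟩ := back_spec h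
  have hmem : ∀ m : ℕ, tr α (back α γ + Finsupp.single j m) ∈ region I α := fun m => by
    refine mem_region_iff.2 ⟨⟨_, add_mem_exps hβ _, rfl⟩, fun hh => ?_⟩
    have h1 := hh.1 i
    have h2 := congrFun hγ i
    simp [tr_apply, Finsupp.single_eq_of_ne (Ne.symm hj)] at h1 h2
    omega
  have hmk : ∀ m : ℕ, (regGraph I α).connectedComponentMk ⟨_, hmem m⟩ =
      (regGraph I α).connectedComponentMk ⟨γ, h⟩ := by
    intro m
    induction m with
    | zero => congr; simp [hγ]
    | succ m ih =>
      rw [← ih]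
      have e : back α γ + Finsupp.single j (m + 1) = back α γ + Finsupp.single j m + Finsupp.single j 1 := by
        rw [Finsupp.single_add, add_assoc]
      have h' := hmem (m + 1)
      rw [e] at h'
      refine Eq.trans ?_ (reg_adj_tr (hmem m) h').symm
      congr
  intro hfin
  have hinj : Function.Injective fun m : ℕ => (⟨_, hmem m⟩ : region I α) := fun a b e => by
    have := congrFun (congrArg Subtype.val e) j
    simpa [tr_apply] using this
  exact Set.infinite_univ ((hfin.preimage hinj.injOn).subset fun m _ => hmk m)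

theorem nonneg_of_bdd [Nontrivial σ] {γ : σ → ℤ} (h : γ ∈ region I α)
    (hb : ((regGraph I α).connectedComponentMk ⟨γ, h⟩).supp.Finite) (i : σ) : 0 ≤ γ i := by
  by_contra hi; exact not_finite_of_neg h (not_le.1 hi) hb

theorem pos_notMem_of_nonneg {γ : σ → ℤ} (h : γ ∈ region I α) (hn : ∀ i, 0 ≤ γ i) : pos γ ∉ exps I :=
  fun hp => (mem_region_iff.1 h).2 ⟨hn, hp⟩

theorem exists_neg_of_not_finite (hI : IsMonomial I) [Module.Finite k (MvPolynomial σ k ⧸ I)]
    {c : (regGraph I α).ConnectedComponent} (hc : ¬ c.supp.Finite) :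
    ∃ γ : region I α, (regGraph I α).connectedComponentMk γ = c ∧ ∃ i, (γ : σ → ℤ) i < 0 := by
  by_contra hno
  push Not at hno
  refine hc (Set.Finite.of_finite_image (f := fun γ : region I α => pos (γ : σ → ℤ))
    ((finite_compl_exps hI).subset ?_) fun a ha b hb e => ?_)
  · rintro - ⟨γ, hγ, rfl⟩
    exact pos_notMem_of_nonneg γ.2 (hno γ hγ)
  · refine Subtype.ext (funext fun i => ?_)
    have := congrArg (fun f => (f i : ℤ)) e
    have := hno a ha i; have := hno b hb i
    simp at *; omega

theorem finite_bddComp [Nontrivial σ] (hI : IsMonomial I) [Module.Finite k (MvPolynomial σ k ⧸ I)] :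
    Finite (BddComp I α) := by
  have hn : ∀ c : BddComp I α, ∀ i, 0 ≤ (Quot.out c.1 : region I α).1 i := fun c => by
    refine nonneg_of_bdd (Quot.out c.1).2 ?_
    have e : (regGraph I α).connectedComponentMk (Quot.out c.1) = c.1 := Quot.out_eq _
    exact e.symm ▸ c.2
  haveI := (finite_compl_exps hI).to_subtype
  refine Finite.of_injective (β := ↥((exps I)ᶜ))
    (fun c => ⟨pos (Quot.out c.1 : region I α).1, pos_notMem_of_nonneg (Quot.out c.1).2 (hn c)⟩) ?_
  intro a b e
  refine Subtype.ext ?_
  rw [← Quot.out_eq a.1, ← Quot.out_eq b.1]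
  congr 1
  refine Subtype.ext (funext fun i => ?_)
  have := congrArg (fun f => ((f : ↥((exps I)ᶜ)).1 i : ℤ)) e
  have := hn a i; have := hn b i
  simp at *; omega

open Classical in
/-- The functional "coefficient of a standard monomial" on `S/I`. -/
noncomputable def coefAt (hI : IsMonomial I) (δ : σ →₀ ℕ) : (MvPolynomial σ k ⧸ I) →ₗ[k] k :=
  if hδ : δ ∈ exps I then 0 else
  (Submodule.restrictScalars k I).liftQ (lcoeff k δ) (fun p hp => by
      rw [LinearMap.mem_ker, lcoeff_apply]
      by_contra h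
      exact hδ (hI p hp δ (mem_support_iff.2 h)))
    ∘ₗ (Submodule.Quotient.restrictScalarsEquiv k I).symm.toLinearMap

theorem coefAt_mk (hI : IsMonomial I) {δ : σ →₀ ℕ} (hδ : δ ∉ exps I) (p : MvPolynomial σ k) :
    coefAt hI δ (Ideal.Quotient.mk I p) = coeff δ p := by
  rw [coefAt, dif_neg hδ]; rfl

theorem coefAt_smul_mk_monomial (hI : IsMonomial I) {δ : σ →₀ ℕ} (hδ : δ ∉ exps I) (c : k) :
    coefAt hI δ (c • Ideal.Quotient.mk I (monomial δ (1 : k))) = c := by
  classical
  rw [map_smul, coefAt_mk hI hδ, coeff_monomial, if_pos rfl, smul_eq_mul, mul_one]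

/-- The scalar by which `φ` acts at a point of the region. -/
noncomputable def val (hI : IsMonomial I) (γ : region I α) : tPiece I α →ₗ[k] k where
  toFun φ := coefAt hI (pos γ.1) (φ.1 ⟨monomial (back α γ.1) 1, (back_spec γ.2).1⟩)
  map_add' φ ψ := by rw [← map_add]; rfl
  map_smul' c φ := by rw [RingHom.id_apply, ← map_smul]; rfl

theorem val_apply (hI : IsMonomial I) (γ : region I α) (φ : tPiece I α) :
    val hI γ φ = coefAt hI (pos γ.1) (φ.1 ⟨monomial (back α γ.1) 1, (back_spec γ.2).1⟩) := rfl

theorem eq_zero_of_neg (φ : tPiece I α) {β : σ →₀ ℕ} (hβ : monomial β (1 : k) ∈ I)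
    (h : ∃ i, tr α β i < 0) : φ.1 ⟨monomial β 1, hβ⟩ = 0 := (φ.2 β hβ).2 h

theorem val_eq_zero_of_neg (hI : IsMonomial I) (φ : tPiece I α) (γ : region I α)
    (h : ∃ i, γ.1 i < 0) : val hI γ φ = 0 := by
  rw [val_apply, eq_zero_of_neg φ, map_zero]
  rw [(back_spec γ.2).2]; exact h

theorem apply_eq_val_smul (hI : IsMonomial I) (φ : tPiece I α) {β : σ →₀ ℕ} (hβ : monomial β (1 : k) ∈ I)
    (h : tr α β ∈ region I α) (hn : ∀ i, 0 ≤ tr α β i) :
    φ.1 ⟨monomial β 1, hβ⟩ = val hI ⟨_, h⟩ φ • Ideal.Quotient.mk I (monomial (pos (tr α β)) (1 : k)) := by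
  obtain ⟨c, hc⟩ := Submodule.mem_span_singleton.1 ((φ.2 β hβ).1 hn)
  rw [shift_eq_pos] at hc
  have e : (⟨monomial (back α (tr α β)) 1, (back_spec h).1⟩ : I) = ⟨monomial β 1, hβ⟩ :=
    Subtype.ext (by simp only [back_tr])
  rw [val_apply, e, ← hc, coefAt_smul_mk_monomial hI (pos_notMem_of_nonneg h hn)]

theorem val_step [DecidableEq σ] (hI : IsMonomial I) (φ : tPiece I α) (a b : region I α) {i : σ}
    (e : b.1 = a.1 + Pi.single i 1) : val hI a φ = val hI b φ := by
  obtain ⟨a, ha⟩ := a
  obtain ⟨b, hb⟩ := b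
  change b = a + Pi.single i 1 at e
  subst e
  have hβ : back α a ∈ exps I := (back_spec ha).1
  set β := back α a with hβdef
  have hab : tr α β = a := (back_spec ha).2
  by_cases hnb : ∀ l, 0 ≤ (a + Pi.single i 1 : σ → ℤ) l
  swap
  · push Not at hnb
    obtain ⟨l, hl⟩ := hnb
    have hal : a l < 0 := by
      have : 0 ≤ (Pi.single i 1 : σ → ℤ) l := by
        by_cases hli : l = i <;> simp [hli]
      simp only [Pi.add_apply] at hl
      omega
    rw [val_eq_zero_of_neg hI φ ⟨_, hb⟩ ⟨l, hl⟩, val_eq_zero_of_neg hI φ ⟨_, ha⟩ ⟨l, hal⟩]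
  have hbb : tr α (β + Finsupp.single i 1) = a + Pi.single i 1 := by rw [tr_add_single, hab]
  have hb' : monomial (β + Finsupp.single i 1) (1 : k) ∈ I := add_mem_exps hβ _
  have hb'' : monomial (Finsupp.single i 1 + β) (1 : k) ∈ I := add_comm β _ ▸ hb'
  have hrel : φ.1 ⟨monomial (β + Finsupp.single i 1) 1, hb'⟩ =
      monomial (Finsupp.single i 1) (1 : k) • φ.1 ⟨monomial β 1, hβ⟩ := by
    rw [← tgt_monomial_add φ.1 hβ _ hb'']
    exact congrArg φ.1 (Subtype.ext (congrArg (fun e => monomial e (1 : k)) (add_comm _ _)))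
  have hR : tr α (β + Finsupp.single i 1) ∈ region I α := hbb.symm ▸ hb
  have hRn : ∀ l, 0 ≤ tr α (β + Finsupp.single i 1) l := hbb.symm ▸ hnb
  have hstd := pos_notMem_of_nonneg hR hRn
  have e1 := apply_eq_val_smul hI φ hb' hR hRn
  have evalb : val hI ⟨_, hR⟩ φ = val hI ⟨a + Pi.single i 1, hb⟩ φ := by congr 2; exact Subtype.ext hbb
  have e2 : val hI ⟨a + Pi.single i 1, hb⟩ φ =
      coefAt hI (pos (tr α (β + Finsupp.single i 1))) (monomial (Finsupp.single i 1) (1 : k) • φ.1 ⟨monomial β 1, hβ⟩) := by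
    rw [← hrel, e1, coefAt_smul_mk_monomial hI hstd, evalb]
  rw [e2]
  by_cases hna : ∀ l, 0 ≤ a l
  · have ha' : tr α β ∈ region I α := hab.symm ▸ ha
    rw [apply_eq_val_smul hI φ hβ ha' (hab.symm ▸ hna), smul_comm,
      show monomial (Finsupp.single i 1) (1 : k) • Ideal.Quotient.mk I (monomial (pos (tr α β)) (1 : k)) =
        Ideal.Quotient.mk I (monomial (Finsupp.single i 1) 1 * monomial (pos (tr α β)) 1) from rfl,
      ← monomial_add_eq,
      show Finsupp.single i 1 + pos (tr α β) = pos (tr α (β + Finsupp.single i 1)) from Finsupp.ext fun l => by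
        have := hna l
        rw [← hab] at this
        simp only [tr_apply, pos_apply, Finsupp.add_apply] at this ⊢
        omega,
      coefAt_smul_mk_monomial hI hstd]
    congr 2
    exact Subtype.ext hab.symm
  · push Not at hna
    rw [val_eq_zero_of_neg hI φ _ hna, eq_zero_of_neg φ hβ (hab.symm ▸ hna), smul_zero, map_zero]

theorem val_eq_of_reachable (hI : IsMonomial I) (φ : tPiece I α) {a b : region I α}
    (h : (regGraph I α).Reachable a b) : val hI a φ = val hI b φ := by
  classical
  obtain ⟨w⟩ := h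
  induction w with
  | nil => rfl
  | @cons u v _ huv _ ih =>
    refine Eq.trans ?_ ih
    obtain ⟨i, e | e⟩ := step_cases (show (stepGraph σ).Adj u.1 v.1 from huv)
    · exact val_step hI φ u v e
    · exact (val_step hI φ v u e).symm

/-- `φ` as a function on bounded components. -/
noncomputable def toComp (hI : IsMonomial I) : tPiece I α →ₗ[k] (BddComp I α → k) :=
  LinearMap.pi fun c => val hI (Quot.out c.1)

theorem toComp_injective (hI : IsMonomial I) [Module.Finite k (MvPolynomial σ k ⧸ I)] :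
    Function.Injective (toComp (α := α) hI) := by
  rw [injective_iff_map_eq_zero]
  intro φ hφ
  refine Subtype.ext (tgt_ext hI fun β hβ => ?_)
  change φ.1 _ = 0
  by_cases hn : ∀ i, 0 ≤ tr α β i
  swap
  · push Not at hn; exact eq_zero_of_neg φ hβ hn
  by_cases hp : pos (tr α β) ∈ exps I
  · obtain ⟨c, hc⟩ := Submodule.mem_span_singleton.1 ((φ.2 β hβ).1 hn)
    rw [← hc, shift_eq_pos, mk_monomial_eq_zero_iff.2 hp, smul_zero]
  have hR : tr α β ∈ region I α := mem_region_iff.2 ⟨⟨β, hβ, rfl⟩, fun h => hp h.2⟩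
  rw [apply_eq_val_smul hI φ hβ hR hn]
  suffices h0 : val hI ⟨_, hR⟩ φ = 0 by rw [h0, zero_smul]
  by_cases hb : ((regGraph I α).connectedComponentMk ⟨_, hR⟩).supp.Finite
  · rw [← val_eq_of_reachable hI φ (SimpleGraph.ConnectedComponent.exact
      (Quot.out_eq ((regGraph I α).connectedComponentMk ⟨_, hR⟩)))]
    exact congrFun hφ ⟨_, hb⟩
  · obtain ⟨γ, hγ, hneg⟩ := exists_neg_of_not_finite hI hb
    rw [← val_eq_of_reachable hI φ (SimpleGraph.ConnectedComponent.exact hγ)]
    exact val_eq_zero_of_neg hI φ γ hneg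

/-- A map determined on monomials of `I`, compatible with multiplication by monomials, is `S`-linear on `I`. -/
theorem linear_of_monomial (hI : IsMonomial I) (L : MvPolynomial σ k →ₗ[k] (MvPolynomial σ k ⧸ I))
    (h : ∀ β ∈ exps I, ∀ γ, L (monomial (γ + β) 1) = monomial γ (1 : k) • L (monomial β 1))
    (r : MvPolynomial σ k) {p : MvPolynomial σ k} (hp : p ∈ I) : L (r * p) = r • L p := by
  classical
  induction r using MvPolynomial.induction_on' with
  | monomial γ c =>
    rw [show monomial γ c = c • monomial γ (1 : k) by rw [smul_monomial, smul_eq_mul, mul_one],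
      smul_mul_assoc, map_smul, smul_assoc]
    congr 1
    conv_lhs => rw [as_sum p, Finset.mul_sum, map_sum]
    conv_rhs => rw [as_sum p, map_sum, Finset.smul_sum]
    refine Finset.sum_congr rfl fun β hβ => ?_
    rw [show monomial β (coeff β p) = coeff β p • monomial β (1 : k) by rw [smul_monomial, smul_eq_mul, mul_one],
      mul_smul_comm, map_smul, map_smul, ← monomial_add_eq, h β (hI p hp β hβ) γ,
      smul_comm (monomial γ (1 : k)) (coeff β p)]
  | add a b ha hb => rw [add_mul, map_add, ha, hb, add_smul]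

open Classical in
/-- The scalar at `γ` prescribed by a function on bounded components. -/
noncomputable def scal (f : BddComp I α → k) (γ : σ → ℤ) : k :=
  if h : γ ∈ region I α then
    (if hb : ((regGraph I α).connectedComponentMk ⟨γ, h⟩).supp.Finite then f ⟨_, hb⟩ else 0) else 0

theorem scal_eq_zero_of_neg [Nontrivial σ] (f : BddComp I α → k) {γ : σ → ℤ} {i : σ} (hi : γ i < 0) :
    scal f γ = 0 := by
  by_cases h : γ ∈ region I α
  · rw [scal, dif_pos h, dif_neg (not_finite_of_neg h hi)]
  · rw [scal, dif_neg h]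

theorem scal_eq_of_mk_eq (f : BddComp I α → k) {γ γ' : σ → ℤ} (h : γ ∈ region I α) (h' : γ' ∈ region I α)
    (e : (regGraph I α).connectedComponentMk ⟨γ, h⟩ = (regGraph I α).connectedComponentMk ⟨γ', h'⟩) :
    scal f γ = scal f γ' := by
  rw [scal, scal, dif_pos h, dif_pos h']
  generalize (regGraph I α).connectedComponentMk ⟨γ, h⟩ = c at e ⊢
  subst e
  rfl

open Classical in
/-- The values on monomials of the map attached to a function on bounded components. -/
noncomputable def ofCompFun (f : BddComp I α → k) : MvPolynomial σ k →ₗ[k] (MvPolynomial σ k ⧸ I) :=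
  (basisMonomials σ k).constr k fun β =>
    if β ∈ exps I then scal f (tr α β) • Ideal.Quotient.mk I (monomial (pos (tr α β)) (1 : k)) else 0

theorem ofCompFun_monomial (f : BddComp I α → k) {β : σ →₀ ℕ} (hβ : β ∈ exps I) :
    ofCompFun f (monomial β 1) = scal f (tr α β) • Ideal.Quotient.mk I (monomial (pos (tr α β)) (1 : k)) := by
  rw [ofCompFun, show monomial β (1 : k) = basisMonomials σ k β from by simp, Module.Basis.constr_basis,
    if_pos hβ]

theorem ofCompFun_step [Nontrivial σ] (f : BddComp I α → k) {β : σ →₀ ℕ} (hβ : β ∈ exps I) (i : σ) :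
    ofCompFun f (monomial (Finsupp.single i 1 + β) 1) =
      monomial (Finsupp.single i 1) (1 : k) • ofCompFun f (monomial β 1) := by
  classical
  have hβ' : β + Finsupp.single i 1 ∈ exps I := add_mem_exps hβ _
  rw [add_comm, ofCompFun_monomial f hβ', ofCompFun_monomial f hβ, smul_comm]
  set δ := tr α (β + Finsupp.single i 1) with hδ
  by_cases hn : ∀ l, 0 ≤ tr α β l
  · have hpos : pos δ = Finsupp.single i 1 + pos (tr α β) := Finsupp.ext fun l => by
      have := hn l
      simp only [hδ, tr_apply, pos_apply, Finsupp.add_apply] at this ⊢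
      omega
    rw [show monomial (Finsupp.single i 1) (1 : k) • Ideal.Quotient.mk I (monomial (pos (tr α β)) (1 : k)) =
        Ideal.Quotient.mk I (monomial (Finsupp.single i 1) 1 * monomial (pos (tr α β)) 1) from rfl,
      ← monomial_add_eq, ← hpos]
    by_cases hp : pos δ ∈ exps I
    · rw [mk_monomial_eq_zero_iff.2 hp, smul_zero, smul_zero]
    · have hR' : δ ∈ region I α := mem_region_iff.2 ⟨⟨_, hβ', rfl⟩, fun h => hp h.2⟩
      have hR : tr α β ∈ region I α := mem_region_iff.2 ⟨⟨_, hβ, rfl⟩, fun h =>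
        hp (hpos ▸ add_comm (pos (tr α β)) _ ▸ add_mem_exps h.2 _)⟩
      rw [scal_eq_of_mk_eq f hR hR' (reg_adj_tr hR hR')]
  · push Not at hn
    obtain ⟨l, hl⟩ := hn
    rw [scal_eq_zero_of_neg f hl, zero_smul]
    have hR : tr α β ∈ region I α := mem_region_iff.2 ⟨⟨_, hβ, rfl⟩, fun h => absurd (h.1 l) (not_le.2 hl)⟩
    by_cases hR' : δ ∈ region I α
    · rw [← scal_eq_of_mk_eq f hR hR' (reg_adj_tr hR hR'), scal_eq_zero_of_neg f hl, zero_smul]
    · rw [scal, dif_neg hR', zero_smul]

theorem ofCompFun_mul_monomial [Nontrivial σ] (f : BddComp I α → k) (γ : σ →₀ ℕ) :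
    ∀ β ∈ exps I, ofCompFun f (monomial (γ + β) 1) = monomial γ (1 : k) • ofCompFun f (monomial β 1) := by
  induction γ using Finsupp.induction with
  | zero => intro β _; rw [zero_add, monomial_zero', C_1, one_smul]
  | single_add i b γ _ hb ih =>
    clear hb
    induction b generalizing γ with
    | zero => intro β hβ; rw [Finsupp.single_zero, zero_add]; exact ih β hβ
    | succ b ihb =>
      intro β hβ
      rw [show Finsupp.single i (b + 1) + γ + β = Finsupp.single i 1 + (Finsupp.single i b + γ + β) by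
          rw [Finsupp.single_add]; abel,
        show Finsupp.single i (b + 1) + γ = Finsupp.single i 1 + (Finsupp.single i b + γ) by
          rw [Finsupp.single_add]; abel,
        ofCompFun_step f (by rw [add_comm]; exact add_mem_exps hβ _) i, monomial_add_eq (Finsupp.single i b + γ),
        mul_smul]
      congr 1
      exact ihb γ (by assumption) ih β hβ

/-- The map attached to a function on bounded components. -/
noncomputable def ofComp [Nontrivial σ] (hI : IsMonomial I) (f : BddComp I α → k) : Tgt I where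
  toFun p := ofCompFun f (p : MvPolynomial σ k)
  map_add' p q := map_add _ _ _
  map_smul' r p := linear_of_monomial hI _ (fun β hβ γ => ofCompFun_mul_monomial f γ β hβ) r p.2

theorem ofComp_mem [Nontrivial σ] (hI : IsMonomial I) (f : BddComp I α → k) : ofComp hI f ∈ tPiece I α := by
  intro β hβ
  constructor
  · intro _
    change ofCompFun f (monomial β 1) ∈ _
    rw [ofCompFun_monomial f hβ, shift_eq_pos]
    exact Submodule.smul_mem _ _ (Submodule.mem_span_singleton_self _)
  · rintro ⟨i, hi⟩
    change ofCompFun f (monomial β 1) = 0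
    rw [ofCompFun_monomial f hβ, scal_eq_zero_of_neg f (i := i) hi, zero_smul]

theorem toComp_surjective [Nontrivial σ] (hI : IsMonomial I) :
    Function.Surjective (toComp (α := α) hI) := fun f => by
  refine ⟨⟨ofComp hI f, ofComp_mem hI f⟩, funext fun c => ?_⟩
  change val hI (Quot.out c.1) _ = f c
  rw [val_apply]
  change coefAt hI _ (ofCompFun f (monomial (back α (Quot.out c.1).1) 1)) = f c
  have hR := (Quot.out c.1).2
  have e : (regGraph I α).connectedComponentMk (Quot.out c.1) = c.1 := Quot.out_eq _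
  have hb : ((regGraph I α).connectedComponentMk (Quot.out c.1)).supp.Finite := e.symm ▸ c.2
  rw [ofCompFun_monomial f (back_spec hR).1, (back_spec hR).2,
    coefAt_smul_mk_monomial hI (pos_notMem_of_nonneg hR (nonneg_of_bdd hR hb)), scal, dif_pos hR, dif_pos hb]
  exact congrArg f (Subtype.ext e)

/-- `T(I)_α` has dimension the number of bounded components. -/
theorem finrank_tPiece [Nontrivial σ] (hI : IsMonomial I) [Module.Finite k (MvPolynomial σ k ⧸ I)]
    (α : σ → ℤ) : Module.finrank k (tPiece I α) = nBddComp I α := by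
  haveI := finite_bddComp (α := α) hI
  haveI := Fintype.ofFinite (BddComp I α)
  rw [(LinearEquiv.ofBijective (toComp (α := α) hI) ⟨toComp_injective hI, toComp_surjective hI⟩).finrank_eq,
    Module.finrank_pi, Fintype.card_eq_nat_card]
  rfl

end GrothLib.HilbPn
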