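import Groth.Agent.Lib.HilbPn.Mono
import Mathlib.Algebra.Order.BigOperators.Group.Finset
import Mathlib.LinearAlgebra.Finsupp.VectorSpace
import Mathlib.Algebra.MvPolynomial.CommRing

/-!
# The multigrading of `Hom_S(I, S/I)` for monomial ideals
-/

namespace GrothLib.HilbPn

open MvPolynomial W4c1hilbpn

universe u

variable {σ : Type} {k : Type u} [Field k] {I : Ideal (MvPolynomial σ k)}

/-- Two maps out of a monomial ideal agreeing on monomials are equal. -/
theorem tgt_ext (hI : IsMonomial I) {φ ψ : Tgt I}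
    (h : ∀ β (hβ : monomial β (1 : k) ∈ I), φ ⟨monomial β 1, hβ⟩ = ψ ⟨monomial β 1, hβ⟩) : φ = ψ := by
  classical
  have hspan : I = Ideal.span ((fun β => monomial β (1 : k)) '' exps I) := by
    refine le_antisymm (fun p hp => ?_) (Ideal.span_le.2 (by rintro - ⟨β, hβ, rfl⟩; exact hβ))
    rw [as_sum p]
    refine sum_mem fun β hβ => ?_
    rw [show monomial β (coeff β p) = C (coeff β p) * monomial β 1 by rw [C_mul_monomial, mul_one]]
    exact Ideal.mul_mem_left _ _ (Ideal.subset_span ⟨β, hI p hp β hβ, rfl⟩)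
  refine LinearMap.ext fun p => ?_
  obtain ⟨p, hp⟩ := p
  have hp' := hp
  rw [hspan] at hp'
  suffices H : ∀ q, q ∈ Ideal.span ((fun β => monomial β (1 : k)) '' exps I) → ∀ hq : q ∈ I,
      φ ⟨q, hq⟩ = ψ ⟨q, hq⟩ from H p hp' hp
  intro q hq
  induction hq using Submodule.span_induction with
  | mem x hx => obtain ⟨β, hβ, rfl⟩ := hx; exact fun hq => h β hq
  | zero =>
    intro hq
    rw [show (⟨0, hq⟩ : I) = 0 from rfl, map_zero, map_zero]
  | add x y hx hy ihx ihy =>
    intro hq
    replace hx : x ∈ I := hspan.symm ▸ hx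
    replace hy : y ∈ I := hspan.symm ▸ hy
    rw [show (⟨x + y, hq⟩ : I) = ⟨x, hx⟩ + ⟨y, hy⟩ from rfl, map_add, map_add, ihx hx, ihy hy]
  | smul a x hx ih =>
    intro hq
    replace hx : x ∈ I := hspan.symm ▸ hx
    rw [show (⟨a • x, hq⟩ : I) = a • ⟨x, hx⟩ from rfl, map_smul, map_smul, ih hx]

theorem monomial_add_eq (β γ : σ →₀ ℕ) :
    (monomial (γ + β) (1 : k)) = monomial γ 1 * monomial β 1 := by rw [monomial_mul, one_mul]

/-- Values at multiples of a monomial. -/
theorem tgt_monomial_add (φ : Tgt I) {β : σ →₀ ℕ} (hβ : monomial β (1 : k) ∈ I) (γ : σ →₀ ℕ)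
    (h : monomial (γ + β) (1 : k) ∈ I) :
    φ ⟨monomial (γ + β) 1, h⟩ = monomial γ (1 : k) • φ ⟨monomial β 1, hβ⟩ := by
  rw [← map_smul]
  exact congrArg φ (Subtype.ext (monomial_add_eq β γ))

theorem mk_monomial_eq_zero_iff {δ : σ →₀ ℕ} :
    Ideal.Quotient.mk I (monomial δ (1 : k)) = 0 ↔ δ ∈ exps I := Ideal.Quotient.eq_zero_iff_mem

variable [Finite σ]

theorem shift_apply {β : σ →₀ ℕ} {α : σ → ℤ} (h : ∀ i, 0 ≤ (β i : ℤ) + α i) (i : σ) :
    ((shift β α i : ℕ) : ℤ) = (β i : ℤ) + α i := by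
  simp only [shift, Finsupp.equivFunOnFinite_symm_apply_apply]
  exact Int.toNat_of_nonneg (h i)

theorem tPiece_eq_bot_of_nonneg (hI : IsMonomial I) {α : σ → ℤ} (h : ∀ i, 0 ≤ α i) : tPiece I α = ⊥ := by
  rw [eq_bot_iff]
  intro φ hφ
  refine (Submodule.mem_bot k).2 (tgt_ext hI fun β hβ => ?_)
  have hb : ∀ i, 0 ≤ (β i : ℤ) + α i := fun i => by have := h i; omega
  obtain ⟨c, hc⟩ := Submodule.mem_span_singleton.1 ((hφ β hβ).1 hb)
  have hz : shift β α ∈ exps I := by
    have hle : β ≤ shift β α := fun i => by have := shift_apply hb i; have := h i; omega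
    rw [← add_tsub_cancel_of_le hle]
    exact add_mem_exps hβ _
  rw [← hc, mk_monomial_eq_zero_iff.2 hz, smul_zero, LinearMap.zero_apply]

theorem tPiece_eq_bot_of_neg (hI : IsMonomial I) [Module.Finite k (MvPolynomial σ k ⧸ I)]
    {α : σ → ℤ} (h : ∀ i, α i < 0) {i j : σ} (hij : i ≠ j) : tPiece I α = ⊥ := by
  classical
  rw [eq_bot_iff]
  intro φ hφ
  refine (Submodule.mem_bot k).2 (tgt_ext hI fun β hβ => ?_)
  rw [LinearMap.zero_apply]
  induction hN : β j using Nat.strong_induction_on generalizing β with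
  | _ N ih =>
    subst hN
    by_cases hb : ∀ l, 0 ≤ (β l : ℤ) + α l
    swap
    · push Not at hb; exact (hφ β hβ).2 hb
    obtain ⟨c, hc⟩ := Submodule.mem_span_singleton.1 ((hφ β hβ).1 hb)
    by_cases hstd : shift β α ∈ exps I
    · rw [← hc, mk_monomial_eq_zero_iff.2 hstd, smul_zero]
    have hinj : Function.Injective fun m : ℕ => shift β α + Finsupp.single i m := fun a b e => by
      simpa using congrArg (fun f => f i) e
    have hex : ∃ m : ℕ, shift β α + Finsupp.single i m ∈ exps I := by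
      by_contra hno
      push Not at hno
      exact Set.infinite_univ (((finite_compl_exps hI).preimage hinj.injOn).subset fun m _ => hno m)
    have hm := Nat.find_spec hex
    have hm0 : Nat.find hex ≠ 0 := fun e => hstd (by simpa [e] using hm)
    obtain ⟨m, hmeq⟩ := Nat.exists_eq_succ_of_ne_zero hm0
    rw [hmeq] at hm
    have hstd' : shift β α + Finsupp.single i m ∉ exps I := Nat.find_min hex (by omega)
    set δ := shift β α + Finsupp.single i (m + 1) with hδ
    set γ := Finsupp.single i m + β with hγ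
    have hle : δ ≤ γ := fun l => by
      have h1 := shift_apply hb l; have := h l
      simp only [hδ, hγ, Finsupp.add_apply, Finsupp.single_apply]
      split_ifs <;> omega
    have hγI : monomial γ (1 : k) ∈ I := by rw [hγ, add_comm]; exact add_mem_exps hβ _
    have hδ0 : φ ⟨monomial δ 1, hm⟩ = 0 := by
      refine ih (δ j) ?_ δ hm rfl
      have h1 := shift_apply hb j; have := h j
      simp only [hδ, Finsupp.add_apply, Finsupp.single_eq_of_ne (Ne.symm hij)]
      omega
    have h0 : φ ⟨monomial γ 1, hγI⟩ = 0 := by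
      have he : γ - δ + δ = γ := tsub_add_cancel_of_le hle
      have h' : monomial (γ - δ + δ) (1 : k) ∈ I := he.symm ▸ hγI
      have := tgt_monomial_add φ hm (γ - δ) h'
      rw [hδ0, smul_zero] at this
      rw [← this]
      exact congrArg φ (Subtype.ext (congrArg (fun e => monomial e (1 : k)) he.symm))
    have h1 : φ ⟨monomial γ 1, hγI⟩ = monomial (Finsupp.single i m) (1 : k) • φ ⟨monomial β 1, hβ⟩ :=
      tgt_monomial_add φ hβ _ hγI
    rw [h0, ← hc, smul_comm] at h1
    have h2 : monomial (Finsupp.single i m) (1 : k) • Ideal.Quotient.mk I (monomial (shift β α) (1 : k)) =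
        Ideal.Quotient.mk I (monomial (shift β α + Finsupp.single i m) (1 : k)) := by
      rw [add_comm, monomial_add_eq, map_mul]; rfl
    rw [h2] at h1
    rcases smul_eq_zero.1 h1.symm with hc0 | hz
    · rw [← hc, hc0, zero_smul]
    · exact absurd (mk_monomial_eq_zero_iff.1 hz) hstd'

/-- Projection of `S/I` to the line of a monomial. -/
noncomputable def proj (hI : IsMonomial I) (δ : σ →₀ ℕ) :
    (MvPolynomial σ k ⧸ I) →ₗ[k] (MvPolynomial σ k ⧸ I) :=
  (Submodule.restrictScalars k I).liftQ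
    ((lcoeff k δ).smulRight (Ideal.Quotient.mk I (monomial δ (1 : k)))) (fun p hp => by
      rw [LinearMap.mem_ker, LinearMap.smulRight_apply]
      by_cases h : coeff δ p = 0
      · rw [lcoeff_apply, h, zero_smul]
      · rw [mk_monomial_eq_zero_iff.2 (hI p hp δ (mem_support_iff.2 h)), smul_zero])
    ∘ₗ (Submodule.Quotient.restrictScalarsEquiv k I).symm.toLinearMap

theorem proj_mk (hI : IsMonomial I) (δ : σ →₀ ℕ) (p : MvPolynomial σ k) :
    proj hI δ (Ideal.Quotient.mk I p) = coeff δ p • Ideal.Quotient.mk I (monomial δ (1 : k)) := rfl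

theorem proj_smul_of_le (hI : IsMonomial I) (γ δ : σ →₀ ℕ) (q : MvPolynomial σ k ⧸ I) :
    proj hI (γ + δ) (monomial γ (1 : k) • q) = monomial γ (1 : k) • proj hI δ q := by
  obtain ⟨p, rfl⟩ := Ideal.Quotient.mk_surjective q
  rw [show monomial γ (1 : k) • Ideal.Quotient.mk I p = Ideal.Quotient.mk I (monomial γ 1 * p) from rfl,
    proj_mk, proj_mk, coeff_monomial_mul, one_mul, smul_comm (monomial γ (1 : k)) (coeff δ p),
    monomial_add_eq]
  rfl

theorem proj_smul_of_not_le (hI : IsMonomial I) {γ δ : σ →₀ ℕ} (h : ¬ γ ≤ δ) (q : MvPolynomial σ k ⧸ I) :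
    proj hI δ (monomial γ (1 : k) • q) = 0 := by
  obtain ⟨p, rfl⟩ := Ideal.Quotient.mk_surjective q
  rw [show monomial γ (1 : k) • Ideal.Quotient.mk I p = Ideal.Quotient.mk I (monomial γ 1 * p) from rfl,
    proj_mk, coeff_monomial_mul', if_neg h, zero_smul]

theorem sum_proj (hI : IsMonomial I) (D : Finset (σ →₀ ℕ)) (hD : ∀ δ ∉ exps I, δ ∈ D)
    (q : MvPolynomial σ k ⧸ I) : ∑ δ ∈ D, proj hI δ q = q := by
  classical
  obtain ⟨p, rfl⟩ := Ideal.Quotient.mk_surjective q
  simp only [proj_mk]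
  rw [← sub_eq_zero]
  have e : ∑ δ ∈ D, coeff δ p • Ideal.Quotient.mk I (monomial δ (1 : k)) =
      Ideal.Quotient.mk I (∑ δ ∈ D, monomial δ (coeff δ p)) := by
    rw [map_sum]
    refine Finset.sum_congr rfl fun δ _ => ?_
    change Ideal.Quotient.mk I (coeff δ p • monomial δ (1 : k)) = _
    rw [smul_monomial, smul_eq_mul, mul_one]
  rw [e, ← map_sub, Ideal.Quotient.eq_zero_iff_mem]
  refine mem_of_support_subset fun β hβ => ?_
  by_contra hstd
  rw [mem_support_iff, MvPolynomial.coeff_sub, coeff_sum, Finset.sum_eq_single β (fun b _ hb => by rw [coeff_monomial, if_neg hb])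
    (fun h => absurd (hD β hstd) h), coeff_monomial, if_pos rfl, sub_self] at hβ
  exact hβ rfl

open Classical in
/-- The component of multidegree `α` as a linear map on polynomials. -/
noncomputable def compFun (hI : IsMonomial I) (φ : Tgt I) (α : σ → ℤ) :
    MvPolynomial σ k →ₗ[k] (MvPolynomial σ k ⧸ I) :=
  (basisMonomials σ k).constr k fun β =>
    if h : monomial β (1 : k) ∈ I ∧ ∀ i, 0 ≤ (β i : ℤ) + α i then proj hI (shift β α) (φ ⟨monomial β 1, h.1⟩) else 0

theorem compFun_monomial (hI : IsMonomial I) (φ : Tgt I) (α : σ → ℤ) {β : σ →₀ ℕ} (hβ : monomial β (1 : k) ∈ I) :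
    (∀ i, 0 ≤ (β i : ℤ) + α i) → compFun hI φ α (monomial β 1) = proj hI (shift β α) (φ ⟨monomial β 1, hβ⟩) := by
  intro h
  classical
  have e : (basisMonomials σ k) β = monomial β (1 : k) := by simp
  refine (congrArg (compFun hI φ α) e.symm).trans ?_
  rw [compFun, Module.Basis.constr_basis, dif_pos ⟨hβ, h⟩]

theorem compFun_monomial_neg (hI : IsMonomial I) (φ : Tgt I) (α : σ → ℤ) {β : σ →₀ ℕ}
    (h : ¬ ∀ i, 0 ≤ (β i : ℤ) + α i) : compFun hI φ α (monomial β 1) = 0 := by
  rw [compFun, show monomial β (1 : k) = basisMonomials σ k β from by simp, Module.Basis.constr_basis,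
    dif_neg fun h' => h h'.2]

theorem compFun_monomial_mul (hI : IsMonomial I) (φ : Tgt I) (α : σ → ℤ) {β : σ →₀ ℕ}
    (hβ : monomial β (1 : k) ∈ I) (γ : σ →₀ ℕ) :
    compFun hI φ α (monomial (γ + β) 1) = monomial γ (1 : k) • compFun hI φ α (monomial β 1) := by
  have hγβ : monomial (γ + β) (1 : k) ∈ I := by rw [monomial_add_eq]; exact Ideal.mul_mem_left _ _ hβ
  by_cases h : ∀ i, 0 ≤ (β i : ℤ) + α i
  · have h' : ∀ i, 0 ≤ ((γ + β) i : ℤ) + α i := fun i => by
      have := h i; simp only [Finsupp.add_apply]; omega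
    rw [compFun_monomial hI φ α hγβ h', compFun_monomial hI φ α hβ h, tgt_monomial_add φ hβ γ hγβ,
      show shift (γ + β) α = γ + shift β α from Finsupp.ext fun i => by
        have := shift_apply h' i; have := shift_apply h i
        simp only [Finsupp.add_apply] at *; omega, proj_smul_of_le]
  · rw [compFun_monomial_neg hI φ α h, smul_zero]
    by_cases h' : ∀ i, 0 ≤ ((γ + β) i : ℤ) + α i
    · rw [compFun_monomial hI φ α hγβ h', tgt_monomial_add φ hβ γ hγβ, proj_smul_of_not_le]
      intro hle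
      refine h fun i => ?_
      have := hle i; have := shift_apply h' i
      simp only [Finsupp.add_apply] at *; omega
    · exact compFun_monomial_neg hI φ α h'

theorem compFun_mul (hI : IsMonomial I) (φ : Tgt I) (α : σ → ℤ) (r : MvPolynomial σ k) {p : MvPolynomial σ k}
    (hp : p ∈ I) : compFun hI φ α (r * p) = r • compFun hI φ α p := by
  classical
  induction r using MvPolynomial.induction_on' with
  | monomial γ c =>
    rw [show monomial γ c = c • monomial γ (1 : k) by rw [smul_monomial, smul_eq_mul, mul_one],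
      smul_mul_assoc, map_smul, smul_assoc]
    congr 1
    conv_lhs => rw [as_sum p, Finset.mul_sum, map_sum]
    conv_rhs => rw [as_sum p, map_sum, Finset.smul_sum]
    refine Finset.sum_congr rfl fun β hβ => ?_
    have hβ' : monomial β (1 : k) ∈ I := hI p hp β hβ
    rw [show monomial β (coeff β p) = coeff β p • monomial β (1 : k) by rw [smul_monomial, smul_eq_mul, mul_one],
      mul_smul_comm, map_smul, map_smul, ← monomial_add_eq, compFun_monomial_mul hI φ α hβ' γ,
      smul_comm (monomial γ (1 : k)) (coeff β p)]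
  | add a b ha hb => rw [add_mul, map_add, ha, hb, add_smul]

/-- The component of multidegree `α`. -/
noncomputable def comp (hI : IsMonomial I) (φ : Tgt I) (α : σ → ℤ) : Tgt I where
  toFun p := compFun hI φ α (p : MvPolynomial σ k)
  map_add' p q := map_add _ _ _
  map_smul' r p := compFun_mul hI φ α r p.2

theorem comp_mem (hI : IsMonomial I) (φ : Tgt I) (α : σ → ℤ) : comp hI φ α ∈ tPiece I α := by
  intro β hβ
  refine ⟨fun h => ?_, fun ⟨i, hi⟩ => compFun_monomial_neg hI φ α fun h => absurd (h i) (not_le.2 hi)⟩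
  change compFun hI φ α (monomial β 1) ∈ _
  rw [compFun_monomial hI φ α hβ h]
  obtain ⟨p, hp⟩ := Ideal.Quotient.mk_surjective (φ ⟨monomial β 1, hβ⟩)
  rw [← hp, proj_mk]
  exact Submodule.smul_mem _ _ (Submodule.mem_span_singleton_self _)

/-- `T(I)` is spanned by its multigraded pieces. -/
theorem iSup_tPiece_eq_top (hI : IsMonomial I) [Module.Finite k (MvPolynomial σ k ⧸ I)] :
    ⨆ α, tPiece I α = ⊤ := by
  classical
  haveI := Fintype.ofFinite σ
  rw [eq_top_iff]
  intro φ _
  set D := (finite_compl_exps hI).toFinset with hDdef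
  have hD : ∀ δ, δ ∈ D ↔ δ ∉ exps I := fun δ => by simp [hDdef]
  let G : Finset (σ →₀ ℕ) :=
    insert 0 ((D ×ˢ (Finset.univ : Finset σ)).image fun x => x.1 + Finsupp.single x.2 1)
  have hgen : ∀ β, β ∈ exps I → ∃ g ∈ G, g ∈ exps I ∧ g ≤ β := by
    intro β hβ
    induction hN : ∑ i, β i using Nat.strong_induction_on generalizing β with
    | _ N ih =>
      by_cases hmem : ∃ i, 0 < β i ∧ β - Finsupp.single i 1 ∈ exps I
      · obtain ⟨i, hi, hmem⟩ := hmem
        obtain ⟨g, hg, hgI, hle⟩ := ih (∑ l, (β - Finsupp.single i 1 : σ →₀ ℕ) l) (by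
          rw [← hN]
          refine Finset.sum_lt_sum (fun l _ => by simp) ⟨i, Finset.mem_univ _, ?_⟩
          simp; omega) _ hmem rfl
        exact ⟨g, hg, hgI, hle.trans tsub_le_self⟩
      · refine ⟨β, ?_, hβ, le_rfl⟩
        by_cases h0 : β = 0
        · exact h0 ▸ Finset.mem_insert_self _ _
        · obtain ⟨i, hi⟩ : ∃ i, β i ≠ 0 := by
            by_contra hne; push Not at hne; exact h0 (Finsupp.ext hne)
          refine Finset.mem_insert_of_mem (Finset.mem_image.2 ⟨(β - Finsupp.single i 1, i), ?_, ?_⟩)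
          · exact Finset.mem_product.2 ⟨(hD _).2 fun e => hmem ⟨i, Nat.pos_of_ne_zero hi, e⟩, Finset.mem_univ _⟩
          · exact tsub_add_cancel_of_le (Finsupp.single_le_iff.2 (Nat.one_le_iff_ne_zero.2 hi))
  let A : Finset (σ → ℤ) := (G ×ˢ D).image fun x i => (x.2 i : ℤ) - x.1 i
  have hsum : φ = ∑ α ∈ A, comp hI φ α := by
    refine tgt_ext hI fun β hβ => ?_
    obtain ⟨g, hgG, hgI, hle⟩ := hgen β hβ
    have he : β - g + g = β := tsub_add_cancel_of_le hle
    have h' : monomial (β - g + g) (1 : k) ∈ I := he.symm ▸ hβ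
    have key : φ ⟨monomial g 1, hgI⟩ = (∑ α ∈ A, comp hI φ α) ⟨monomial g 1, hgI⟩ := by
      rw [LinearMap.sum_apply]
      change _ = ∑ α ∈ A, compFun hI φ α (monomial g 1)
      have hinj : Set.InjOn (fun (δ : σ →₀ ℕ) (i : σ) => (δ i : ℤ) - g i) ↑D := fun a _ b _ e =>
        Finsupp.ext fun i => by have := congrFun e i; simp at this; exact this
      rw [← Finset.sum_subset (s₁ := D.image fun δ i => (δ i : ℤ) - g i), Finset.sum_image hinj]
      · conv_lhs => rw [← sum_proj hI D (fun δ => (hD δ).2) (φ ⟨monomial g 1, hgI⟩)]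
        refine Finset.sum_congr rfl fun δ _ => ?_
        rw [compFun_monomial hI φ _ hgI (fun i => by omega)]
        congr
        exact Finsupp.ext fun i => by
          have := shift_apply (β := g) (α := fun i => (δ i : ℤ) - g i) (fun i => by omega) i
          omega
      · intro α hα
        obtain ⟨δ, hδ, rfl⟩ := Finset.mem_image.1 hα
        exact Finset.mem_image.2 ⟨(g, δ), Finset.mem_product.2 ⟨hgG, hδ⟩, rfl⟩
      · intro α _ hα
        by_cases h : ∀ i, 0 ≤ (g i : ℤ) + α i
        · rw [compFun_monomial hI φ α hgI h]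
          obtain ⟨p, hp⟩ := Ideal.Quotient.mk_surjective (φ ⟨monomial g 1, hgI⟩)
          rw [← hp, proj_mk, mk_monomial_eq_zero_iff.2, smul_zero]
          by_contra hstd
          refine hα (Finset.mem_image.2 ⟨shift g α, (hD _).2 hstd, ?_⟩)
          funext i
          have := shift_apply h i; omega
        · exact compFun_monomial_neg hI φ α h
    have e : (⟨monomial β 1, hβ⟩ : I) = ⟨monomial (β - g + g) 1, h'⟩ := Subtype.ext (by simp only [he])
    rw [e, tgt_monomial_add φ hgI _ h', tgt_monomial_add (∑ α ∈ A, comp hI φ α) hgI _ h', key]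
  rw [hsum]
  exact Submodule.sum_mem _ fun α _ => Submodule.mem_iSup_of_mem α (comp_mem hI φ α)

end GrothLib.HilbPn
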