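import Groth.Agent.Lib.HilbPn.Sum
import Mathlib.RingTheory.MvPolynomial.Ideal
import Mathlib.Data.Finsupp.Weight

/-!
# Degree-zero homomorphisms out of a monomial ideal by coordinates
-/

namespace GrothLib.HilbPn

open MvPolynomial W4c1hilbpn

universe u

variable {σ : Type} [Fintype σ] {k : Type u} [Field k] {I : Ideal (MvPolynomial σ k)}

variable (I) in
/-- The degree-zero homomorphisms. -/
noncomputable def hom0 : Submodule k (Tgt I) := ⨆ α : {α : σ → ℤ // ∑ i, α i = 0}, tPiece I α.1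

open Classical in
/-- The coefficient of `x^T` in the value at `x^A`. -/
noncomputable def cf (hI : IsMonomial I) (A T : σ →₀ ℕ) : Tgt I →ₗ[k] k :=
  if hA : A ∈ exps I then
    coefAt hI T ∘ₗ ((LinearMap.applyₗ (⟨monomial A 1, hA⟩ : I)).restrictScalars k : Tgt I →ₗ[k] (MvPolynomial σ k ⧸ I))
  else 0

theorem cf_apply (hI : IsMonomial I) {A : σ →₀ ℕ} (hA : A ∈ exps I) (T : σ →₀ ℕ) (φ : Tgt I) :
    cf hI A T φ = coefAt hI T (φ ⟨monomial A 1, hA⟩) := by rw [cf, dif_pos hA]; rfl

theorem cf_eq_zero_of_mem (hI : IsMonomial I) (A : σ →₀ ℕ) {T : σ →₀ ℕ} (hT : T ∈ exps I) (φ : Tgt I) :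
    cf hI A T φ = 0 := by
  by_cases hA : A ∈ exps I
  · rw [cf_apply hI hA, coefAt, dif_pos hT]; rfl
  · rw [cf, dif_neg hA]; rfl

/-- Degree-zero maps preserve the total degree of monomials. -/
theorem cf_eq_zero_of_degree (hI : IsMonomial I) {A T : σ →₀ ℕ} (h : ∑ i, T i ≠ ∑ i, A i) {φ : Tgt I}
    (hφ : φ ∈ hom0 I) : cf hI A T φ = 0 := by
  classical
  by_cases hA : A ∈ exps I
  swap
  · rw [cf, dif_neg hA]; rfl
  refine Submodule.iSup_induction _ (motive := fun φ => cf hI A T φ = 0) hφ (fun α φ hφ => ?_) (map_zero _)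
    (fun x y hx hy => by rw [map_add, hx, hy, add_zero])
  rw [cf_apply hI hA]
  by_cases hn : ∀ i, 0 ≤ (A i : ℤ) + α.1 i
  · obtain ⟨c, hc⟩ := Submodule.mem_span_singleton.1 ((hφ A hA).1 hn)
    rw [← hc, map_smul]
    by_cases hT : T ∈ exps I
    · rw [coefAt, dif_pos hT]; simp
    · rw [coefAt_mk hI hT, coeff_monomial, if_neg, smul_zero]
      intro e
      refine h ?_
      have : ((∑ i, T i : ℕ) : ℤ) = ((∑ i, A i : ℕ) : ℤ) := by
        push_cast
        rw [← e, Finset.sum_congr rfl fun i _ => shift_apply hn i, Finset.sum_add_distrib, α.2, add_zero]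
      exact_mod_cast this
  · push Not at hn
    rw [(hφ A hA).2 hn, map_zero]

/-- Coefficientwise form of a syzygy between two monomials of `I`. -/
theorem cf_rel (hI : IsMonomial I) {A B γ δ : σ →₀ ℕ} (hA : A ∈ exps I) (hB : B ∈ exps I)
    (e : γ + A = δ + B) {T : σ →₀ ℕ} (hU : γ + T ∉ exps I) (φ : Tgt I) :
    cf hI A T φ = if δ ≤ γ + T then cf hI B (γ + T - δ) φ else 0 := by
  classical
  have hT : T ∉ exps I := fun h => hU (add_comm γ T ▸ add_mem_exps h γ)
  have h1 : monomial (γ + A) (1 : k) ∈ I := by rw [monomial_add_eq]; exact Ideal.mul_mem_left _ _ hA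
  have h2 : monomial (δ + B) (1 : k) ∈ I := e ▸ h1
  have key : monomial γ (1 : k) • φ ⟨monomial A 1, hA⟩ = monomial δ (1 : k) • φ ⟨monomial B 1, hB⟩ := by
    rw [← tgt_monomial_add φ hA γ h1, ← tgt_monomial_add φ hB δ h2]
    exact congrArg φ (Subtype.ext (congrArg (fun x => monomial x (1 : k)) e))
  obtain ⟨f, hf⟩ := Ideal.Quotient.mk_surjective (φ ⟨monomial A 1, hA⟩)
  obtain ⟨g, hg⟩ := Ideal.Quotient.mk_surjective (φ ⟨monomial B 1, hB⟩)
  rw [← hf, ← hg] at key
  have key' := congrArg (coefAt hI (γ + T))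
    (show Ideal.Quotient.mk I (monomial γ 1 * f) = Ideal.Quotient.mk I (monomial δ 1 * g) from key)
  rw [coefAt_mk hI hU, coefAt_mk hI hU, coeff_monomial_mul, one_mul, coeff_monomial_mul', one_mul] at key'
  rw [cf_apply hI hA, ← hf, coefAt_mk hI hT, key']
  split_ifs with h
  · have : γ + T - δ ∉ exps I := fun h' => hU (tsub_add_cancel_of_le h ▸ add_mem_exps h' δ)
    rw [cf_apply hI hB, ← hg, coefAt_mk hI this]
  · rfl

theorem eq_zero_of_cf (hI : IsMonomial I) {G : Set (σ →₀ ℕ)}
    (hG : ∀ β, β ∈ exps I → ∃ A ∈ G, A ∈ exps I ∧ A ≤ β) (φ : Tgt I)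
    (h : ∀ A ∈ G, A ∈ exps I → ∀ T, T ∉ exps I → cf hI A T φ = 0) : φ = 0 := by
  classical
  refine tgt_ext hI fun β hβ => ?_
  rw [LinearMap.zero_apply]
  obtain ⟨A, hAG, hA, hle⟩ := hG β hβ
  have hzero : φ ⟨monomial A 1, hA⟩ = 0 := by
    obtain ⟨f, hf⟩ := Ideal.Quotient.mk_surjective (φ ⟨monomial A 1, hA⟩)
    rw [← hf, Ideal.Quotient.eq_zero_iff_mem]
    refine mem_of_support_subset fun T hT => ?_
    by_contra hne
    have := h A hAG hA T hne
    rw [cf_apply hI hA, ← hf, coefAt_mk hI hne] at this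
    exact mem_support_iff.1 hT this
  have e := tsub_add_cancel_of_le hle
  have h' : monomial (β - A + A) (1 : k) ∈ I := e.symm ▸ hβ
  rw [show (⟨_, hβ⟩ : I) = ⟨_, h'⟩ from Subtype.ext (congrArg (fun x => monomial x (1 : k)) e.symm),
    tgt_monomial_add φ hA _ h', hzero, smul_zero]

/-- Hypotheses for translating monomials in `P` by `T - A`. -/
structure TranslData (I : Ideal (MvPolynomial σ k)) (P : Set (σ →₀ ℕ)) (A T : σ →₀ ℕ) : Prop where
  up : ∀ β ∈ P, ∀ γ, γ + β ∈ P
  le : ∀ β ∈ P, A ≤ β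
  deg : ∑ i, T i = ∑ i, A i
  out : ∀ β, β ∈ exps I → β ∉ P → ∀ γ, γ + β ∈ P → γ + β - A + T ∈ exps I

open Classical in
/-- The values of a translation on monomials. -/
noncomputable def translFun (P : Set (σ →₀ ℕ)) (A T : σ →₀ ℕ) : MvPolynomial σ k →ₗ[k] (MvPolynomial σ k ⧸ I) :=
  (basisMonomials σ k).constr k fun β => if β ∈ P then Ideal.Quotient.mk I (monomial (β - A + T) (1 : k)) else 0

open Classical in
theorem translFun_monomial (P : Set (σ →₀ ℕ)) (A T β : σ →₀ ℕ) :
    translFun (I := I) P A T (monomial β 1) =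
      if β ∈ P then Ideal.Quotient.mk I (monomial (β - A + T) (1 : k)) else 0 := by
  rw [translFun, show monomial β (1 : k) = basisMonomials σ k β from by simp, Module.Basis.constr_basis]

/-- Translation as an element of `T(I)`. -/
noncomputable def transl (hI : IsMonomial I) {P : Set (σ →₀ ℕ)} {A T : σ →₀ ℕ} (h : TranslData I P A T) : Tgt I where
  toFun f := translFun P A T (f : MvPolynomial σ k)
  map_add' _ _ := map_add _ _ _
  map_smul' s f := linear_of_monomial hI _ (fun β hβ γ => by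
    classical
    rw [translFun_monomial, translFun_monomial]
    by_cases hP : β ∈ P
    · rw [if_pos hP, if_pos (h.up β hP γ)]
      rw [show γ + β - A + T = γ + (β - A + T) by rw [add_tsub_assoc_of_le (h.le β hP), add_assoc],
        monomial_add_eq, map_mul]
      rfl
    · rw [if_neg hP, smul_zero]
      split_ifs with h'
      · exact mk_monomial_eq_zero_iff.2 (h.out β hβ hP γ h')
      · rfl) s f.2

theorem transl_mem (hI : IsMonomial I) {P : Set (σ →₀ ℕ)} {A T : σ →₀ ℕ} (h : TranslData I P A T) :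
    transl hI h ∈ hom0 I := by
  classical
  refine Submodule.mem_iSup_of_mem ⟨fun i => (T i : ℤ) - A i, ?_⟩ ?_
  · rw [Finset.sum_sub_distrib, ← Nat.cast_sum, ← Nat.cast_sum, h.deg, sub_self]
  intro β hβ
  change (_ → translFun P A T (monomial β 1) ∈ _) ∧ (_ → translFun P A T (monomial β 1) = 0)
  rw [translFun_monomial]
  by_cases hP : β ∈ P
  · rw [if_pos hP]
    refine ⟨fun _ => ?_, fun ⟨i, hi⟩ => absurd hi (by have := h.le β hP i; simp; omega)⟩
    have e : shift β (fun i => (T i : ℤ) - A i) = β - A + T := Finsupp.ext fun i => by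
      have hle := h.le β hP
      have := hle i
      have := shift_apply (β := β) (α := fun i => (T i : ℤ) - A i) (fun i => by have := hle i; omega) i
      simp only [Finsupp.add_apply, Finsupp.coe_tsub, Pi.sub_apply]
      omega
    rw [e]; exact Submodule.mem_span_singleton_self _
  · rw [if_neg hP]; exact ⟨fun _ => zero_mem _, fun _ => rfl⟩

open Classical in
theorem cf_transl (hI : IsMonomial I) {P : Set (σ →₀ ℕ)} {A T : σ →₀ ℕ} (h : TranslData I P A T)
    {A' : σ →₀ ℕ} (hA' : A' ∈ exps I) {T' : σ →₀ ℕ} (hT' : T' ∉ exps I) :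
    cf hI A' T' (transl hI h) = if A' ∈ P ∧ A' - A + T = T' then 1 else 0 := by
  rw [cf_apply hI hA']
  change coefAt hI T' (translFun P A T (monomial A' 1)) = _
  rw [translFun_monomial]
  by_cases hP : A' ∈ P
  · rw [if_pos hP, coefAt_mk hI hT', coeff_monomial]
    simp [hP]
  · rw [if_neg hP, map_zero]; simp [hP]

/-- Count by coordinates with a triangular system of lifts. -/
theorem finrank_hom0_eq_card (hI : IsMonomial I) {ι : Type} [Fintype ι] [DecidableEq ι] (A T : ι → σ →₀ ℕ)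
    (hzero : ∀ φ ∈ hom0 I, (∀ p, cf hI (A p) (T p) φ = 0) → φ = 0)
    (v : ι → Tgt I) (hv : ∀ p, v p ∈ hom0 I) (S : ι → Prop)
    (hdiag : ∀ p, cf hI (A p) (T p) (v p) = 1)
    (hoff : ∀ p p', p' ≠ p → (S p ∨ ¬ S p') → cf hI (A p') (T p') (v p) = 0) :
    Module.finrank k ↥(hom0 I) = Fintype.card ι := by
  classical
  let C : ↥(hom0 I) →ₗ[k] (ι → k) := LinearMap.pi fun p => cf hI (A p) (T p) ∘ₗ (hom0 I).subtype
  have hinj : Function.Injective C := fun φ ψ h => Subtype.ext <| sub_eq_zero.1 <|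
    hzero _ (Submodule.sub_mem _ φ.2 ψ.2) fun p => by rw [map_sub, sub_eq_zero]; exact congrFun h p
  have hS : ∀ p, S p → Pi.single p (1 : k) ∈ LinearMap.range C := fun p hp => by
    refine ⟨⟨v p, hv p⟩, funext fun p' => ?_⟩
    change cf hI (A p') (T p') (v p) = _
    by_cases h : p' = p
    · subst h; rw [hdiag, Pi.single_eq_same]
    · rw [hoff p p' h (Or.inl hp), Pi.single_eq_of_ne h]
  have hall : ∀ p, Pi.single p (1 : k) ∈ LinearMap.range C := fun p => by
    by_cases hp : S p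
    · exact hS p hp
    have e : Pi.single p (1 : k) = C ⟨v p, hv p⟩ -
        ∑ p' ∈ Finset.univ.filter fun x => S x, cf hI (A p') (T p') (v p) • Pi.single p' (1 : k) := by
      funext p'
      simp only [Pi.sub_apply, Finset.sum_apply, Pi.smul_apply, Pi.single_apply, smul_eq_mul, mul_ite, mul_one, mul_zero,
        Finset.sum_ite_eq, Finset.mem_filter, Finset.mem_univ, true_and]
      change _ = cf hI (A p') (T p') (v p) - _
      by_cases h : p' = p
      · subst h; rw [hdiag, if_neg hp]; simp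
      · rw [if_neg h]
        split_ifs with h'
        · rw [sub_self]
        · rw [hoff p p' h (Or.inr h'), sub_zero]
    rw [e]
    exact Submodule.sub_mem _ ⟨_, rfl⟩ (Submodule.sum_mem _ fun p' hp' =>
      Submodule.smul_mem _ _ (hS p' (Finset.mem_filter.1 hp').2))
  have htop : LinearMap.range C = ⊤ := by
    rw [eq_top_iff]
    intro f _
    rw [← Finset.univ_sum_single f]
    refine Submodule.sum_mem _ fun p _ => ?_
    rw [show Pi.single p (f p) = f p • Pi.single p (1 : k) by rw [← Pi.single_smul, smul_eq_mul, mul_one]]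
    exact Submodule.smul_mem _ _ (hall p)
  rw [(LinearEquiv.ofBijective C ⟨hinj, LinearMap.range_eq_top.1 htop⟩).finrank_eq, Module.finrank_pi]

end GrothLib.HilbPn
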