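import Groth.Prelude.Def_W4c1hilbpnTgt
import Mathlib.LinearAlgebra.Dimension.Finite
import Mathlib.Algebra.MvPolynomial.Rename

/-!
# Monomial ideals of finite colength
-/

namespace GrothLib.HilbPn

open MvPolynomial W4c1hilbpn

universe u

variable {σ : Type} {k : Type u} [Field k] {I : Ideal (MvPolynomial σ k)}

theorem mem_of_support_subset {p : MvPolynomial σ k} (h : ∀ β ∈ p.support, β ∈ exps I) : p ∈ I := by
  rw [as_sum p]
  refine sum_mem fun β hβ => ?_
  have e : monomial β (coeff β p) = C (coeff β p) * monomial β 1 := by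
    rw [C_mul_monomial, mul_one]
  exact e ▸ Ideal.mul_mem_left _ _ (h β hβ)

theorem add_mem_exps {β : σ →₀ ℕ} (h : β ∈ exps I) (γ : σ →₀ ℕ) : β + γ ∈ exps I := by
  have e : monomial (β + γ) (1 : k) = monomial γ 1 * monomial β 1 := by
    rw [monomial_mul, one_mul, add_comm]
  change monomial (β + γ) (1 : k) ∈ I
  exact e ▸ Ideal.mul_mem_left _ _ h

/-- Monomials outside a monomial ideal are independent modulo it. -/
theorem linearIndependent_standard (hI : IsMonomial I) :
    LinearIndependent k fun β : ↥((exps I)ᶜ) =>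
      Ideal.Quotient.mk I (monomial (β : σ →₀ ℕ) (1 : k)) := by
  classical
  rw [linearIndependent_iff']
  intro s g hg i hi
  by_contra hne
  have hmem : (∑ j ∈ s, monomial (j : σ →₀ ℕ) (g j)) ∈ I := by
    rw [← Ideal.Quotient.eq_zero_iff_mem, map_sum, ← hg]
    refine Finset.sum_congr rfl fun j _ => ?_
    rw [show monomial (j : σ →₀ ℕ) (g j) = g j • monomial (j : σ →₀ ℕ) (1 : k) by
      rw [smul_monomial, smul_eq_mul, mul_one]]
    rfl
  refine i.2 (hI _ hmem i ?_)
  rw [mem_support_iff, coeff_sum, Finset.sum_eq_single i]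
  · simpa using hne
  · intro j _ hji
    rw [coeff_monomial, if_neg fun h => hji (Subtype.ext h)]
  · exact fun h => absurd hi h

theorem finite_compl_exps (hI : IsMonomial I) [Module.Finite k (MvPolynomial σ k ⧸ I)] :
    (exps I)ᶜ.Finite :=
  Set.finite_coe_iff.1 (linearIndependent_standard hI).finite

end GrothLib.HilbPn
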