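import Groth.Agent.Lib.HilbPn.TwoBlockSpan

/-!
# The ideals `x₀(x₀,…,x_{n-1}) + (x₁^q)`
-/

namespace GrothLib.HilbPn

open MvPolynomial W4c1hilbpn

universe u

variable {n : ℕ} {k : Type u} [Field k] {I : Ideal (MvPolynomial (Fin (n + 1)) k)} {q : ℕ}

/-- Count for `x₀(x₀,…,x_{n-1}) + (x₁^q)`. -/
theorem finrank_oneBlock (hI : IsMonomial I)
    (hexp : ∀ β, β ∈ exps I ↔ (∃ i : Fin (n + 1), i.val < n ∧ gz i ≤ β) ∨ β ∈ {β : Fin (n + 1) →₀ ℕ | q ≤ β 1})
    (hcase : (n = 3 ∧ 4 ≤ q) ∨ (4 ≤ n ∧ 2 ≤ q)) :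
    Module.finrank k ↥(hom0 I) + 1 = 2 * n + (n + q - 1).choose q := by
  classical
  have hn : 3 ≤ n := by omega
  have hq : 2 ≤ q := by omega
  have h1v : ((1 : Fin (n + 1)) : ℕ) = 1 := by rw [Fin.val_one']; exact Nat.mod_eq_of_lt (by omega)
  have h1 : (1 : Fin (n + 1)) ≠ 0 := fun e => by rw [e] at h1v; simp at h1v
  set s : Fin (n + 1) := ⟨n - 1, by omega⟩ with hsdef
  have hs : s.val < n := by simp [hsdef]; omega
  have hs0 : s ≠ 0 := by simp [hsdef, Fin.ext_iff]; omega
  have hs1 : s ≠ 1 := fun e => by have := congrArg Fin.val e; rw [h1v] at this; simp [hsdef] at this; omega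
  have hlast : Fin.last n ≠ 0 := by simp [Fin.ext_iff]; omega
  have hlast1 : Fin.last n ≠ 1 := fun e => by have := congrArg Fin.val e; rw [h1v] at this; simp at this; omega
  have hJmid : ∀ β ∈ {β : Fin (n + 1) →₀ ℕ | q ≤ β 1}, ∃ x : Fin (n + 1), 1 ≤ x.val ∧ x.val < n ∧ 0 < β x :=
    fun β hβ => ⟨1, by omega, by omega, by simp at hβ; omega⟩
  set h : Fin (n + 1) →₀ ℕ := Finsupp.single 1 q with hh
  have hsum : ∑ x, h x = q := by rw [← Finsupp.degree_eq_sum, hh, Finsupp.degree_single]
  have h_mem : h ∈ exps I := (hexp _).2 (Or.inr (by simp [hh]))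
  have hstd0 : ∀ β : Fin (n + 1) →₀ ℕ, β 0 = 0 → β 1 < q → β ∉ exps I := fun β h0 hlt h' => by
    have h2 : q ≤ β 1 := mem_J_of_zero hexp h0 h'
    omega
  -- the targets of `x₁^q`
  let P := {u : Fin (n + 1) →₀ ℕ // u 0 = 0 ∧ ∑ x, u x = q ∧ u ≠ Finsupp.single 1 q}
  let Q := {u : P // u.1 ≠ Finsupp.single (Fin.last n) q}
  have hcP := card_targets (n := n) q (by omega)
  have hge : n ≤ (n + q - 1).choose q := by
    obtain ⟨q', rfl⟩ := Nat.exists_eq_add_of_le (show 1 ≤ q by omega)
    rw [show n + (1 + q') - 1 = n + q' by omega, Nat.add_comm 1 q',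
      ← Nat.choose_symm_of_eq_add (show n + q' = (n - 1) + (q' + 1) by omega)]
    calc n = n.choose (n - 1) := by rw [Nat.choose_symm_of_eq_add (show n = (n - 1) + 1 by omega), Nat.choose_one_right]
      _ ≤ _ := Nat.choose_le_choose _ (by omega)
  haveI : Finite P := Nat.finite_of_card_ne_zero fun h0 => by
    change Nat.card P + 1 = _ at hcP
    omega
  haveI := Fintype.ofFinite Q
  have hcQ : Fintype.card Q + 2 = (n + q - 1).choose q := by
    let p₀ : P := ⟨Finsupp.single (Fin.last n) q, by simp [hlast],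
      by rw [← Finsupp.degree_eq_sum, Finsupp.degree_single], fun e => by
        have := congrArg (fun f : Fin (n + 1) →₀ ℕ => f 1) e
        simp [Finsupp.single_apply, hlast1] at this; omega⟩
    have e : Nat.card P = Nat.card Q + 1 := by
      rw [← Nat.card_congr (Equiv.optionSubtypeNe p₀), Finite.card_option]
      congr 1
      exact Nat.card_congr (Equiv.subtypeEquivRight fun u => not_congr Subtype.ext_iff)
    change Nat.card P + 1 = _ at hcP
    rw [Nat.card_eq_fintype_card (α := Q)] at e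
    omega
  have hQpos : ∀ u : Q, ∃ x : Fin (n + 1), x.val < n ∧ x ≠ 0 ∧ 0 < u.1.1 x := by
    rintro ⟨⟨u, hu0, hus, -⟩, hul⟩
    by_contra hno
    push Not at hno
    refine hul (Finsupp.ext fun x => ?_)
    have hz : ∀ x, x ≠ Fin.last n → u x = 0 := fun x hx => by
      by_cases hx0 : x = 0
      · subst hx0; exact hu0
      · have hlt : x.val < n := by
          have := x.isLt
          have : x.val ≠ n := fun e => hx (Fin.ext (by simpa using e))
          omega
        exact Nat.le_zero.1 (hno x hlt hx0)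
    by_cases hx : x = Fin.last n
    · subst hx
      rw [Finset.sum_eq_single (Fin.last n) (fun b _ hb => hz b hb) (fun h => absurd (Finset.mem_univ _) h)] at hus
      simp [hus]
    · simp [hz x hx, Ne.symm hx]
  let ι := Fin n ⊕ {l : Fin (n + 1) // l ≠ 0} ⊕ Unit ⊕ Q
  let A : ι → Fin (n + 1) →₀ ℕ := Sum.elim (fun i => gz i.castSucc) <| Sum.elim (fun _ => gz s) <|
    Sum.elim (fun _ => h) fun _ => h
  let T : ι → Fin (n + 1) →₀ ℕ := Sum.elim (fun _ => e1v 0 + e1v (Fin.last n)) <| Sum.elim (fun l => e1v s + e1v l.1) <|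
    Sum.elim (fun _ => e1v 0 + Finsupp.single (Fin.last n) (q - 1)) fun u => u.1.1
  let S : ι → Prop := Sum.elim (fun _ => True) <| Sum.elim (fun _ => False) fun _ => True
  have hA : ∀ p, A p ∈ exps I := by
    rintro (i | l | b | u)
    exacts [gz_mem hexp i.isLt, gz_mem hexp hs, h_mem, h_mem]
  have hT : ∀ p, T p ∉ exps I := by
    rintro (i | ⟨l, hl⟩ | b | ⟨⟨u, hu0, hus, hu1⟩, hu⟩)
    · exact socle_notMem hexp hJmid (by omega) 1
    · refine hstd0 _ (by simp [T, e1v, hs0, Ne.symm hs0, hl, Ne.symm hl]) ?_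
      simp [T, e1v, Finsupp.single_apply, hs1]; split_ifs <;> omega
    · exact socle_notMem hexp hJmid (by omega) (q - 1)
    · refine hstd0 _ hu0 ?_
      change u 1 < q
      by_contra hge
      push Not at hge
      refine hu1 (Finsupp.ext fun x => ?_)
      have hsplit := Finset.add_sum_erase Finset.univ (fun y => u y) (Finset.mem_univ (1 : Fin (n + 1)))
      by_cases hx : x = 1
      · subst hx; simp; omega
      · have := Finset.single_le_sum (f := fun y => u y) (fun y _ => Nat.zero_le _)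
          (show x ∈ Finset.univ.erase (1 : Fin (n + 1)) by simp [hx])
        simp [hx, Ne.symm hx]; omega
  let G : Set (Fin (n + 1) →₀ ℕ) := {g | (∃ i : Fin (n + 1), i.val < n ∧ g = gz i) ∨ g = h}
  have hG : ∀ β ∈ exps I, ∃ g ∈ G, g ≤ β := fun β hβ => by
    rcases (hexp β).1 hβ with ⟨i, hi, hle⟩ | hle
    exacts [⟨_, Or.inl ⟨i, hi, rfl⟩, hle⟩, ⟨_, Or.inr rfl, Finsupp.single_le_iff.2 hle⟩]
  have gz0 : ∀ i : Fin (n + 1), 0 < gz i 0 := fun i => by simp [gz, e1v]
  have h0' : h 0 = 0 := by simp [hh, h1]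
  have gz1 : ∀ i : Fin (n + 1), gz i 1 ≤ 1 := fun i => by
    simp [gz, e1v, Finsupp.single_apply, h1, Ne.symm h1]; split_ifs <;> omega
  have gz_eq : ∀ {i l : Fin (n + 1)}, gz i ≤ gz l → i = l := fun {i l} hle => by
    have := hle i
    by_contra hne
    simp [gz, e1v, Finsupp.single_apply, Ne.symm hne] at this
  have datA : ∀ i : Fin n, TranslData I {β | gz i.castSucc ≤ β} (gz i.castSucc) (e1v 0 + e1v (Fin.last n)) := fun i => by
    refine translData_gen hG (by rw [sum_gz, ← Finsupp.degree_eq_sum, map_add, Finsupp.degree_single, Finsupp.degree_single]) ?_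
    rintro g (⟨l, hl, rfl⟩ | rfl) hne
    · obtain ⟨x, hx⟩ : ∃ x, gz i.castSucc x < gz l x := by
        by_contra hno; push Not at hno; exact hne (by rw [gz_eq hno])
      by_cases hx0 : x = 0
      · subst hx0; exact mem_of_sq hexp (by omega) (by simp; omega)
      · have hxn : x.val < n := by
          have hxl : x = l := by
            by_contra hne'
            simp [gz, e1v, Finsupp.single_apply, Ne.symm hx0, Ne.symm hne'] at hx
          rw [hxl]; exact hl
        exact mem_of_two hexp (x := x) (by simp) hxn hx0 (by simp; omega)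
    · have := gz1 i.castSucc
      refine mem_of_two hexp (x := (1 : Fin (n + 1))) (by simp [gz, e1v]) (by omega) h1 ?_
      simp [hh, hlast1, Ne.symm hlast1, h1, Ne.symm h1]; omega
  have datL : ∀ l : Fin (n + 1), TranslData I {β | 0 < β 0} (e1v 0) (e1v l) := fun l =>
    { up := fun β hβ γ => by simp at hβ ⊢; omega
      le := fun β hβ => e1v_le hβ
      deg := by rw [sum_e1v, sum_e1v]
      out := fun β hβ hP γ _ => by
        have hle : β ≤ γ + β - e1v 0 + e1v l := fun x => by
          simp only [Finsupp.add_apply, Finsupp.coe_tsub, Pi.sub_apply, e1v, Finsupp.single_apply]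
          simp only [Set.mem_ofPred_eq, not_lt, Nat.le_zero] at hP
          by_cases hx : x = 0
          · subst hx; omega
          · simp [Ne.symm hx]; omega
        rw [← add_tsub_cancel_of_le hle]; exact add_mem_exps hβ _ }
  have datB : TranslData I {β | h ≤ β} h (e1v 0 + Finsupp.single (Fin.last n) (q - 1)) := by
    refine translData_gen hG (by
      rw [hsum, ← Finsupp.degree_eq_sum, map_add, Finsupp.degree_single, Finsupp.degree_single]; omega) ?_
    rintro g (⟨l, hl, rfl⟩ | rfl) hne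
    · exact mem_of_sq hexp (by omega) (by simp [h0', e1v, Ne.symm hlast, hlast]; have := gz0 l; omega)
    · exact absurd rfl hne
  have datQ : ∀ u : Q, TranslData I {β | h ≤ β} h u.1.1 := fun u => by
    refine translData_gen hG (by rw [hsum, u.1.2.2.1]) ?_
    obtain ⟨x, hxn, hx0, hx⟩ := hQpos u
    rintro g (⟨l, hl, rfl⟩ | rfl) hne
    · exact mem_of_two hexp (x := x) (by simp [h0']; have := gz0 l; omega) hxn hx0 (by simp; omega)
    · exact absurd rfl hne
  let v : ι → Tgt I := Sum.elim (fun i => transl hI (datA i)) <| Sum.elim (fun l => transl hI (datL l.1)) <|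
    Sum.elim (fun _ => transl hI datB) fun u => transl hI (datQ u)
  have cgz : ∀ {i : Fin (n + 1)}, ¬ h ≤ gz i := fun {i} hle => by
    have := hle 1; simp [hh] at this; have := gz1 i; omega
  have chg : ∀ {i : Fin (n + 1)}, ¬ gz i ≤ h := fun {i} hle => by
    have := hle 0; have := gz0 i; omega
  have hcount : Module.finrank k ↥(hom0 I) = Fintype.card ι := by
    refine finrank_hom0_eq_card hI A T ?_ v ?_ S ?_ ?_
    · intro φ hφ hz
      have gzero : ∀ i : Fin (n + 1), i.val < n → ∀ U, cf hI (gz i) U φ = 0 := by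
        intro i hi U
        refine cf_gz_eq_zero hI hexp hs hs0 hφ (fun i hi => ?_) (fun l hl => hz (Sum.inr (Sum.inl ⟨l, hl⟩))) ?_ ?_ i hi U
        · simpa [A, T] using hz (Sum.inl ⟨i.val, hi⟩)
        · intro U hU hU0 hUstd hUs i hi
          refine absurd hUs (hstd0 _ (by simp [e1v, hs0, Ne.symm hs0, hU0]) ?_)
          by_contra hge
          simp [e1v, Finsupp.single_apply, hs1] at hge
          exact hUstd ((hexp _).2 (Or.inr hge))
        · intro U hU hU0 hUstd hUs
          have hU1 : U 1 < q := by by_contra hge; exact hUstd ((hexp _).2 (Or.inr (not_lt.1 hge)))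
          have h1le : U 1 ≤ 2 := hU ▸ Finset.single_le_sum (f := fun y => U y) (fun y _ => Nat.zero_le _) (Finset.mem_univ _)
          rcases hcase with ⟨-, h4⟩ | ⟨h4, -⟩
          · refine Or.inl ⟨1, by omega, h1, Ne.symm hs1, hstd0 _ (by simp [e1v, h1, Ne.symm h1, hU0]) ?_⟩
            simp [e1v]; omega
          · have ho1 : (⟨2, by omega⟩ : Fin (n + 1)) ≠ 1 := fun e => by
              have := congrArg Fin.val e; rw [h1v] at this; simp at this
            refine Or.inl ⟨⟨2, by omega⟩, by simp; omega, by simp [Fin.ext_iff],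
              fun e => by simp [hsdef, Fin.ext_iff] at e; omega, hstd0 _ (by simp [e1v, Fin.ext_iff, hU0]) ?_⟩
            simp [e1v, ho1]; omega
      refine eq_zero_of_cf hI (G := G) (fun β hβ => ?_) φ ?_
      · obtain ⟨g, hg, hle⟩ := hG β hβ
        rcases hg with ⟨i, hi, rfl⟩ | rfl
        exacts [⟨_, Or.inl ⟨i, hi, rfl⟩, gz_mem hexp hi, hle⟩, ⟨_, Or.inr rfl, h_mem, hle⟩]
      rintro g (⟨i, hi, rfl⟩ | rfl) - U hUstd
      · exact gzero i hi U
      by_cases hdeg : ∑ x, U x = ∑ x, h x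
      swap
      · exact cf_eq_zero_of_degree hI hdeg hφ
      rw [hsum] at hdeg
      by_cases hU0 : 0 < U 0
      · obtain ⟨t, rfl⟩ := std_of_pos hexp (by omega) hU0 hUstd
        rw [← Finsupp.degree_eq_sum, map_add, Finsupp.degree_single, Finsupp.degree_single] at hdeg
        obtain rfl : t = q - 1 := by omega
        exact hz (Sum.inr (Sum.inr (Sum.inl ())))
      have hU0 : U 0 = 0 := by omega
      have hUP : U ≠ Finsupp.single 1 q := fun e => hUstd (e ▸ h_mem)
      by_cases hUl : U = Finsupp.single (Fin.last n) q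
      · have hU' : e1v 0 + U ∉ exps I := hUl ▸ socle_notMem hexp hJmid (by omega) q
        rw [cf_rel hI h_mem (gz_mem hexp (show (1 : Fin (n + 1)).val < n by omega)) (δ := Finsupp.single 1 (q - 1))
          (by
            rw [hh, gz]
            conv_lhs => rw [show q = (q - 1) + 1 by omega, Finsupp.single_add]
            abel) hU' φ]
        split_ifs
        · exact gzero 1 (by omega) _
        · rfl
      · exact hz (Sum.inr (Sum.inr (Sum.inr ⟨⟨U, hU0, hdeg, hUP⟩, hUl⟩)))
    · rintro (i | l | b | u)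
      exacts [transl_mem hI (datA i), transl_mem hI (datL l.1), transl_mem hI datB, transl_mem hI (datQ u)]
    · rintro (i | l | b | u)
      · refine (cf_transl hI (datA i) (hA (Sum.inl i)) (hT (Sum.inl i))).trans (if_pos ⟨show A (Sum.inl i) ≤ A (Sum.inl i) from le_rfl, ?_⟩)
        simp [A, T]
      · refine (cf_transl hI (datL l.1) (gz_mem hexp hs) (hT (Sum.inr (Sum.inl l)))).trans (if_pos ⟨gz0 s, ?_⟩)
        simp [T, gz]
      · refine (cf_transl hI datB h_mem (hT (Sum.inr (Sum.inr (Sum.inl b))))).trans (if_pos ⟨show h ≤ h from le_rfl, ?_⟩)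
        simp [T]
      · refine (cf_transl hI (datQ u) h_mem (hT (Sum.inr (Sum.inr (Sum.inr u))))).trans (if_pos ⟨show h ≤ h from le_rfl, ?_⟩)
        simp [T]
    · intro p p' hne hor
      rcases p with i | l | b | u <;> rcases p' with i' | l' | b' | u'
      · refine (cf_transl hI (datA i) (hA (Sum.inl i')) (hT (Sum.inl i'))).trans (if_neg fun ⟨hle, _⟩ => hne ?_)
        rw [Fin.castSucc_injective n (gz_eq hle)]
      · refine (cf_transl hI (datA i) (gz_mem hexp hs) (hT (Sum.inr (Sum.inl l')))).trans (if_neg fun ⟨hle, e⟩ => ?_)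
        rw [gz_eq hle, tsub_self, zero_add] at e
        have := congrArg (fun f : Fin (n + 1) →₀ ℕ => f 0) e
        simp [T, e1v, hlast, hs0, l'.2, Ne.symm hlast] at this
      · exact (cf_transl hI (datA i) h_mem (hT (Sum.inr (Sum.inr (Sum.inl b'))))).trans (if_neg fun ⟨hle, _⟩ => chg hle)
      · exact (cf_transl hI (datA i) h_mem (hT (Sum.inr (Sum.inr (Sum.inr u'))))).trans (if_neg fun ⟨hle, _⟩ => chg hle)
      · exact absurd trivial (hor.resolve_left (fun h => h))
      · refine (cf_transl hI (datL l.1) (gz_mem hexp hs) (hT (Sum.inr (Sum.inl l')))).trans (if_neg fun ⟨_, e⟩ => hne ?_)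
        rw [gz, add_tsub_cancel_left] at e
        exact congrArg (fun x => Sum.inr (Sum.inl x)) (Subtype.ext (Finsupp.single_left_injective one_ne_zero (add_left_cancel e)).symm)
      · exact absurd trivial (hor.resolve_left (fun h => h))
      · exact absurd trivial (hor.resolve_left (fun h => h))
      · exact (cf_transl hI datB (hA (Sum.inl i')) (hT (Sum.inl i'))).trans (if_neg fun ⟨hle, _⟩ => cgz hle)
      · exact (cf_transl hI datB (gz_mem hexp hs) (hT (Sum.inr (Sum.inl l')))).trans (if_neg fun ⟨hle, _⟩ => cgz hle)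
      · exact absurd rfl hne
      · refine (cf_transl hI datB h_mem (hT (Sum.inr (Sum.inr (Sum.inr u'))))).trans (if_neg fun ⟨_, e⟩ => ?_)
        rw [tsub_self, zero_add] at e
        have := congrArg (fun f : Fin (n + 1) →₀ ℕ => f 0) e
        simp [T, e1v, hlast, u'.1.2.1] at this
      · exact (cf_transl hI (datQ u) (hA (Sum.inl i')) (hT (Sum.inl i'))).trans (if_neg fun ⟨hle, _⟩ => cgz hle)
      · exact (cf_transl hI (datQ u) (gz_mem hexp hs) (hT (Sum.inr (Sum.inl l')))).trans (if_neg fun ⟨hle, _⟩ => cgz hle)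
      · refine (cf_transl hI (datQ u) h_mem (hT (Sum.inr (Sum.inr (Sum.inl b'))))).trans (if_neg fun ⟨_, e⟩ => ?_)
        rw [tsub_self, zero_add] at e
        have := congrArg (fun f : Fin (n + 1) →₀ ℕ => f 0) e
        simp [T, e1v, hlast, u.1.2.1] at this
      · refine (cf_transl hI (datQ u) h_mem (hT (Sum.inr (Sum.inr (Sum.inr u'))))).trans (if_neg fun ⟨_, e⟩ => hne ?_)
        rw [tsub_self, zero_add] at e
        exact congrArg (fun x => Sum.inr (Sum.inr (Sum.inr x))) (Subtype.ext (Subtype.ext e)).symm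
  have hcl : Fintype.card {l : Fin (n + 1) // l ≠ 0} = n := by
    rw [Fintype.card_subtype_compl, Fintype.card_fin, Fintype.card_subtype_eq]; omega
  simp only [ι, Fintype.card_sum, Fintype.card_fin, hcl, Fintype.card_unit] at hcount
  omega

/-- Count for the span form. -/
theorem finrank_oneBlock_span (hcase : (n = 3 ∧ 4 ≤ q) ∨ (4 ≤ n ∧ 2 ≤ q)) :
    Module.finrank k ↥(hom0 (Ideal.span ({f : MvPolynomial (Fin (n + 1)) k | ∃ i : Fin (n + 1), i.val + 1 ≤ n ∧ f = X 0 * X i} ∪
      {X 1 ^ q}))) + 1 = 2 * n + (n + q - 1).choose q := by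
  classical
  let S : Set (Fin (n + 1) →₀ ℕ) := {g | (∃ i : Fin (n + 1), i.val < n ∧ g = gz i) ∨ g = Finsupp.single 1 q}
  have hset : ({f : MvPolynomial (Fin (n + 1)) k | ∃ i : Fin (n + 1), i.val + 1 ≤ n ∧ f = X 0 * X i} ∪ {X 1 ^ q}) =
      (fun g => monomial g (1 : k)) '' S := by
    ext f
    simp only [Set.mem_union, Set.mem_ofPred_eq, Set.mem_singleton_iff, Set.mem_image, S, monomial_gz, X_pow_eq_monomial]
    constructor
    · rintro (⟨i, hi, rfl⟩ | rfl)
      exacts [⟨_, Or.inl ⟨i, by omega, rfl⟩, rfl⟩, ⟨_, Or.inr rfl, rfl⟩]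
    · rintro ⟨g, ⟨i, hi, rfl⟩ | rfl, rfl⟩
      exacts [Or.inl ⟨i, by omega, rfl⟩, Or.inr rfl]
  rw [hset]
  have hexp : ∀ β, β ∈ exps (Ideal.span ((fun g => monomial g (1 : k)) '' S)) ↔
      (∃ i : Fin (n + 1), i.val < n ∧ gz i ≤ β) ∨ β ∈ {β : Fin (n + 1) →₀ ℕ | q ≤ β 1} := by
    intro β
    change monomial β (1 : k) ∈ Ideal.span ((fun g => monomial g (1 : k)) '' S) ↔ _
    rw [mem_ideal_span_monomial_image, support_monomial, if_neg one_ne_zero]
    simp only [Finset.mem_singleton, forall_eq]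
    constructor
    · rintro ⟨g, ⟨i, hi, rfl⟩ | rfl, hle⟩
      exacts [Or.inl ⟨i, hi, hle⟩, Or.inr (Finsupp.single_le_iff.1 hle)]
    · rintro (⟨i, hi, hle⟩ | hle)
      exacts [⟨_, Or.inl ⟨i, hi, rfl⟩, hle⟩, ⟨_, Or.inr rfl, Finsupp.single_le_iff.2 hle⟩]
  refine finrank_oneBlock (fun p hp β hβ => ?_) hexp hcase
  rw [mem_ideal_span_monomial_image] at hp ⊢
  rw [support_monomial, if_neg one_ne_zero]
  simp only [Finset.mem_singleton, forall_eq]
  exact hp β hβ

end GrothLib.HilbPn
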