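import Groth.Agent.Lib.HilbPn.Sum
import Groth.Agent.Lib.HilbPn.Pow

/-!
# Powers of the irrelevant ideal in three variables
-/

namespace GrothLib.HilbPn

open MvPolynomial W4c1hilbpn

universe u

theorem sum_choose_two (r : ℕ) : ∑ j ∈ Finset.range r, (r + 1 - j).choose 2 = (r + 2).choose 3 := by
  induction r with
  | zero => rfl
  | succ r ih =>
    rw [Finset.sum_range_succ']
    simp only [Nat.add_sub_add_right, Nat.sub_zero, ih]
    rw [show r + 1 + 2 = (r + 2) + 1 by omega, Nat.choose_succ_succ' (r + 2) 2]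
    simp only [show r + 1 + 1 = r + 2 from rfl, show (2 : ℕ) + 1 = 3 from rfl]
    omega

theorem sum_triangle (r : ℕ) :
    ∑ i ∈ Finset.range r, ∑ j ∈ Finset.range (r - i), (r + 1 - (i + j)).choose 2 = (r + 3).choose 4 := by
  induction r with
  | zero => rfl
  | succ r ih =>
    rw [Finset.sum_range_succ']
    simp only [Nat.add_sub_add_right, Nat.sub_zero, zero_add, Nat.add_right_comm _ 1, ih]
    rw [show r + 3 + 1 = (r + 3) + 1 from rfl, Nat.choose_succ_succ' (r + 3) 3, sum_choose_two (r + 1)]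
    simp only [show r + 1 + 2 = r + 3 from rfl, show (3 : ℕ) + 1 = 4 from rfl]
    omega

variable {k : Type u} [Field k] (r : ℕ)

local notation "𝔪" => idealOfVars (Fin 3) k

theorem sum_vec (π : Equiv.Perm (Fin 3)) (f : ℤ → ℕ) (x y z : ℤ) :
    ∑ l, f (vec π x y z l) = f x + f y + f z := by
  unfold vec
  rw [Equiv.sum_comp π fun m => f (![x, y, z] m), Fin.sum_univ_three]
  rfl

theorem sum_vec' (π : Equiv.Perm (Fin 3)) (x y z : ℤ) : ∑ l, vec π x y z l = x + y + z := by
  unfold vec
  rw [Equiv.sum_comp π fun m => ![x, y, z] m, Fin.sum_univ_three]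
  rfl

theorem finrank_pow_vec (π : Equiv.Perm (Fin 3)) (x y z : ℤ) :
    Module.finrank k (tPiece (𝔪 ^ r) (vec π x y z)) =
      if x + y + z = -1 ∧ (-x).toNat + (-y).toNat + (-z).toNat ≤ r
      then (2 + r - ((-x).toNat + (-y).toNat + (-z).toNat)).choose 2 else 0 := by
  haveI := finite_quotient_pow (k := k) (σ := Fin 3) r
  rw [finrank_tPiece (isMonomial_pow r), nBddComp_pow, sum_vec', sum_vec π (fun t => (-t).toNat), Fintype.card_fin]
  congr 2
  omega

/-- Dimension of the pattern with one negative entry. -/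
theorem finrank_pow_single (l : Fin 3) : Module.finrank k (sigPiece (𝔪 ^ r) {l}) = (r + 3).choose 4 := by
  haveI := finite_quotient_pow (k := k) (σ := Fin 3) r
  have hI := isMonomial_pow (k := k) (σ := Fin 3) r
  set π := Equiv.swap l 2
  obtain ⟨N₀, hN₀, hb₀⟩ := exists_stair_bound π hI
  have hN : ∀ a c, N₀ + r ≤ a ∨ N₀ + r ≤ c → stair (𝔪 ^ r) π a c = 0 := fun a c h =>
    hN₀ a c (h.imp (fun h => by omega) (fun h => by omega))
  have hb : ∀ a c, stair (𝔪 ^ r) π a c ≤ N₀ + r := fun a c => (hb₀ a c).trans (by omega)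
  have hl : π.symm 2 = l := by simp [π]
  rw [← hl, finrank_sigPiece_last π hI hN hb]
  set N := N₀ + r with hNdef
  have hd : ∀ i j m, dPos (𝔪 ^ r) π i j m = if m = i + j ∧ m + 1 ≤ r then (r + 1 - m).choose 2 else 0 := by
    intro i j m
    rw [← finrank_vec_pos π hI, finrank_pow_vec]
    rw [show (-(i : ℤ)).toNat + (-(j : ℤ)).toNat + (-(-((m : ℤ) + 1))).toNat = m + 1 by omega,
      show 2 + r - (m + 1) = r + 1 - m by omega]
    congr 1
    exact propext ⟨fun h => ⟨by omega, h.2⟩, fun h => ⟨by omega, h.2⟩⟩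
  rw [← sum_triangle r, ← Finset.sum_subset (Finset.range_mono (show r ≤ N by omega)) fun i _ hi => ?_]
  · refine Finset.sum_congr rfl fun i hi => ?_
    rw [← Finset.sum_subset (Finset.range_mono (show r - i ≤ N by omega)) fun j _ hj => ?_]
    · refine Finset.sum_congr rfl fun j hj => ?_
      simp only [Finset.mem_range] at hi hj
      simp only [hd]
      rw [Finset.sum_eq_single (i + j) (fun m _ hm => if_neg fun h => hm h.1)
        (fun h => absurd (Finset.mem_range.2 (by omega)) h), if_pos ⟨rfl, by omega⟩]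
    · simp only [Finset.mem_range, not_lt] at hj
      exact Finset.sum_eq_zero fun m _ => by rw [hd, if_neg (by omega)]
  · simp only [Finset.mem_range, not_lt] at hi
    exact Finset.sum_eq_zero fun j _ => Finset.sum_eq_zero fun m _ => by rw [hd, if_neg (by omega)]

theorem finrank_pow_compl (l : Fin 3) :
    Module.finrank k (sigPiece (𝔪 ^ r) ({l}ᶜ : Set (Fin 3))) = (r + 2).choose 4 := by
  haveI := finite_quotient_pow (k := k) (σ := Fin 3) r
  have hI := isMonomial_pow (k := k) (σ := Fin 3) r
  set π := Equiv.swap l 2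
  obtain ⟨N₀, hN₀, hb₀⟩ := exists_stair_bound π hI
  have hN : ∀ a c, N₀ + r ≤ a ∨ N₀ + r ≤ c → stair (𝔪 ^ r) π a c = 0 := fun a c h =>
    hN₀ a c (h.imp (fun h => by omega) (fun h => by omega))
  have hb : ∀ a c, stair (𝔪 ^ r) π a c ≤ N₀ + r := fun a c => (hb₀ a c).trans (by omega)
  have hl : π.symm 2 = l := by simp [π]
  rw [← hl, finrank_sigPiece_compl_last π hI hN hb]
  set N := N₀ + r with hNdef
  have hd : ∀ i j m, dNeg (𝔪 ^ r) π i j m =
      if m = i + j + 1 ∧ i + j + 2 ≤ r then (r - (i + j)).choose 2 else 0 := by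
    intro i j m
    rw [← finrank_vec_neg π hI, finrank_pow_vec]
    rw [show (-(-(i : ℤ) - 1)).toNat + (-(-(j : ℤ) - 1)).toNat + (-(m : ℤ)).toNat = i + j + 2 by omega,
      show 2 + r - (i + j + 2) = r - (i + j) by omega]
    congr 1
    exact propext ⟨fun h => ⟨by omega, h.2⟩, fun h => ⟨by omega, h.2⟩⟩
  rcases Nat.eq_zero_or_pos r with hr | hr
  · subst hr
    rw [show Nat.choose (0 + 2) 4 = 0 by decide]
    exact Finset.sum_eq_zero fun i _ => Finset.sum_eq_zero fun j _ => Finset.sum_eq_zero fun m _ => by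
      rw [hd, if_neg (by omega)]
  obtain ⟨s, rfl⟩ := Nat.exists_eq_add_of_le hr
  rw [show Nat.succ 0 + s + 2 = s + 3 by omega, ← sum_triangle s,
    ← Finset.sum_subset (Finset.range_mono (show s ≤ N by omega)) fun i _ hi => ?_]
  · refine Finset.sum_congr rfl fun i hi => ?_
    rw [← Finset.sum_subset (Finset.range_mono (show s - i ≤ N by omega)) fun j _ hj => ?_]
    · refine Finset.sum_congr rfl fun j hj => ?_
      simp only [Finset.mem_range] at hi hj
      simp only [hd]
      rw [Finset.sum_eq_single (i + j + 1) (fun m _ hm => if_neg fun h => hm h.1)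
        (fun h => absurd (Finset.mem_range.2 (by omega)) h), if_pos ⟨rfl, by omega⟩]
      congr 1; omega
    · simp only [Finset.mem_range, not_lt] at hj
      exact Finset.sum_eq_zero fun m _ => by rw [hd, if_neg (by omega)]
  · simp only [Finset.mem_range, not_lt] at hi
    exact Finset.sum_eq_zero fun j _ => Finset.sum_eq_zero fun m _ => by rw [hd, if_neg (by omega)]

theorem six_mul_choose_four (r : ℕ) :
    3 * ((r + 3).choose 4 + (r + 2).choose 4) = (r + 2).choose 2 * (r + 1).choose 2 := by
  induction r with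
  | zero => rfl
  | succ r ih =>
    have e1 : (r + 4).choose 4 = (r + 3).choose 3 + (r + 3).choose 4 := Nat.choose_succ_succ' _ _
    have e2 : (r + 3).choose 4 = (r + 2).choose 3 + (r + 2).choose 4 := Nat.choose_succ_succ' _ _
    have e3 : (r + 3).choose 3 = (r + 2).choose 2 + (r + 2).choose 3 := Nat.choose_succ_succ' _ _
    have e4 : (r + 3).choose 2 = (r + 2) + (r + 2).choose 2 := by
      rw [Nat.choose_succ_succ' (r + 2) 1, Nat.choose_one_right]
    have e5 : (r + 2).choose 2 = (r + 1) + (r + 1).choose 2 := by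
      rw [Nat.choose_succ_succ' (r + 1) 1, Nat.choose_one_right]
    have k3 : (r + 2).choose 3 * 3 = (r + 2).choose 2 * r := by
      have := Nat.choose_succ_right_eq (r + 2) 2
      simpa using this
    simp only [show r + 1 + 3 = r + 4 from rfl, show r + 1 + 2 = r + 3 from rfl, show r + 1 + 1 = r + 2 from rfl]
    nlinarith

theorem finrank_tgt_pow : Module.finrank k (Tgt (𝔪 ^ r)) = (r + 2).choose 2 * (r + 1).choose 2 := by
  haveI := finite_quotient_pow (k := k) (σ := Fin 3) r
  rw [finrank_tgt_eq (isMonomial_pow r)]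
  simp only [finrank_pow_single, finrank_pow_compl, Finset.sum_const, Finset.card_univ, Fintype.card_fin,
    smul_eq_mul, six_mul_choose_four]

end GrothLib.HilbPn
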