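import Groth.Agent.Lib.HilbPn.Decomp

/-!
# Vanishing and nonvanishing of graded pieces
-/

namespace GrothLib.HilbPn

open MvPolynomial W4c1hilbpn

universe u

variable {σ : Type} [Finite σ] {k : Type u} [Field k] {I : Ideal (MvPolynomial σ k)}

/-- A nonpositive multidegree with two negative entries has no maps. -/
theorem tPiece_eq_bot_of_nonpos (hI : IsMonomial I) [Module.Finite k (MvPolynomial σ k ⧸ I)]
    {α : σ → ℤ} (h : ∀ i, α i ≤ 0) {i j : σ} (hij : i ≠ j)
    (hi : α i < 0) (hj : α j < 0) : tPiece I α = ⊥ := by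
  classical
  rw [eq_bot_iff]
  intro φ hφ
  refine (Submodule.mem_bot k).2 (tgt_ext hI fun β hβ => ?_)
  rw [LinearMap.zero_apply]
  induction hN : β j using Nat.strong_induction_on generalizing β with
  | _ N ih =>
    subst hN
    by_cases hb : ∀ l, 0 ≤ (β l : ℤ) + α l
    swap
    · push Not at hb; exact (hφ β hβ).2 hb
    obtain ⟨c, hc⟩ := Submodule.mem_span_singleton.1 ((hφ β hβ).1 hb)
    by_cases hstd : shift β α ∈ exps I
    · rw [← hc, mk_monomial_eq_zero_iff.2 hstd, smul_zero]
    have hinj : Function.Injective fun m : ℕ => shift β α + Finsupp.single i m := fun a b e => by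
      simpa using congrArg (fun f => f i) e
    have hex : ∃ m : ℕ, shift β α + Finsupp.single i m ∈ exps I := by
      by_contra hno
      push Not at hno
      exact Set.infinite_univ (((finite_compl_exps hI).preimage hinj.injOn).subset fun m _ => hno m)
    have hm := Nat.find_spec hex
    have hm0 : Nat.find hex ≠ 0 := fun e => hstd (by simpa [e] using hm)
    obtain ⟨m, hmeq⟩ := Nat.exists_eq_succ_of_ne_zero hm0
    rw [hmeq] at hm
    have hstd' : shift β α + Finsupp.single i m ∉ exps I := Nat.find_min hex (by omega)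
    set δ := shift β α + Finsupp.single i (m + 1) with hδ
    set γ := Finsupp.single i m + β with hγ
    have hle : δ ≤ γ := fun l => by
      have h1 := shift_apply hb l; have := h l
      simp only [hδ, hγ, Finsupp.add_apply, Finsupp.single_apply]
      split_ifs with he <;> [subst he; skip] <;> omega
    have hγI : monomial γ (1 : k) ∈ I := by rw [hγ, add_comm]; exact add_mem_exps hβ _
    have hδ0 : φ ⟨monomial δ 1, hm⟩ = 0 := by
      refine ih (δ j) ?_ δ hm rfl
      have h1 := shift_apply hb j; have := h j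
      simp only [hδ, Finsupp.add_apply, Finsupp.single_eq_of_ne (Ne.symm hij)]
      omega
    have h0 : φ ⟨monomial γ 1, hγI⟩ = 0 := by
      have he : γ - δ + δ = γ := tsub_add_cancel_of_le hle
      have h' : monomial (γ - δ + δ) (1 : k) ∈ I := he.symm ▸ hγI
      have := tgt_monomial_add φ hm (γ - δ) h'
      rw [hδ0, smul_zero] at this
      rw [← this]
      exact congrArg φ (Subtype.ext (congrArg (fun e => monomial e (1 : k)) he.symm))
    have h1 : φ ⟨monomial γ 1, hγI⟩ = monomial (Finsupp.single i m) (1 : k) • φ ⟨monomial β 1, hβ⟩ :=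
      tgt_monomial_add φ hβ _ hγI
    rw [h0, ← hc, smul_comm] at h1
    have h2 : monomial (Finsupp.single i m) (1 : k) • Ideal.Quotient.mk I (monomial (shift β α) (1 : k)) =
        Ideal.Quotient.mk I (monomial (shift β α + Finsupp.single i m) (1 : k)) := by
      rw [add_comm, monomial_add_eq, map_mul]; rfl
    rw [h2] at h1
    rcases smul_eq_zero.1 h1.symm with hc0 | hz
    · rw [← hc, hc0, zero_smul]
    · exact absurd (mk_monomial_eq_zero_iff.1 hz) hstd'

theorem exists_socle (hI : IsMonomial I) [Module.Finite k (MvPolynomial σ k ⧸ I)] {P : σ →₀ ℕ}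
    (hP : P ∉ exps I) : ∃ T, P ≤ T ∧ T ∉ exps I ∧ ∀ i, T + Finsupp.single i 1 ∈ exps I := by
  have hfin : ({T | P ≤ T ∧ T ∉ exps I} : Set (σ →₀ ℕ)).Finite :=
    (finite_compl_exps hI).subset fun T h => h.2
  obtain ⟨T, ⟨hPT, hT⟩, hmax⟩ := hfin.exists_maximal ⟨P, le_rfl, hP⟩
  refine ⟨T, hPT, hT, fun i => ?_⟩
  by_contra h
  have := hmax ⟨hPT.trans le_self_add, h⟩ le_self_add i
  simp at this

/-- A minimal generator may be sent to a socle monomial. -/
theorem tPiece_ne_bot_of_socle (hI : IsMonomial I) {A T : σ →₀ ℕ} (hA : A ∈ exps I)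
    (hmin : ∀ i, 0 < A i → A - Finsupp.single i 1 ∉ exps I) (hT : T ∉ exps I)
    (hsoc : ∀ i, T + Finsupp.single i 1 ∈ exps I) : tPiece I (fun i => (T i : ℤ) - A i) ≠ ⊥ := by
  classical
  let L : MvPolynomial σ k →ₗ[k] (MvPolynomial σ k ⧸ I) :=
    (basisMonomials σ k).constr k fun β => if β = A then Ideal.Quotient.mk I (monomial T (1 : k)) else 0
  have hL : ∀ β, L (monomial β 1) = if β = A then Ideal.Quotient.mk I (monomial T (1 : k)) else 0 := fun β => by
    simp only [L, show monomial β (1 : k) = basisMonomials σ k β from by simp, Module.Basis.constr_basis]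
  have hmul : ∀ β ∈ exps I, ∀ γ, L (monomial (γ + β) 1) = monomial γ (1 : k) • L (monomial β 1) := by
    intro β hβ γ
    by_cases hγ : γ = 0
    · subst hγ; rw [zero_add, monomial_zero', C_1, one_smul]
    obtain ⟨i, hi⟩ : ∃ i, γ i ≠ 0 := by
      by_contra hne; push Not at hne; exact hγ (Finsupp.ext hne)
    rw [hL, hL, if_neg fun e => ?_]
    · split_ifs
      · rw [show monomial γ (1 : k) • Ideal.Quotient.mk I (monomial T (1 : k)) =
            Ideal.Quotient.mk I (monomial γ 1 * monomial T 1) from rfl, ← monomial_add_eq,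
          mk_monomial_eq_zero_iff.2]
        have hle : Finsupp.single i 1 ≤ γ := Finsupp.single_le_iff.2 (Nat.one_le_iff_ne_zero.2 hi)
        rw [show γ + T = T + Finsupp.single i 1 + (γ - Finsupp.single i 1) by
          rw [add_assoc, add_tsub_cancel_of_le hle, add_comm]]
        exact add_mem_exps (hsoc i) _
      · rw [smul_zero]
    · refine hmin i (by rw [← e]; simp; omega) ?_
      rw [← e, add_comm γ β, add_tsub_assoc_of_le (Finsupp.single_le_iff.2 (Nat.one_le_iff_ne_zero.2 hi))]
      exact add_mem_exps hβ _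
  let φ : Tgt I :=
    { toFun := fun f => L (f : MvPolynomial σ k)
      map_add' := fun f f' => map_add _ _ _
      map_smul' := fun s f => by
        change L (s * (f : MvPolynomial σ k)) = s • L f
        induction s using MvPolynomial.induction_on' with
        | monomial γ c =>
          rw [show monomial γ c = c • monomial γ (1 : k) by rw [smul_monomial, smul_eq_mul, mul_one],
            smul_mul_assoc, map_smul, smul_assoc]
          congr 1
          conv_lhs => rw [as_sum (f : MvPolynomial σ k), Finset.mul_sum, map_sum]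
          conv_rhs => rw [as_sum (f : MvPolynomial σ k), map_sum, Finset.smul_sum]
          refine Finset.sum_congr rfl fun β hβ => ?_
          rw [show monomial β (coeff β (f : MvPolynomial σ k)) = coeff β (f : MvPolynomial σ k) • monomial β (1 : k) by
              rw [smul_monomial, smul_eq_mul, mul_one], mul_smul_comm, map_smul, map_smul, ← monomial_add_eq,
            hmul β (hI _ f.2 β hβ) γ, smul_comm (monomial γ (1 : k))]
        | add a b ha hb => rw [add_mul, map_add, ha, hb, add_smul] }
  have hφ : φ ∈ tPiece I (fun i => (T i : ℤ) - A i) := by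
    intro β hβ
    change (_ → L (monomial β 1) ∈ _) ∧ (_ → L (monomial β 1) = 0)
    rw [hL]
    split_ifs with e
    · subst e
      refine ⟨fun _ => ?_, fun ⟨i, h⟩ => absurd h (not_lt.2 (by simp))⟩
      have e' : shift β (fun i => (T i : ℤ) - β i) = T := Finsupp.ext fun i => by
        have := shift_apply (β := β) (α := fun i => (T i : ℤ) - β i) (fun i => by omega) i
        omega
      rw [e']; exact Submodule.mem_span_singleton_self _
    · exact ⟨fun _ => zero_mem _, fun _ => rfl⟩
  intro h
  rw [h, Submodule.mem_bot] at hφ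
  have := LinearMap.congr_fun hφ ⟨_, hA⟩
  change L (monomial A 1) = 0 at this
  rw [hL, if_pos rfl] at this
  exact hT (mk_monomial_eq_zero_iff.1 this)

theorem sigPiece_ne_bot {S : Set σ} {α : σ → ℤ} (h : ∀ i, α i < 0 ↔ i ∈ S) (hne : tPiece I α ≠ ⊥) :
    sigPiece I S ≠ ⊥ := fun e => hne <| eq_bot_iff.2 <|
  (le_iSup (fun a : {α : σ → ℤ // ∀ i, α i < 0 ↔ i ∈ S} => tPiece I a.1) ⟨α, h⟩).trans e.le

/-- If `x_o ∈ I`, no maps have negative degree at `o` and at another variable. -/
theorem tPiece_eq_bot_of_X_mem (hI : IsMonomial I) {o j : σ} (ho : Finsupp.single o 1 ∈ exps I) (hj : j ≠ o)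
    {α : σ → ℤ} (hαo : α o < 0) (hαj : α j < 0) : tPiece I α = ⊥ := by
  refine (Submodule.eq_bot_iff _).2 fun φ hφ => tgt_ext hI fun β hβ => ?_
  rw [LinearMap.zero_apply]
  by_cases h0 : β o = 0
  · exact (hφ β hβ).2 ⟨o, by omega⟩
  · have e : β - Finsupp.single o 1 + Finsupp.single o 1 = β :=
      tsub_add_cancel_of_le (Finsupp.single_le_iff.2 (Nat.one_le_iff_ne_zero.2 h0))
    have h' : monomial (β - Finsupp.single o 1 + Finsupp.single o 1) (1 : k) ∈ I := e.symm ▸ hβ
    rw [show (⟨_, hβ⟩ : I) = ⟨_, h'⟩ from Subtype.ext (congrArg (fun x => monomial x (1 : k)) e.symm),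
      tgt_monomial_add φ ho _ h', (hφ _ ho).2 ⟨j, by simp [Finsupp.single_eq_of_ne hj]; omega⟩, smul_zero]

/-- If `x_o ∈ I`, positive degree at `o` kills. -/
theorem tPiece_eq_bot_of_X_mem_pos (hI : IsMonomial I) {o : σ} (ho : Finsupp.single o 1 ∈ exps I)
    {α : σ → ℤ} (hαo : 0 < α o) : tPiece I α = ⊥ := by
  refine (Submodule.eq_bot_iff _).2 fun φ hφ => tgt_ext hI fun β hβ => ?_
  rw [LinearMap.zero_apply]
  by_cases hb : ∀ i, 0 ≤ (β i : ℤ) + α i
  · obtain ⟨c, hc⟩ := Submodule.mem_span_singleton.1 ((hφ β hβ).1 hb)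
    have h1 := shift_apply hb o
    rw [← hc, mk_monomial_eq_zero_iff.2, smul_zero]
    rw [← add_tsub_cancel_of_le (Finsupp.single_le_iff.2 (show 1 ≤ shift β α o by omega))]
    exact add_mem_exps ho _
  · push Not at hb; exact (hφ β hβ).2 hb

end GrothLib.HilbPn
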