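import Groth.Agent.Lib.HilbPn.ColEquiv
import Mathlib.RingTheory.Polynomial.Basic
import Mathlib.LinearAlgebra.FiniteDimensional.Lemmas
import Mathlib.Order.SupIndep
import Mathlib.Algebra.BigOperators.Intervals

/-!
# Dimensions of sums of graded pieces
-/

namespace GrothLib.HilbPn

open MvPolynomial W4c1hilbpn

universe u

variable {σ : Type} [Finite σ] {k : Type u} [Field k] {I : Ideal (MvPolynomial σ k)}

variable (I) in
theorem finite_tgt [Module.Finite k (MvPolynomial σ k ⧸ I)] : Module.Finite k (Tgt I) := by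
  obtain ⟨G, hG⟩ := (inferInstance : IsNoetherian (MvPolynomial σ k) (MvPolynomial σ k)).noetherian I
  have hmem : ∀ g ∈ G, g ∈ I := fun g hg => hG ▸ Submodule.subset_span hg
  let L : Tgt I →ₗ[k] (G → MvPolynomial σ k ⧸ I) :=
    { toFun := fun φ g => φ ⟨g.1, hmem g.1 g.2⟩
      map_add' := fun _ _ => rfl
      map_smul' := fun _ _ => rfl }
  refine Module.Finite.of_injective L ((injective_iff_map_eq_zero L).2 fun φ h => LinearMap.ext fun ⟨x, hx⟩ => ?_)
  have hx' := hx
  rw [← hG] at hx'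
  induction hx' using Submodule.span_induction with
  | mem y hy => exact congrFun h ⟨y, hy⟩
  | zero => exact map_zero φ
  | add y z hy hz ihy ihz =>
    replace hy : y ∈ I := hG ▸ hy
    replace hz : z ∈ I := hG ▸ hz
    rw [show (⟨y + z, hx⟩ : I) = ⟨y, hy⟩ + ⟨z, hz⟩ from rfl, map_add, ihy hy, ihz hz]; simp
  | smul t y hy ih =>
    replace hy : y ∈ I := hG ▸ hy
    rw [show (⟨t • y, hx⟩ : I) = t • ⟨y, hy⟩ from rfl, map_smul, ih hy]; simp

/-- The projection to a multidegree, linearly in the map. -/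
noncomputable def compLin (hI : IsMonomial I) (α : σ → ℤ) : Tgt I →ₗ[k] Tgt I where
  toFun φ := comp hI φ α
  map_add' φ ψ := tgt_ext hI fun β hβ => by
    change compFun hI (φ + ψ) α _ = compFun hI φ α _ + compFun hI ψ α _
    by_cases h : ∀ i, 0 ≤ (β i : ℤ) + α i
    · simp only [compFun_monomial hI _ α hβ h, LinearMap.add_apply, map_add]
    · simp [compFun_monomial_neg hI _ α h]
  map_smul' c φ := tgt_ext hI fun β hβ => by
    change compFun hI (c • φ) α _ = c • compFun hI φ α _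
    by_cases h : ∀ i, 0 ≤ (β i : ℤ) + α i
    · simp only [compFun_monomial hI _ α hβ h, LinearMap.smul_apply, map_smul]
    · simp [compFun_monomial_neg hI _ α h]

theorem compLin_of_mem (hI : IsMonomial I) {α α' : σ → ℤ} {φ : Tgt I} (hφ : φ ∈ tPiece I α') :
    (α = α' → compLin hI α φ = φ) ∧ (α ≠ α' → compLin hI α φ = 0) := by
  classical
  constructor
  · rintro rfl
    refine tgt_ext hI fun β hβ => ?_
    change compFun hI φ α _ = _
    by_cases h : ∀ i, 0 ≤ (β i : ℤ) + α i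
    · obtain ⟨c, hc⟩ := Submodule.mem_span_singleton.1 ((hφ β hβ).1 h)
      rw [compFun_monomial hI φ α hβ h, ← hc, map_smul, proj_mk, coeff_monomial, if_pos rfl, one_smul]
    · rw [compFun_monomial_neg hI φ α h]
      push Not at h
      exact ((hφ β hβ).2 h).symm
  · intro hne
    refine tgt_ext hI fun β hβ => ?_
    change compFun hI φ α _ = 0
    by_cases h : ∀ i, 0 ≤ (β i : ℤ) + α i
    swap
    · rw [compFun_monomial_neg hI φ α h]
    rw [compFun_monomial hI φ α hβ h]
    by_cases h' : ∀ i, 0 ≤ (β i : ℤ) + α' i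
    · obtain ⟨c, hc⟩ := Submodule.mem_span_singleton.1 ((hφ β hβ).1 h')
      have : shift β α' ≠ shift β α := fun e => hne (funext fun i => by
        have h1 := shift_apply h i; have h2 := shift_apply h' i
        rw [e] at h2; omega)
      rw [← hc, map_smul, proj_mk, coeff_monomial, if_neg this, zero_smul, smul_zero]
    · push Not at h'
      rw [(hφ β hβ).2 h', map_zero]

theorem iSupIndep_tPiece (hI : IsMonomial I) : iSupIndep fun α : σ → ℤ => tPiece I α := by
  intro α
  rw [Submodule.disjoint_def]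
  intro x hx hx'
  have hle : (⨆ (α') (_ : α' ≠ α), tPiece I α') ≤ LinearMap.ker (compLin hI α) :=
    iSup₂_le fun α' h => fun y hy => (compLin_of_mem hI hy).2 (Ne.symm h)
  rw [← (compLin_of_mem hI hx).1 rfl]
  exact hle hx'

variable [Module.Finite k (MvPolynomial σ k ⧸ I)]

theorem finite_support_tPiece (hI : IsMonomial I) : {α : σ → ℤ | tPiece I α ≠ ⊥}.Finite := by
  haveI := finite_tgt I
  exact WellFoundedGT.finite_ne_bot_of_iSupIndep (iSupIndep_tPiece hI)

theorem finrank_biSup_finset (hI : IsMonomial I) (T : Finset (σ → ℤ)) :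
    Module.finrank k ↥(⨆ α ∈ T, tPiece I α) = ∑ α ∈ T, Module.finrank k (tPiece I α) := by
  classical
  haveI := finite_tgt I
  induction T using Finset.induction_on with
  | empty => simp
  | insert α T hα ih =>
    rw [Finset.sum_insert hα, Finset.iSup_insert, ← ih]
    have hd : Disjoint (tPiece I α) (⨆ x ∈ T, tPiece I x) :=
      (iSupIndep_tPiece hI α).mono_right
        (iSup₂_le fun x hx => le_iSup₂ (f := fun j (_ : j ≠ α) => tPiece I j) x fun e => hα (e ▸ hx))
    have := Submodule.finrank_sup_add_finrank_inf_eq (tPiece I α) (⨆ x ∈ T, tPiece I x)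
    rw [hd.eq_bot, finrank_bot, add_zero] at this
    exact this

theorem finrank_iSup_eq_sum (hI : IsMonomial I) (P : (σ → ℤ) → Prop) (T : Finset (σ → ℤ))
    (hT : ∀ α ∈ T, P α) (hz : ∀ α, P α → α ∉ T → tPiece I α = ⊥) :
    Module.finrank k ↥(⨆ α : {α : σ → ℤ // P α}, tPiece I α.1) = ∑ α ∈ T, Module.finrank k (tPiece I α) := by
  rw [← finrank_biSup_finset hI T]
  have e : (⨆ α : {α : σ → ℤ // P α}, tPiece I α.1) = ⨆ α ∈ T, tPiece I α := by
    refine le_antisymm (iSup_le fun α => ?_) (iSup₂_le fun α h => le_iSup_of_le ⟨α, hT α h⟩ le_rfl)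
    by_cases h : α.1 ∈ T
    · exact le_iSup₂ (f := fun α (_ : α ∈ T) => tPiece I α) α.1 h
    · rw [hz α.1 α.2 h]; exact bot_le
  rw [e]

section Three

variable {I : Ideal (MvPolynomial (Fin 3) k)} (π : Equiv.Perm (Fin 3)) (hI : IsMonomial I)
  [Module.Finite k (MvPolynomial (Fin 3) k ⧸ I)]

theorem finrank_Col_eq_zero {b : ℕ → ℕ → ℕ} {p q r : ℤ}
    (h : ∀ a c : ℕ, ¬ Std b (a + p) (c + q) (b a c + r)) : Module.finrank k (Col k b p q r) = 0 := by
  have e : Col k b p q r = ⊥ := (Submodule.eq_bot_iff _).2 fun g hg => funext₂ fun a c => hg.1 a c (h a c)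
  rw [e, finrank_bot]

variable (I) in
/-- `dim T_{(i,j,-(m+1))}` in permuted coordinates. -/
noncomputable def dPos (i j m : ℕ) : ℕ := Module.finrank k (Col k (stair I π) i j (-((m : ℤ) + 1)))

variable (I) in
/-- `dim T_{(-i-1,-j-1,m)}` in permuted coordinates. -/
noncomputable def dNeg (i j m : ℕ) : ℕ := Module.finrank k (Col k (stair I π) (-(i : ℤ) - 1) (-(j : ℤ) - 1) m)

include hI in
theorem sum_cell {N : ℕ} (hN : ∀ a c, N ≤ a ∨ N ≤ c → stair I π a c = 0) (hb : ∀ a c, stair I π a c ≤ N)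
    (i j s t : ℕ) :
    ∑ m ∈ Finset.range N, (cell (stair I π) N i j m s t).card =
      ∑ a ∈ Finset.range N, ∑ c ∈ Finset.range N, stair I π (a + i + s) (c + j + t) := by
  simp only [cell, Finset.card_filter]
  rw [Finset.sum_comm, Finset.sum_product]
  refine Finset.sum_congr rfl fun a _ => Finset.sum_congr rfl fun c _ => ?_
  rw [← Finset.card_filter]
  have hle : stair I π (a + i + s) (c + j + t) ≤ stair I π a c := stair_antitone π hI (by omega) (by omega)
  have := hb a c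
  have e : (Finset.range N).filter (fun m => m < stair I π a c ∧ stair I π a c ≤ stair I π (a + i + s) (c + j + t) + m) =
      Finset.Ico (stair I π a c - stair I π (a + i + s) (c + j + t)) (stair I π a c) := by
    ext m; simp; omega
  rw [e, Nat.card_Ico]
  omega

theorem sum_square (f : ℕ → ℕ → ℤ) (N : ℕ) (hf : ∀ a c, N ≤ a ∨ N ≤ c → f a c = 0) :
    ∑ a ∈ Finset.range N, ∑ c ∈ Finset.range N, ((f a c - f a (c + 1)) - (f (a + 1) c - f (a + 1) (c + 1))) = f 0 0 := by
  simp only [Finset.sum_sub_distrib]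
  have h : ∀ a, ∑ c ∈ Finset.range N, f a c - ∑ c ∈ Finset.range N, f a (c + 1) = f a 0 := fun a => by
    rw [← Finset.sum_sub_distrib, Finset.sum_range_sub', hf a N (Or.inr le_rfl), sub_zero]
  rw [← Finset.sum_sub_distrib, ← Finset.sum_sub_distrib, ← Finset.sum_sub_distrib]
  simp only [h]
  rw [Finset.sum_range_sub' (fun a => f a 0), hf N 0 (Or.inl le_rfl), sub_zero]

include hI in
/-- The key identity for a fixed pair of coordinates. -/
theorem sum_dPos {N : ℕ} (hN : ∀ a c, N ≤ a ∨ N ≤ c → stair I π a c = 0) (hb : ∀ a c, stair I π a c ≤ N)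
    (i j : ℕ) :
    ∑ m ∈ Finset.range N, dPos I π i j m = stair I π i j + ∑ m ∈ Finset.range N, dNeg I π i j m := by
  have h1 : ∀ a c, stair I π (a + 1) c ≤ stair I π a c := fun a c => stair_antitone π hI (by omega) le_rfl
  have h2 : ∀ a c, stair I π a (c + 1) ≤ stair I π a c := fun a c => stair_antitone π hI le_rfl (by omega)
  have key := Finset.sum_congr (s₁ := Finset.range N) rfl
    fun m (_ : m ∈ Finset.range N) => finrank_Col_add (i := i) (j := j) (m := m) h1 h2 hN k
  simp only [Finset.sum_add_distrib, sum_cell π hI hN hb] at key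
  have sq := sum_square (fun a c => (stair I π (a + i) (c + j) : ℤ)) N fun a c h => by
    rw [hN _ _ (h.imp (fun h => by omega) (fun h => by omega))]; rfl
  simp only [Finset.sum_sub_distrib, add_zero, zero_add, Nat.add_right_comm _ 1 i, Nat.add_right_comm _ 1 j] at sq key
  unfold dPos dNeg
  zify at key ⊢
  linarith

include hI in
theorem dPos_eq_zero {N : ℕ} (hN : ∀ a c, N ≤ a ∨ N ≤ c → stair I π a c = 0) (hb : ∀ a c, stair I π a c ≤ N)
    (i j m : ℕ) (h : N ≤ i ∨ N ≤ j ∨ N ≤ m) : dPos I π i j m = 0 := by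
  refine finrank_Col_eq_zero fun a c hs => ?_
  obtain ⟨-, -, hz, hlt⟩ := hs
  rw [show ((a : ℤ) + i).toNat = a + i by omega, show ((c : ℤ) + j).toNat = c + j by omega] at hlt
  have := hb a c
  rcases h with h | h | h
  · rw [hN (a + i) (c + j) (Or.inl (by omega))] at hlt; omega
  · rw [hN (a + i) (c + j) (Or.inr (by omega))] at hlt; omega
  · omega

include hI in
theorem dNeg_eq_zero {N : ℕ} (hN : ∀ a c, N ≤ a ∨ N ≤ c → stair I π a c = 0) (hb : ∀ a c, stair I π a c ≤ N)
    (i j m : ℕ) (h : N ≤ i ∨ N ≤ j ∨ N ≤ m) : dNeg I π i j m = 0 := by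
  by_cases hm : N ≤ m
  · refine finrank_Col_eq_zero fun a c hs => ?_
    obtain ⟨-, -, -, hlt⟩ := hs
    have := hb ((a : ℤ) + (-(i : ℤ) - 1)).toNat ((c : ℤ) + (-(j : ℤ) - 1)).toNat
    omega
  · have key := sum_dPos π hI hN hb i j
    have hij : N ≤ i ∨ N ≤ j := by omega
    rw [Finset.sum_eq_zero (fun m' _ => dPos_eq_zero π hI hN hb i j m' (hij.imp_right Or.inl)), hN i j hij] at key
    have h0 : ∑ m' ∈ Finset.range N, dNeg I π i j m' = 0 := by omega
    exact Finset.sum_eq_zero_iff.1 h0 m (Finset.mem_range.2 (by omega))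

theorem vec_symm (p q r : ℤ) :
    vec π p q r (π.symm 0) = p ∧ vec π p q r (π.symm 1) = q ∧ vec π p q r (π.symm 2) = r := by simp [vec]

include hI in
theorem finrank_vec_pos (i j m : ℕ) :
    Module.finrank k (tPiece I (vec π i j (-((m : ℤ) + 1)))) = dPos I π i j m := finrank_tPiece_vec π hI _ _ _

include hI in
theorem finrank_vec_neg (i j m : ℕ) :
    Module.finrank k (tPiece I (vec π (-(i : ℤ) - 1) (-(j : ℤ) - 1) m)) = dNeg I π i j m :=
  finrank_tPiece_vec π hI _ _ _

theorem eq_bot_of_finrank {W : Submodule k (Tgt I)} (h : Module.finrank k W = 0) : W = ⊥ := by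
  haveI := finite_tgt I
  exact Submodule.finrank_eq_zero.1 h

include hI in
theorem finrank_pos_line {N : ℕ} (hN : ∀ a c, N ≤ a ∨ N ≤ c → stair I π a c = 0) (hb : ∀ a c, stair I π a c ≤ N)
    (i j : ℕ) (P : (Fin 3 → ℤ) → Prop) (hP : ∀ α, P α → α (π.symm 0) = i ∧ α (π.symm 1) = j)
    (hP' : ∀ m : ℕ, P (vec π i j (-((m : ℤ) + 1)))) :
    Module.finrank k ↥(⨆ α : {α : Fin 3 → ℤ // P α}, tPiece I α.1) = ∑ m ∈ Finset.range N, dPos I π i j m := by
  classical
  have hinj : Function.Injective fun m : ℕ => vec π i j (-((m : ℤ) + 1)) := fun a b e => by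
    obtain ⟨-, -, h⟩ := (vec_inj π).1 e; omega
  rw [finrank_iSup_eq_sum hI P ((Finset.range N).image fun m : ℕ => vec π i j (-((m : ℤ) + 1)))]
  · rw [Finset.sum_image hinj.injOn]
    exact Finset.sum_congr rfl fun m _ => finrank_vec_pos π hI i j m
  · intro α hα; obtain ⟨m, -, rfl⟩ := Finset.mem_image.1 hα; exact hP' m
  · intro α hα hn
    obtain ⟨e0, e1⟩ := hP α hα
    have e := vec_surj π α
    rw [e0, e1] at e
    by_cases hr : 0 ≤ α (π.symm 2)
    · exact tPiece_eq_bot_of_nonneg hI fun l => by rw [e]; exact (vec_nonneg π).2 ⟨by omega, by omega, hr⟩ l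
    · obtain ⟨m, hm⟩ : ∃ m : ℕ, α (π.symm 2) = -((m : ℤ) + 1) := ⟨(-α (π.symm 2) - 1).toNat, by omega⟩
      rw [hm] at e; subst e
      refine eq_bot_of_finrank ?_
      rw [finrank_vec_pos π hI]
      exact dPos_eq_zero π hI hN hb i j m (Or.inr (Or.inr (not_lt.1 fun h =>
        hn (Finset.mem_image.2 ⟨m, Finset.mem_range.2 h, rfl⟩))))

include hI in
theorem finrank_neg_line {N : ℕ} (hN : ∀ a c, N ≤ a ∨ N ≤ c → stair I π a c = 0) (hb : ∀ a c, stair I π a c ≤ N)
    (i j : ℕ) (P : (Fin 3 → ℤ) → Prop)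
    (hP : ∀ α, P α → α (π.symm 0) = -(i : ℤ) - 1 ∧ α (π.symm 1) = -(j : ℤ) - 1)
    (hP' : ∀ m : ℕ, P (vec π (-(i : ℤ) - 1) (-(j : ℤ) - 1) m)) :
    Module.finrank k ↥(⨆ α : {α : Fin 3 → ℤ // P α}, tPiece I α.1) = ∑ m ∈ Finset.range N, dNeg I π i j m := by
  classical
  have hinj : Function.Injective fun m : ℕ => vec π (-(i : ℤ) - 1) (-(j : ℤ) - 1) m := fun a b e => by
    obtain ⟨-, -, h⟩ := (vec_inj π).1 e; omega
  rw [finrank_iSup_eq_sum hI P ((Finset.range N).image fun m : ℕ => vec π (-(i : ℤ) - 1) (-(j : ℤ) - 1) m)]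
  · rw [Finset.sum_image hinj.injOn]
    exact Finset.sum_congr rfl fun m _ => finrank_vec_neg π hI i j m
  · intro α hα; obtain ⟨m, -, rfl⟩ := Finset.mem_image.1 hα; exact hP' m
  · intro α hα hn
    obtain ⟨e0, e1⟩ := hP α hα
    have e := vec_surj π α
    rw [e0, e1] at e
    by_cases hr : 0 ≤ α (π.symm 2)
    · obtain ⟨m, hm⟩ : ∃ m : ℕ, α (π.symm 2) = m := ⟨(α (π.symm 2)).toNat, by omega⟩
      rw [hm] at e; subst e
      refine eq_bot_of_finrank ?_
      rw [finrank_vec_neg π hI]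
      exact dNeg_eq_zero π hI hN hb i j m (Or.inr (Or.inr (not_lt.1 fun h =>
        hn (Finset.mem_image.2 ⟨m, Finset.mem_range.2 h, rfl⟩))))
    · refine tPiece_eq_bot_of_neg hI (fun l => ?_) (show (0 : Fin 3) ≠ 1 by decide)
      rw [e]
      exact (fin3_forall (P := fun n => ![-(i : ℤ) - 1, -(j : ℤ) - 1, α (π.symm 2)] n < 0) π).2
        ⟨by simp; omega, by simp; omega, by simp; omega⟩ l

/-- The sign pattern "negative exactly at the last coordinate". -/
theorem sign_last (α : Fin 3 → ℤ) : (∀ l, α l < 0 ↔ l ∈ ({π.symm 2} : Set (Fin 3))) ↔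
    0 ≤ α (π.symm 0) ∧ 0 ≤ α (π.symm 1) ∧ α (π.symm 2) < 0 := by
  rw [π.symm.surjective.forall, Fin.forall_fin_succ, Fin.forall_fin_succ, Fin.forall_fin_one]
  simp [Fin.succ]

/-- The sign pattern "nonnegative exactly at the last coordinate". -/
theorem sign_compl_last (α : Fin 3 → ℤ) : (∀ l, α l < 0 ↔ l ∈ ({π.symm 2}ᶜ : Set (Fin 3))) ↔
    α (π.symm 0) < 0 ∧ α (π.symm 1) < 0 ∧ 0 ≤ α (π.symm 2) := by
  rw [π.symm.surjective.forall, Fin.forall_fin_succ, Fin.forall_fin_succ, Fin.forall_fin_one]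
  simp [Fin.succ]

include hI in
theorem finrank_sigPiece_last {N : ℕ} (hN : ∀ a c, N ≤ a ∨ N ≤ c → stair I π a c = 0) (hb : ∀ a c, stair I π a c ≤ N) :
    Module.finrank k (sigPiece I {π.symm 2}) =
      ∑ i ∈ Finset.range N, ∑ j ∈ Finset.range N, ∑ m ∈ Finset.range N, dPos I π i j m := by
  classical
  let T := (Finset.range N ×ˢ Finset.range N ×ˢ Finset.range N).image
    fun v => vec π (v.1 : ℤ) (v.2.1 : ℤ) (-((v.2.2 : ℤ) + 1))
  unfold sigPiece
  rw [finrank_iSup_eq_sum hI _ T]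
  · rw [Finset.sum_image]
    · simp only [Finset.sum_product, finrank_vec_pos π hI]
    · intro a _ b _ e
      obtain ⟨h0, h1, h2⟩ := (vec_inj π).1 e
      ext <;> omega
  · intro α hα
    obtain ⟨v, -, rfl⟩ := Finset.mem_image.1 hα
    rw [sign_last π]
    obtain ⟨h0, h1, h2⟩ := vec_symm π (v.1 : ℤ) v.2.1 (-((v.2.2 : ℤ) + 1))
    omega
  · intro α hα hn
    obtain ⟨h0, h1, h2⟩ := (sign_last π α).1 hα
    obtain ⟨i, hi⟩ := Int.eq_ofNat_of_zero_le h0
    obtain ⟨j, hj⟩ := Int.eq_ofNat_of_zero_le h1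
    obtain ⟨m, hm⟩ : ∃ m : ℕ, α (π.symm 2) = -((m : ℤ) + 1) := ⟨(-α (π.symm 2) - 1).toNat, by omega⟩
    have e := vec_surj π α
    rw [hi, hj, hm] at e; subst e
    refine eq_bot_of_finrank ?_
    rw [finrank_vec_pos π hI]
    refine dPos_eq_zero π hI hN hb i j m ?_
    by_contra hh; push Not at hh
    exact hn (Finset.mem_image.2 ⟨(i, j, m), by simp [hh.1, hh.2.1, hh.2.2], rfl⟩)

include hI in
theorem finrank_sigPiece_compl_last {N : ℕ} (hN : ∀ a c, N ≤ a ∨ N ≤ c → stair I π a c = 0)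
    (hb : ∀ a c, stair I π a c ≤ N) :
    Module.finrank k (sigPiece I ({π.symm 2}ᶜ : Set (Fin 3))) =
      ∑ i ∈ Finset.range N, ∑ j ∈ Finset.range N, ∑ m ∈ Finset.range N, dNeg I π i j m := by
  classical
  let T := (Finset.range N ×ˢ Finset.range N ×ˢ Finset.range N).image
    fun v => vec π (-(v.1 : ℤ) - 1) (-(v.2.1 : ℤ) - 1) (v.2.2 : ℤ)
  unfold sigPiece
  rw [finrank_iSup_eq_sum hI _ T]
  · rw [Finset.sum_image]
    · simp only [Finset.sum_product, finrank_vec_neg π hI]
    · intro a _ b _ e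
      obtain ⟨h0, h1, h2⟩ := (vec_inj π).1 e
      ext <;> omega
  · intro α hα
    obtain ⟨v, -, rfl⟩ := Finset.mem_image.1 hα
    rw [sign_compl_last π]
    obtain ⟨h0, h1, h2⟩ := vec_symm π (-(v.1 : ℤ) - 1) (-(v.2.1 : ℤ) - 1) (v.2.2 : ℤ)
    omega
  · intro α hα hn
    obtain ⟨h0, h1, h2⟩ := (sign_compl_last π α).1 hα
    obtain ⟨i, hi⟩ : ∃ i : ℕ, α (π.symm 0) = -(i : ℤ) - 1 := ⟨(-α (π.symm 0) - 1).toNat, by omega⟩
    obtain ⟨j, hj⟩ : ∃ j : ℕ, α (π.symm 1) = -(j : ℤ) - 1 := ⟨(-α (π.symm 1) - 1).toNat, by omega⟩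
    obtain ⟨m, hm⟩ := Int.eq_ofNat_of_zero_le h2
    have e := vec_surj π α
    rw [hi, hj, hm] at e; subst e
    refine eq_bot_of_finrank ?_
    rw [finrank_vec_neg π hI]
    refine dNeg_eq_zero π hI hN hb i j m ?_
    by_contra hh; push Not at hh
    exact hn (Finset.mem_image.2 ⟨(i, j, m), by simp [hh.1, hh.2.1, hh.2.2], rfl⟩)

include hI in
theorem finrank_quotient {N : ℕ} (hN : ∀ a c, N ≤ a ∨ N ≤ c → stair I π a c = 0) :
    Module.finrank k (MvPolynomial (Fin 3) k ⧸ I) =
      ∑ a ∈ Finset.range N, ∑ c ∈ Finset.range N, stair I π a c := by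
  classical
  have hfin := finite_compl_exps hI
  haveI := hfin.fintype
  have hspan : (⊤ : Submodule k (MvPolynomial (Fin 3) k ⧸ I)) ≤ Submodule.span k
      (Set.range fun β : ↥((exps I)ᶜ) => Ideal.Quotient.mk I (monomial (β : Fin 3 →₀ ℕ) (1 : k))) := by
    intro x _
    obtain ⟨f, rfl⟩ := Ideal.Quotient.mk_surjective x
    rw [as_sum f, map_sum]
    refine Submodule.sum_mem _ fun β _ => ?_
    rw [show monomial β (coeff β f) = coeff β f • monomial β (1 : k) by rw [smul_monomial, smul_eq_mul, mul_one]]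
    change coeff β f • Ideal.Quotient.mk I (monomial β (1 : k)) ∈ _
    refine Submodule.smul_mem _ _ ?_
    by_cases hβ : β ∈ exps I
    · rw [mk_monomial_eq_zero_iff.2 hβ]; exact zero_mem _
    · exact Submodule.subset_span ⟨⟨β, hβ⟩, rfl⟩
  rw [Module.finrank_eq_card_basis (Module.Basis.mk (linearIndependent_standard hI) hspan), ← Finset.sum_product']
  rw [Finset.sum_congr rfl (fun v (_ : v ∈ Finset.range N ×ˢ Finset.range N) =>
      (Finset.card_range (stair I π v.1 v.2)).symm), ← Finset.card_sigma, ← Fintype.card_coe]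
  refine Fintype.card_congr (Equiv.ofBijective
    (fun v => ⟨expo π v.1.1.1 v.1.1.2 v.1.2, fun h => absurd ((mem_exps_expo_iff π hI).1 h)
      (not_le.2 (Finset.mem_range.1 (Finset.mem_sigma.1 v.2).2))⟩) ⟨?_, ?_⟩).symm
  · rintro ⟨⟨⟨a, c⟩, n⟩, _⟩ ⟨⟨⟨a', c'⟩, n'⟩, _⟩ e
    obtain ⟨rfl, rfl, rfl⟩ := (expo_inj π).1 (congrArg Subtype.val e)
    rfl
  · rintro ⟨β, hβ⟩
    obtain ⟨a, c, n, rfl⟩ : ∃ a c n, β = expo π a c n := ⟨_, _, _, expo_surj π β⟩
    have hlt : n < stair I π a c := not_le.1 fun h => hβ ((mem_exps_expo_iff π hI).2 h)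
    refine ⟨⟨⟨(a, c), n⟩, Finset.mem_sigma.2 ⟨?_, Finset.mem_range.2 hlt⟩⟩, rfl⟩
    simp only [Finset.mem_product, Finset.mem_range]
    by_contra hh
    have := hN a c (by omega)
    omega

include hI in
/-- Negative exactly at `l`: colength plus the complementary pattern. -/
theorem finrank_sigPiece_singleton (l : Fin 3) :
    Module.finrank k (sigPiece I {l}) =
      Module.finrank k (sigPiece I ({l}ᶜ : Set (Fin 3))) + Module.finrank k (MvPolynomial (Fin 3) k ⧸ I) := by
  set π := Equiv.swap l 2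
  obtain ⟨N, hN, hb⟩ := exists_stair_bound π hI
  have hl : π.symm 2 = l := by simp [π]
  rw [← hl, finrank_sigPiece_last π hI hN hb, finrank_sigPiece_compl_last π hI hN hb, finrank_quotient π hI hN,
    ← Finset.sum_add_distrib]
  refine Finset.sum_congr rfl fun i _ => ?_
  rw [← Finset.sum_add_distrib]
  exact Finset.sum_congr rfl fun j _ => (sum_dPos π hI hN hb i j).trans (add_comm _ _)

include hI in
/-- `T(I)` is the sum of its six mixed sign patterns. -/
theorem finrank_tgt_eq :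
    Module.finrank k (Tgt I) =
      ∑ l : Fin 3, (Module.finrank k (sigPiece I {l}) + Module.finrank k (sigPiece I ({l}ᶜ : Set (Fin 3)))) := by
  classical
  set F := (finite_support_tPiece (I := I) hI).toFinset with hF
  have hsum : ∀ P : (Fin 3 → ℤ) → Prop, Module.finrank k ↥(⨆ α : {α : Fin 3 → ℤ // P α}, tPiece I α.1) =
      ∑ α ∈ F, if P α then Module.finrank k (tPiece I α) else 0 := fun P => by
    rw [← Finset.sum_filter]
    exact finrank_iSup_eq_sum hI P _ (fun α h => (Finset.mem_filter.1 h).2)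
      fun α hP h => by simpa [hF, hP] using h
  have htop : Module.finrank k (Tgt I) = ∑ α ∈ F, Module.finrank k (tPiece I α) := by
    have h := hsum fun _ => True
    simp only [if_true] at h
    rw [← h, ← finrank_top]
    have e : (⊤ : Submodule k (Tgt I)) = ⨆ α : {_α : Fin 3 → ℤ // True}, tPiece I α.1 := by
      rw [← iSup_tPiece_eq_top hI]
      exact le_antisymm (iSup_le fun α => le_iSup_of_le ⟨α, trivial⟩ le_rfl) (iSup_le fun α => le_iSup _ α.1)
    rw [e]
  have hs : ∀ S : Set (Fin 3), Module.finrank k (sigPiece I S) =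
      ∑ α ∈ F, if (∀ l, α l < 0 ↔ l ∈ S) then Module.finrank k (tPiece I α) else 0 := fun S => by
    rw [sigPiece, hsum]
    exact Finset.sum_congr rfl fun α _ => by congr
  simp only [htop, hs, ← Finset.sum_add_distrib]
  rw [Finset.sum_comm]
  refine Finset.sum_congr rfl fun α hα => ?_
  have hne : tPiece I α ≠ ⊥ := (finite_support_tPiece hI).mem_toFinset.1 hα
  have h1 : ∃ l, α l < 0 := by
    by_contra h; push Not at h; exact hne (tPiece_eq_bot_of_nonneg hI h)
  have h2 : ∃ l, 0 ≤ α l := by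
    by_contra h; push Not at h; exact hne (tPiece_eq_bot_of_neg hI h (show (0 : Fin 3) ≠ 1 by decide))
  simp only [Fin.sum_univ_three, Fin.forall_fin_succ, Fin.exists_fin_succ, Fin.succ, Set.mem_singleton_iff,
    Set.mem_compl_iff, IsEmpty.forall_iff, IsEmpty.exists_iff, Fin.ext_iff] at h1 h2 ⊢
  by_cases a0 : α 0 < 0 <;> by_cases a1 : α 1 < 0 <;> by_cases a2 : α 2 < 0 <;>
    simp_all <;> (repeat' split_ifs) <;> omega

end Three

end GrothLib.HilbPn
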