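import Groth.Agent.Lib.HilbPn.Borel2

/-!
# The ideals `x₀(x₀,…,x_{n-1}) + x₁^q(x₁,…,x_m)`
-/

namespace GrothLib.HilbPn

open MvPolynomial W4c1hilbpn

universe u

variable {n : ℕ}

/-- The generators `x₁^q x_j`. -/
noncomputable def hj (q : ℕ) (j : Fin (n + 1)) : Fin (n + 1) →₀ ℕ := Finsupp.single 1 q + e1v j

/-- The indices `1, …, m`. -/
def Nset (n m : ℕ) : Finset (Fin (n + 1)) := Finset.univ.filter fun j => 1 ≤ j.val ∧ j.val ≤ m

/-- The indices above `m`. -/
def Hset (n m : ℕ) : Finset (Fin (n + 1)) := Finset.univ.filter fun j => m < j.val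

/-- Indices of the translations `x_l ∂₀`. -/
def Lset (n q m : ℕ) : Finset (Fin (n + 1)) :=
  Finset.univ.filter fun l => 1 ≤ l.val ∧ ¬ (q = 1 ∧ m + 1 = n ∧ l.val = 1)

/-- Indices of the exceptional maps. -/
def Eset (n q m : ℕ) : Finset (Fin (n + 1)) :=
  Finset.univ.filter fun i => i.val < n ∧ q = 1 ∧ (m + 1 = n ∨ (m + 2 = n ∧ i.val + 1 = n))

theorem mem_Nset {m : ℕ} {j : Fin (n + 1)} : j ∈ Nset n m ↔ 1 ≤ j.val ∧ j.val ≤ m := by simp [Nset]
theorem mem_Hset {m : ℕ} {j : Fin (n + 1)} : j ∈ Hset n m ↔ m < j.val := by simp [Hset]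
theorem mem_Lset {q m : ℕ} {l : Fin (n + 1)} :
    l ∈ Lset n q m ↔ 1 ≤ l.val ∧ ¬ (q = 1 ∧ m + 1 = n ∧ l.val = 1) := by simp [Lset]
theorem mem_Eset {q m : ℕ} {i : Fin (n + 1)} :
    i ∈ Eset n q m ↔ i.val < n ∧ q = 1 ∧ (m + 1 = n ∨ (m + 2 = n ∧ i.val + 1 = n)) := by simp [Eset]

variable {k : Type u} [Field k] {I : Ideal (MvPolynomial (Fin (n + 1)) k)} {q m : ℕ}

/-- The exponents of `x₁^q (x₁,…,x_m)`. -/
def Jset (q m : ℕ) : Set (Fin (n + 1) →₀ ℕ) := {β | ∃ j ∈ Nset n m, hj q j ≤ β}

theorem sum_hj (q : ℕ) (j : Fin (n + 1)) : ∑ x, hj q j x = q + 1 := by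
  rw [hj, ← Finsupp.degree_eq_sum, map_add, Finsupp.degree_single, Finsupp.degree_single]

theorem card_targets (q : ℕ) (hn : 1 ≤ n) :
    Nat.card {u : Fin (n + 1) →₀ ℕ // u 0 = 0 ∧ ∑ x, u x = q ∧ u ≠ Finsupp.single 1 q} + 1 = (n + q - 1).choose q := by
  classical
  obtain ⟨n, rfl⟩ := Nat.exists_eq_add_of_le hn
  rw [Nat.add_comm 1 n] at *
  have hc : Nat.card {t : Fin (n + 1) →₀ ℕ // ∑ x, t x = q} = (n + 1 + q - 1).choose q := by
    rw [natCard_degree, Fintype.card_fin]
  let e : {t : Fin (n + 1) →₀ ℕ // ∑ x, t x = q} ≃ {u : Fin (n + 1 + 1) →₀ ℕ // u 0 = 0 ∧ ∑ x, u x = q} :=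
    { toFun := fun t => ⟨Finsupp.cons 0 t.1, Finsupp.cons_zero _ _, by
        rw [Fin.sum_univ_succ]; simp [t.2]⟩
      invFun := fun u => ⟨Finsupp.tail u.1, by
        have h := u.2.2; rw [Fin.sum_univ_succ, u.2.1, zero_add] at h; exact h⟩
      left_inv := fun t => Subtype.ext (Finsupp.tail_cons _ _)
      right_inv := fun u => Subtype.ext (by
        change Finsupp.cons 0 (Finsupp.tail u.1) = u.1
        have h := Finsupp.cons_tail u.1
        rw [u.2.1] at h
        exact h) }
  haveI : Finite {t : Fin (n + 1) →₀ ℕ // ∑ x, t x = q} :=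
    Nat.finite_of_card_ne_zero (by rw [hc]; exact (Nat.choose_pos (by omega)).ne')
  haveI := Finite.of_equiv _ e
  let u₀ : {u : Fin (n + 1 + 1) →₀ ℕ // u 0 = 0 ∧ ∑ x, u x = q} :=
    ⟨Finsupp.single 1 q, by simp, by rw [← Finsupp.degree_eq_sum, Finsupp.degree_single]⟩
  rw [← hc, Nat.card_congr e, ← Nat.card_congr (Equiv.optionSubtypeNe u₀), Finite.card_option]
  congr 1
  exact Nat.card_congr
    { toFun := fun u => ⟨⟨u.1, u.2.1, u.2.2.1⟩, fun h => u.2.2.2 (congrArg Subtype.val h)⟩
      invFun := fun u => ⟨u.1.1, u.1.2.1, u.1.2.2, fun h => u.2 (Subtype.ext h)⟩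
      left_inv := fun _ => rfl
      right_inv := fun _ => rfl }

theorem finrank_twoBlock (hI : IsMonomial I)
    (hexp : ∀ β, β ∈ exps I ↔ (∃ i : Fin (n + 1), i.val < n ∧ gz i ≤ β) ∨ β ∈ Jset q m)
    (hq : 1 ≤ q) (hm : 2 ≤ m) (hmn : m + 1 ≤ n) (hcase : q = 2 → m + 3 ≤ n) :
    Module.finrank k ↥(hom0 I) + 1 =
      n + (Lset n q m).card + (Eset n q m).card + m + m * (n - m) + (n + q - 1).choose q := by
  classical
  have h1v : ((1 : Fin (n + 1)) : ℕ) = 1 := by rw [Fin.val_one']; exact Nat.mod_eq_of_lt (by omega)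
  have h1 : (1 : Fin (n + 1)) ≠ 0 := fun e => by rw [e] at h1v; simp at h1v
  set s : Fin (n + 1) := ⟨n - 1, by omega⟩ with hsdef
  set two : Fin (n + 1) := ⟨2, by omega⟩ with htwodef
  have hs : s.val < n := by simp [hsdef]; omega
  have hs0 : s ≠ 0 := by simp [hsdef, Fin.ext_iff]; omega
  have hs1 : s ≠ 1 := fun e => by have := congrArg Fin.val e; rw [h1v] at this; simp [hsdef] at this; omega
  have htwoN : two ∈ Nset n m := by simp [mem_Nset, htwodef]; omega
  have two0 : two ≠ 0 := by simp [htwodef, Fin.ext_iff]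
  have two1 : two ≠ 1 := fun e => by have := congrArg Fin.val e; rw [h1v] at this; simp [htwodef] at this
  have hlast : Fin.last n ≠ 0 := by simp [Fin.ext_iff]; omega
  have hlast1 : Fin.last n ≠ 1 := fun e => by have := congrArg Fin.val e; rw [h1v] at this; simp at this; omega
  have hlastN : Fin.last n ∉ Nset n m := by simp [mem_Nset]; omega
  have oneN : (1 : Fin (n + 1)) ∈ Nset n m := by rw [mem_Nset, h1v]; omega
  have N0 : ∀ j ∈ Nset n m, j ≠ 0 := fun j hj e => by rw [e, mem_Nset] at hj; simp at hj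
  have Nlt : ∀ j ∈ Nset n m, j.val < n := fun j hj => by rw [mem_Nset] at hj; omega
  -- membership in `J`
  have hJiff : ∀ β, β ∈ Jset q m ↔ (q < β 1 ∨ (q ≤ β 1 ∧ ∃ j ∈ Nset n m, j ≠ 1 ∧ 0 < β j)) := by
    intro β
    constructor
    · rintro ⟨j, hjN, hle⟩
      have a := hle 1
      have b := hle j
      by_cases hj1 : j = 1
      · subst hj1; simp [hj, e1v] at a; omega
      · simp [hj, e1v, hj1, Ne.symm hj1] at a b
        exact Or.inr ⟨a, j, hjN, hj1, by omega⟩
    · rintro (h | ⟨h, j, hjN, hj1, hjp⟩)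
      · refine ⟨1, oneN, fun y => ?_⟩
        simp only [hj, e1v, Finsupp.add_apply, Finsupp.single_apply]
        split_ifs <;> subst_vars <;> omega
      · refine ⟨j, hjN, fun y => ?_⟩
        simp only [hj, e1v, Finsupp.add_apply, Finsupp.single_apply]
        split_ifs <;> subst_vars <;> first | omega | exact absurd rfl hj1
  have hJmid : ∀ β ∈ Jset (n := n) q m, ∃ x : Fin (n + 1), 1 ≤ x.val ∧ x.val < n ∧ 0 < β x := fun β hβ =>
    ⟨1, by omega, by omega, by rcases (hJiff β).1 hβ with h | ⟨h, -⟩ <;> omega⟩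
  have hjJ : ∀ j ∈ Nset n m, hj q j ∈ Jset q m := fun j hjN => ⟨j, hjN, le_rfl⟩
  have hj_mem : ∀ j ∈ Nset n m, hj q j ∈ exps I := fun j hjN => (hexp _).2 (Or.inr (hjJ j hjN))
  have hstd0 : ∀ β : Fin (n + 1) →₀ ℕ, β 0 = 0 → β ∉ Jset q m → β ∉ exps I := fun β h0 h h' =>
    h (mem_J_of_zero hexp h0 h')
  -- coordinates
  haveI hPfin : Finite {u : Fin (n + 1) →₀ ℕ // u 0 = 0 ∧ ∑ x, u x = q ∧ u ≠ Finsupp.single 1 q} := by
    refine Nat.finite_of_card_ne_zero fun h0 => ?_
    have h2 := card_targets (n := n) q (by omega)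
    rw [h0] at h2
    have : n ≤ (n + q - 1).choose q := by
      obtain ⟨q', rfl⟩ := Nat.exists_eq_add_of_le hq
      rw [show n + (1 + q') - 1 = n + q' by omega, Nat.add_comm 1 q',
        ← Nat.choose_symm_of_eq_add (show n + q' = (n - 1) + (q' + 1) by omega)]
      calc n = n.choose (n - 1) := by rw [Nat.choose_symm_of_eq_add (show n = (n - 1) + 1 by omega), Nat.choose_one_right]
        _ ≤ _ := Nat.choose_le_choose _ (by omega)
    omega
  haveI := Fintype.ofFinite {u : Fin (n + 1) →₀ ℕ // u 0 = 0 ∧ ∑ x, u x = q ∧ u ≠ Finsupp.single 1 q}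
  let ι := Fin n ⊕ ↥(Lset n q m) ⊕ ↥(Eset n q m) ⊕ ↥(Nset n m) ⊕ (↥(Nset n m) × ↥(Hset n m)) ⊕
    {u : Fin (n + 1) →₀ ℕ // u 0 = 0 ∧ ∑ x, u x = q ∧ u ≠ Finsupp.single 1 q}
  let A : ι → Fin (n + 1) →₀ ℕ := Sum.elim (fun i => gz i.castSucc) <| Sum.elim (fun _ => gz s) <|
    Sum.elim (fun i => gz i.1) <| Sum.elim (fun j => hj q j.1) <| Sum.elim (fun v => hj q v.1.1) fun _ => hj q two
  let T : ι → Fin (n + 1) →₀ ℕ := Sum.elim (fun _ => e1v 0 + e1v (Fin.last n)) <| Sum.elim (fun l => e1v s + e1v l.1) <|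
    Sum.elim (fun _ => e1v 1 + e1v (Fin.last n)) <| Sum.elim (fun _ => e1v 0 + Finsupp.single (Fin.last n) q) <|
    Sum.elim (fun v => Finsupp.single 1 q + e1v v.2.1) fun u => e1v two + u.1
  let S : ι → Prop := Sum.elim (fun _ => True) <| Sum.elim (fun _ => False) <|
    Sum.elim (fun _ => True) <| Sum.elim (fun _ => True) <| Sum.elim (fun _ => True) fun _ => False
  have hcast : ∀ i : Fin n, i.castSucc.val < n := fun i => i.isLt
  have hA : ∀ p, A p ∈ exps I := by
    rintro (i | l | i | j | v | u)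
    exacts [gz_mem hexp (hcast i), gz_mem hexp hs, gz_mem hexp (mem_Eset.1 i.2).1, hj_mem _ j.2, hj_mem _ v.1.2,
      hj_mem _ htwoN]
  have hT : ∀ p, T p ∉ exps I := by
    rintro (i | ⟨l, hl⟩ | ⟨i, hi⟩ | j | ⟨j, l, hl⟩ | ⟨u, hu0, hus, hune⟩)
    · exact socle_notMem hexp hJmid (by omega) 1
    · rw [mem_Lset] at hl
      have hl0 : l ≠ 0 := fun e => by rw [e] at hl; simp at hl
      refine hstd0 _ (by simp [T, e1v, hs0, hl0, Ne.symm hs0, Ne.symm hl0]) ?_
      change e1v s + e1v l ∉ Jset q m
      rw [hJiff]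
      rintro (h | ⟨h, j, hjN, hj1, hjp⟩)
      · simp [e1v, Finsupp.single_apply, hs1] at h; split_ifs at h <;> omega
      · by_cases hl1 : l = 1
        · subst hl1
          simp [e1v, Finsupp.single_apply, hs1] at h
          have hjs : j = s := by
            by_contra hne; simp [e1v, Finsupp.single_apply, Ne.symm hne, Ne.symm hj1] at hjp
          have := congrArg Fin.val hjs
          rw [mem_Nset] at hjN
          simp only [hsdef] at this
          omega
        · simp [e1v, Finsupp.single_apply, hs1, hl1] at h; omega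
    · rw [mem_Eset] at hi
      refine hstd0 _ (by simp [T, e1v, hlast, Ne.symm hlast, h1, Ne.symm h1]) ?_
      change e1v 1 + e1v (Fin.last n) ∉ Jset q m
      rw [hJiff]
      rintro (h | ⟨h, j, hjN, hj1, hjp⟩)
      · simp [e1v, Finsupp.single_apply, hlast1] at h; omega
      · have hjl : j ≠ Fin.last n := fun e => hlastN (e ▸ hjN)
        simp [e1v, Finsupp.single_apply, Ne.symm hj1, Ne.symm hjl] at hjp
    · exact socle_notMem hexp hJmid (by omega) q
    · rw [mem_Hset] at hl
      have hl0 : l ≠ 0 := fun e => by rw [e] at hl; simp at hl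
      have hl1 : l ≠ 1 := fun e => by rw [e, h1v] at hl; omega
      refine hstd0 _ (by simp [T, e1v, hl0, Ne.symm hl0, h1, Ne.symm h1]) ?_
      change Finsupp.single 1 q + e1v l ∉ Jset q m
      rw [hJiff]
      rintro (h | ⟨h, j', hjN, hj1, hjp⟩)
      · simp [e1v, Finsupp.single_apply, hl1] at h
      · have hjl : j' ≠ l := fun e => by rw [e, mem_Nset] at hjN; omega
        simp [e1v, Finsupp.single_apply, Ne.symm hj1, Ne.symm hjl] at hjp
    · refine hstd0 _ (by simp [T, e1v, two0, Ne.symm two0, hu0]) ?_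
      change e1v two + u ∉ Jset q m
      rw [hJiff]
      have hu1 : u 1 < q := by
        by_contra hge
        push Not at hge
        refine hune (Finsupp.ext fun x => ?_)
        have hsplit := Finset.add_sum_erase Finset.univ (fun y => u y) (Finset.mem_univ (1 : Fin (n + 1)))
        by_cases hx : x = 1
        · subst hx; simp; omega
        · have := Finset.single_le_sum (f := fun y => u y) (fun y _ => Nat.zero_le _)
            (show x ∈ Finset.univ.erase (1 : Fin (n + 1)) by simp [hx])
          simp [hx, Ne.symm hx]; omega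
      rintro (h | ⟨h, -⟩) <;> simp [e1v, Finsupp.single_apply, two1] at h <;> omega
  -- lifts
  let G : Set (Fin (n + 1) →₀ ℕ) := {g | (∃ i : Fin (n + 1), i.val < n ∧ g = gz i) ∨ ∃ j ∈ Nset n m, g = hj q j}
  have hG : ∀ β ∈ exps I, ∃ g ∈ G, g ≤ β := fun β hβ => by
    rcases (hexp β).1 hβ with ⟨i, hi, hle⟩ | ⟨j, hjN, hle⟩
    exacts [⟨_, Or.inl ⟨i, hi, rfl⟩, hle⟩, ⟨_, Or.inr ⟨j, hjN, rfl⟩, hle⟩]
  have hGsupp : ∀ g ∈ G, ∀ x, 0 < g x → x.val < n := by
    rintro g (⟨i, hi, rfl⟩ | ⟨j, hjN, rfl⟩) x hx
    · simp only [gz, e1v, Finsupp.add_apply, Finsupp.single_apply] at hx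
      split_ifs at hx <;> subst_vars <;> first | (simp; omega) | omega
    · simp only [hj, e1v, Finsupp.add_apply, Finsupp.single_apply] at hx
      have := Nlt j hjN
      split_ifs at hx <;> subst_vars <;> omega
  have gz_hj : ∀ {i j : Fin (n + 1)}, j ∈ Nset n m → ¬ gz i ≤ hj q j := fun {i j} hjN h => by
    have := h 0
    simp [gz, hj, e1v, N0 j hjN, Ne.symm (N0 j hjN), h1, Ne.symm h1] at this
  have hj_gz : ∀ {i j : Fin (n + 1)}, j ∈ Nset n m → ¬ hj q j ≤ gz i := fun {i j} hjN h => by
    have e0 : gz i - hj q j + hj q j = gz i := tsub_add_cancel_of_le h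
    have := congrArg Finsupp.degree e0
    rw [map_add, Finsupp.degree_eq_sum (hj q j), sum_hj, Finsupp.degree_eq_sum (gz i), sum_gz] at this
    have h0 : gz i - hj q j = 0 := (Finsupp.degree_eq_zero_iff _).1 (by omega)
    rw [h0, zero_add] at e0
    exact gz_hj hjN e0.ge
  have anti : ∀ g ∈ G, ∀ g' ∈ G, g ≤ g' → g = g' := by
    rintro g (⟨i, hi, rfl⟩ | ⟨j, hjN, rfl⟩) g' (⟨l, hl, rfl⟩ | ⟨j', hjN', rfl⟩) hle
    · have := hle i
      by_cases h : i = l
      · rw [h]
      · simp [gz, e1v, Finsupp.single_apply, Ne.symm h] at this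
    · exact absurd hle (gz_hj hjN')
    · exact absurd hle (hj_gz hjN)
    · have := hle j
      by_cases h : j = j'
      · rw [h]
      · simp [hj, e1v, Finsupp.single_apply, Ne.symm h] at this
  have hAG : ∀ p, A p ∈ G := by
    rintro (i | l | i | j | v | u)
    exacts [Or.inl ⟨_, hcast i, rfl⟩, Or.inl ⟨_, hs, rfl⟩, Or.inl ⟨_, (mem_Eset.1 i.2).1, rfl⟩,
      Or.inr ⟨_, j.2, rfl⟩, Or.inr ⟨_, v.1.2, rfl⟩, Or.inr ⟨_, htwoN, rfl⟩]
  have hdiff : ∀ g ∈ G, ∀ g' ∈ G, g ≠ g' → ∃ x : Fin (n + 1), x.val < n ∧ g' x < g x := by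
    intro g hg g' hg' hne
    obtain ⟨x, hx⟩ : ∃ x, g' x < g x := by
      by_contra hno; push Not at hno; exact hne (anti g hg g' hg' hno)
    exact ⟨x, hGsupp g hg x (Nat.lt_of_le_of_lt (Nat.zero_le _) hx), hx⟩
  have socle : ∀ (A' T' : Fin (n + 1) →₀ ℕ), A' ∈ G → ∑ x, T' x = ∑ x, A' x → 0 < T' 0 → TranslData I {β | A' ≤ β} A' T' := by
    intro A' T' hA' hdeg h0
    refine translData_gen hG hdeg fun g hg hne => ?_
    obtain ⟨x, hxn, hx⟩ := hdiff g hg A' hA' hne
    by_cases hx0 : x = 0
    · subst hx0; exact mem_of_sq hexp (by omega) (by simp; omega)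
    · exact mem_of_two hexp (x := x) (by simp; omega) hxn hx0 (by simp; omega)
  have datL : ∀ l : Fin (n + 1), TranslData I {β | 0 < β 0} (e1v 0) (e1v l) := fun l =>
    { up := fun β hβ γ => by simp at hβ ⊢; omega
      le := fun β hβ => e1v_le hβ
      deg := by rw [sum_e1v, sum_e1v]
      out := fun β hβ hP γ _ => by
        have hle : β ≤ γ + β - e1v 0 + e1v l := fun x => by
          simp only [Finsupp.add_apply, Finsupp.coe_tsub, Pi.sub_apply, e1v, Finsupp.single_apply]
          simp only [Set.mem_ofPred_eq, not_lt, Nat.le_zero] at hP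
          by_cases hx : x = 0
          · subst hx; omega
          · simp [Ne.symm hx]; omega
        rw [← add_tsub_cancel_of_le hle]; exact add_mem_exps hβ _ }
  have datP : ∀ u : Fin (n + 1) →₀ ℕ, ∑ x, u x = q → TranslData I (Jset q m) (Finsupp.single 1 q) u := fun u hu =>
    { up := fun β ⟨j, hjN, hle⟩ γ => ⟨j, hjN, hle.trans le_add_self⟩
      le := fun β ⟨j, _, hle⟩ => le_trans le_self_add hle
      deg := by rw [hu, ← Finsupp.degree_eq_sum, Finsupp.degree_single]
      out := fun β hβ hP γ hγ => by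
        obtain ⟨i, -, hle⟩ := ((hexp β).1 hβ).resolve_right hP
        obtain ⟨j, hjN, hle'⟩ := hγ
        have hb0 : 0 < β 0 := by have := hle 0; simp [gz, e1v] at this; omega
        refine mem_of_two hexp (x := j) ?_ (Nlt j hjN) (N0 j hjN) ?_
        · simp [Finsupp.single_apply, h1]; omega
        · have := hle' j; simp [hj, e1v] at this ⊢; omega }
  have datE : ∀ i : Fin (n + 1), i ∈ Eset n q m → TranslData I {β | gz i ≤ β} (gz i) (e1v 1 + e1v (Fin.last n)) := by
    intro i hi
    obtain ⟨hin, hq1, hcond⟩ := mem_Eset.1 hi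
    refine translData_gen hG (by rw [sum_gz, ← Finsupp.degree_eq_sum, map_add, Finsupp.degree_single, Finsupp.degree_single]) fun g hg hne => ?_
    obtain ⟨x, hxn, hx⟩ := hdiff g hg _ (Or.inl ⟨i, hin, rfl⟩) hne
    by_cases hx0 : x = 0
    · subst hx0
      exact mem_of_two hexp (x := (1 : Fin (n + 1))) (by simp [hlast, Ne.symm hlast, h1, Ne.symm h1]; omega)
        (by omega) h1 (by simp [hlast1, Ne.symm hlast1])
    · have hxN : x ∈ Nset n m := by
        rw [mem_Nset]
        refine ⟨Nat.pos_of_ne_zero fun e => hx0 (Fin.ext (by simpa using e)), ?_⟩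
        by_contra hxm
        have hxi : x = i := Fin.ext (by omega)
        subst hxi
        rcases hg with ⟨l, hl, rfl⟩ | ⟨j, hjN, rfl⟩
        · simp [gz, e1v, Finsupp.single_apply, Ne.symm hx0] at hx
          split_ifs at hx <;> omega
        · have hjx : j ≠ x := fun e => by rw [e, mem_Nset] at hjN; omega
          have h1x : (1 : Fin (n + 1)) ≠ x := fun e => by rw [← e, h1v] at hxm; omega
          simp [hj, e1v, hjx, Ne.symm hjx, h1x, Ne.symm h1x] at hx
      refine (hexp _).2 (Or.inr ⟨x, hxN, fun y => ?_⟩)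
      simp only [hj, e1v, hq1, Finsupp.add_apply, Finsupp.coe_tsub, Pi.sub_apply, Finsupp.single_apply]
      by_cases hy : x = y
      · subst hy; split_ifs <;> omega
      · simp [hy]; split_ifs <;> omega
  have datQ : ∀ j ∈ Nset n m, ∀ l : Fin (n + 1),
      TranslData I {β | hj q j ≤ β} (hj q j) (Finsupp.single 1 q + e1v l) := by
    intro j hjN l
    refine translData_gen hG (by rw [sum_hj, ← Finsupp.degree_eq_sum, map_add, Finsupp.degree_single, Finsupp.degree_single]) fun g hg hne => ?_
    rcases hg with ⟨i, hi, rfl⟩ | ⟨j', hjN', rfl⟩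
    · exact mem_of_two hexp (x := (1 : Fin (n + 1)))
        (by simp [gz, hj, e1v, N0 j hjN, Ne.symm (N0 j hjN), h1, Ne.symm h1]) (by omega) h1 (by simp; omega)
    · have hjj : j' ≠ j := fun e => hne (e ▸ rfl)
      refine (hexp _).2 (Or.inr ⟨j', hjN', fun y => ?_⟩)
      simp only [hj, e1v, Finsupp.add_apply, Finsupp.coe_tsub, Pi.sub_apply, Finsupp.single_apply]
      split_ifs <;> subst_vars <;> first | omega | exact absurd rfl hjj
  have datA : ∀ i : Fin n, TranslData I {β | gz i.castSucc ≤ β} (gz i.castSucc) (e1v 0 + e1v (Fin.last n)) := fun i =>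
    socle (gz i.castSucc) (e1v 0 + e1v (Fin.last n)) (Or.inl ⟨_, hcast i, rfl⟩)
      (by rw [sum_gz, ← Finsupp.degree_eq_sum, map_add, Finsupp.degree_single, Finsupp.degree_single]) (by simp)
  have datB : ∀ j : ↥(Nset n m), TranslData I {β | hj q j.1 ≤ β} (hj q j.1) (e1v 0 + Finsupp.single (Fin.last n) q) := fun j =>
    socle (hj q j.1) (e1v 0 + Finsupp.single (Fin.last n) q) (Or.inr ⟨_, j.2, rfl⟩)
      (by rw [sum_hj, ← Finsupp.degree_eq_sum, map_add, Finsupp.degree_single, Finsupp.degree_single, add_comm]) (by simp)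
  let v : ι → Tgt I := Sum.elim (fun i => transl hI (datA i)) <|
    Sum.elim (fun l => transl hI (datL l.1)) <| Sum.elim (fun i => transl hI (datE i.1 i.2)) <|
    Sum.elim (fun j => transl hI (datB j)) <|
    Sum.elim (fun w => transl hI (datQ w.1.1 w.1.2 w.2.1)) fun u => transl hI (datP u.1 u.2.2.1)
  -- injectivity of the coordinate labels
  have hinj : ∀ p p', A p = A p' → T p = T p' → p = p' := by
    have T0 : ∀ p, T p 0 = Sum.elim (fun _ => 1) (Sum.elim (fun _ => 0) (Sum.elim (fun _ => 0) (Sum.elim (fun _ => 1)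
        (Sum.elim (fun _ => 0) fun _ => 0)))) p := by
      rintro (i | ⟨l, hl⟩ | i | j | ⟨j, l, hl⟩ | ⟨u, hu0, hu⟩)
      · simp [T, e1v, hlast, Ne.symm hlast]
      · have hl0 : l ≠ 0 := fun e => by rw [e, mem_Lset] at hl; simp at hl
        simp [T, e1v, hs0, Ne.symm hs0, hl0, Ne.symm hl0]
      · simp [T, e1v, hlast, Ne.symm hlast, h1, Ne.symm h1]
      · simp [T, e1v, hlast, Ne.symm hlast]
      · have hl0 : l ≠ 0 := fun e => by rw [e, mem_Hset] at hl; simp at hl
        simp [T, e1v, hl0, Ne.symm hl0, h1, Ne.symm h1]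
      · simp [T, e1v, two0, Ne.symm two0, hu0]
    have gh : ∀ {i j : Fin (n + 1)}, j ∈ Nset n m → gz i ≠ hj q j := fun hjN e => gz_hj hjN e.le
    have hg : ∀ {i j : Fin (n + 1)}, j ∈ Nset n m → hj q j ≠ gz i := fun hjN e => gz_hj hjN e.ge
    rintro (i | ⟨l, hl⟩ | ⟨i, hi⟩ | ⟨j, hjN⟩ | ⟨⟨j, hjN⟩, l, hl⟩ | ⟨u, hu⟩)
      (i' | ⟨l', hl'⟩ | ⟨i', hi'⟩ | ⟨j', hjN'⟩ | ⟨⟨j', hjN'⟩, l', hl'⟩ | ⟨u', hu'⟩) eA eT <;>
      have e0 := congrArg (fun f : Fin (n + 1) →₀ ℕ => f 0) eT <;> simp only [T0, Sum.elim_inl, Sum.elim_inr] at e0 <;>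
      simp only [A, T, Sum.elim_inl, Sum.elim_inr] at eA eT
    all_goals first
      | omega
      | exact absurd eA (gh ‹_›)
      | exact absurd eA (hg ‹_›)
      | exact absurd eA (gh htwoN)
      | exact absurd eA (hg htwoN)
      | skip
    · rw [Fin.castSucc_injective n (gz_inj eA)]
    · exact congrArg (fun x => Sum.inr (Sum.inl x)) (Subtype.ext (Finsupp.single_left_injective one_ne_zero (add_left_cancel eT)))
    · exfalso
      have := congrArg (fun f : Fin (n + 1) →₀ ℕ => f s) eT
      have hsl : s ≠ Fin.last n := fun e => by rw [e] at hs; simp at hs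
      simp [e1v, hs1, Ne.symm hs1, hsl, Ne.symm hsl] at this <;> omega
    · exfalso
      have := congrArg (fun f : Fin (n + 1) →₀ ℕ => f s) eT
      have hsl : s ≠ Fin.last n := fun e => by rw [e] at hs; simp at hs
      simp [e1v, hs1, Ne.symm hs1, hsl, Ne.symm hsl] at this <;> omega
    · exact congrArg (fun x => Sum.inr (Sum.inr (Sum.inl x))) (Subtype.ext (gz_inj eA))
    · exact congrArg (fun x => Sum.inr (Sum.inr (Sum.inr (Sum.inl x))))
        (Subtype.ext (Finsupp.single_left_injective one_ne_zero (add_left_cancel eA)))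
    · obtain rfl := Finsupp.single_left_injective one_ne_zero (add_left_cancel eA)
      obtain rfl := Finsupp.single_left_injective one_ne_zero (add_left_cancel eT)
      rfl
    · exfalso
      have := congrArg (fun f : Fin (n + 1) →₀ ℕ => f two) eT
      have : two ≠ l := fun e => by rw [← e, mem_Hset] at hl; simp [htwodef] at hl; omega
      simp [e1v, Finsupp.single_apply, Ne.symm two1, Ne.symm this] at * <;> omega
    · exfalso
      have := congrArg (fun f : Fin (n + 1) →₀ ℕ => f two) eT
      have : two ≠ l' := fun e => by rw [← e, mem_Hset] at hl'; simp [htwodef] at hl'; omega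
      simp [e1v, Finsupp.single_apply, Ne.symm two1, Ne.symm this] at * <;> omega
    · obtain rfl := add_left_cancel eT
      rfl
  -- values of lifts at the coordinates
  have gz_le_iff : ∀ p p' : ι, A p ≤ A p' → A p = A p' := fun p p' h => anti _ (hAG p) _ (hAG p') h
  have hsoc : ∀ {p p' : ι} (d : TranslData I {β | A p ≤ β} (A p) (T p)),
      cf hI (A p') (T p') (transl hI d) = if p' = p then 1 else 0 := by
    intro p p' d
    rw [cf_transl hI d (hA p') (hT p')]
    by_cases h : p' = p
    · subst h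
      rw [if_pos rfl, if_pos ⟨show A p' ≤ A p' from le_rfl, by rw [tsub_self, zero_add]⟩]
    · rw [if_neg h, if_neg]
      rintro ⟨hle, e⟩
      have e' := gz_le_iff p p' hle
      rw [← e', tsub_self, zero_add] at e
      exact h (hinj p' p e'.symm e.symm)
  have hgsJ : gz s ∉ Jset q m := fun ⟨j, hjN, hle⟩ => hj_gz hjN hle
  have hLL : gz s - e1v 0 = e1v s := by rw [gz, add_tsub_cancel_left]
  have hPP : hj q two - Finsupp.single 1 q = e1v two := by rw [hj, add_tsub_cancel_left]
  have hh0 : hj q two 0 = 0 := by simp [hj, e1v, two0, Ne.symm two0, h1, Ne.symm h1]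
  have hcount : Module.finrank k ↥(hom0 I) = Fintype.card ι := by
    refine finrank_hom0_eq_card hI A T ?_ v ?_ S ?_ ?_
    · intro φ hφ h0
      have gzero : ∀ i : Fin (n + 1), i.val < n → ∀ U, cf hI (gz i) U φ = 0 := by
        intro i hi U
        refine cf_gz_eq_zero hI hexp hs hs0 hφ (fun i hi => ?_) (fun l hl => ?_) ?_ ?_ i hi U
        · simpa [A, T] using h0 (Sum.inl ⟨i.val, hi⟩)
        · by_cases hlL : l ∈ Lset n q m
          · exact h0 (Sum.inr (Sum.inl ⟨l, hlL⟩))
          · refine cf_eq_zero_of_mem hI _ ((hexp _).2 (Or.inr ((hJiff _).2 ?_))) φ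
            rw [mem_Lset] at hlL
            have hlv : 1 ≤ l.val := Nat.pos_of_ne_zero fun e => hl (Fin.ext (by simpa using e))
            obtain ⟨hq1, hmn1, hl1⟩ : q = 1 ∧ m + 1 = n ∧ l.val = 1 := by
              by_contra hh; exact hlL ⟨hlv, hh⟩
            have hl1' : l = 1 := Fin.ext (by rw [h1v]; exact hl1)
            refine Or.inr ⟨by simp [hl1', e1v, hs1, Ne.symm hs1, hq1], s, ?_, hs1, by simp [e1v]⟩
            rw [mem_Nset, hsdef]; simp; omega
        · intro U hU hU0 hUstd hUs i hi
          have hJU := mem_J_of_zero hexp (by simp [hs0, Ne.symm hs0, hU0, e1v]) hUs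
          have hUnJ : U ∉ Jset q m := fun h => hUstd ((hexp _).2 (Or.inr h))
          rw [hJiff] at hJU hUnJ
          push Not at hUnJ
          simp [e1v, Finsupp.single_apply, hs1] at hJU
          rcases hJU with h | ⟨hq1, j, hjN, hj1, hjp⟩
          · omega
          have hjs : j = s := by
            by_contra hne
            simp [Ne.symm hne] at hjp
            have := hUnJ.2 hq1 j hjN hj1
            omega
          rw [hjs, mem_Nset, hsdef] at hjN
          simp only at hjN
          have hq1' : q = 1 := by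
            by_contra hne
            have := Finset.single_le_sum (f := fun y => U y) (fun y _ => Nat.zero_le _) (Finset.mem_univ (1 : Fin (n + 1)))
            rcases Nat.lt_or_ge q 3 with h | h
            · have := hcase (by omega); omega
            · omega
          obtain ⟨l, rfl⟩ := sum_eq_two hU (show 0 < U 1 by omega)
          have hl0 : l ≠ 0 := fun e => by subst e; simp [e1v, h1, Ne.symm h1] at hU0
          have hl1 : l ≠ 1 := fun e => by subst e; simp [e1v] at hUnJ; omega
          have hlN : l ∉ Nset n m := fun h => by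
            have h2 := hUnJ.2 hq1 l h hl1
            simp [e1v, hl1, Ne.symm hl1] at h2
          obtain rfl : l = Fin.last n := by
            rw [mem_Nset] at hlN
            have := l.isLt
            have : 1 ≤ l.val := Nat.pos_of_ne_zero fun e => hl0 (Fin.ext (by simpa using e))
            exact Fin.ext (by simp; omega)
          exact h0 (Sum.inr (Sum.inr (Sum.inl ⟨i, mem_Eset.2 ⟨hi, hq1', Or.inl (by omega)⟩⟩)))
        · intro U hU hU0 hUstd hUs
          have hUnJ : U ∉ Jset q m := fun h => hUstd ((hexp _).2 (Or.inr h))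
          rw [hJiff] at hUnJ
          push Not at hUnJ
          have h1le := Finset.single_le_sum (f := fun y => U y) (fun y _ => Nat.zero_le _) (Finset.mem_univ (1 : Fin (n + 1)))
          simp only [hU] at h1le
          by_cases hU1 : U 1 = 0
          · by_cases hjex : ∃ j ∈ Nset n m, 0 < U j
            · obtain ⟨j, hjN, hjp⟩ := hjex
              have hj1 : j ≠ 1 := fun e => by rw [e] at hjp; omega
              refine Or.inl ⟨j, Nlt j hjN, N0 j hjN, fun e => by rw [e] at hjp; omega,
                hstd0 _ (by simp [N0 j hjN, Ne.symm (N0 j hjN), hU0, e1v]) ?_⟩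
              rw [hJiff]
              simp [e1v, Finsupp.single_apply, hj1, hU1]
              omega
            · push Not at hjex
              refine Or.inl ⟨1, by omega, h1, Ne.symm hs1, hstd0 _ (by simp [h1, Ne.symm h1, hU0, e1v]) ?_⟩
              rw [hJiff]
              rintro (h | ⟨-, j, hjN, hj1, hjp⟩)
              · simp [e1v, hU1] at h; omega
              · have := hjex j hjN
                simp [e1v, Ne.symm hj1, hj1] at hjp
                omega
          · rcases Nat.lt_or_ge 1 q with hq2 | hq2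
            · rcases Nat.lt_or_ge 2 q with hq3 | hq3
              · refine Or.inl ⟨1, by omega, h1, Ne.symm hs1, hstd0 _ (by simp [h1, Ne.symm h1, hU0, e1v]) ?_⟩
                rw [hJiff]
                rintro (h | ⟨hq', j, hjN, hj1, hjp⟩)
                · simp [e1v] at h; omega
                · simp [e1v] at hq'
                  simp [e1v, Ne.symm hj1, hj1] at hjp
                  have hsplit := Finset.add_sum_erase Finset.univ (fun y => U y) (Finset.mem_univ (1 : Fin (n + 1)))
                  have := Finset.single_le_sum (f := fun y => U y) (fun y _ => Nat.zero_le _)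
                    (show j ∈ Finset.univ.erase (1 : Fin (n + 1)) by simp [hj1])
                  simp only [hU] at hsplit
                  omega
              · have hmn2 := hcase (by omega)
                refine Or.inl ⟨⟨m + 1, by omega⟩, by simp; omega, by simp [Fin.ext_iff],
                  fun e => by simp [Fin.ext_iff, hsdef] at e; omega,
                  hstd0 _ (by simp [e1v, Fin.ext_iff, hU0]) ?_⟩
                have ho1 : (⟨m + 1, by omega⟩ : Fin (n + 1)) ≠ 1 := fun e => by
                  have := congrArg Fin.val e; rw [h1v] at this; simp at this; omega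
                rw [hJiff]
                rintro (h | ⟨hq', j, hjN, hj1, hjp⟩)
                · simp [e1v, ho1] at h; omega
                · have hjo : j ≠ (⟨m + 1, by omega⟩ : Fin (n + 1)) := fun e => by rw [e, mem_Nset] at hjN; simp at hjN
                  simp [e1v, ho1, hjo, Ne.symm hjo] at hq' hjp
                  have := hUnJ.2 hq' j hjN hj1
                  omega
            · obtain rfl : q = 1 := by omega
              obtain ⟨l, rfl⟩ := sum_eq_two hU (show 0 < U 1 by omega)
              have hl1 : l ≠ 1 := fun e => by subst e; simp [e1v] at hUnJ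
              have hl0 : l ≠ 0 := fun e => by subst e; simp [e1v, h1, Ne.symm h1] at hU0
              have hlm : m < l.val := by
                by_contra hle
                have hlN : l ∈ Nset n m := mem_Nset.2 ⟨Nat.pos_of_ne_zero fun e => hl0 (Fin.ext (by simpa using e)), by omega⟩
                have := hUnJ.2 (by simp [e1v]) l hlN hl1
                simp [e1v, hl1, Ne.symm hl1] at this
              by_cases h3 : m + 3 ≤ n
              · refine Or.inl ⟨⟨m + 1, by omega⟩, by simp; omega, by simp [Fin.ext_iff],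
                  fun e => by simp [Fin.ext_iff, hsdef] at e; omega,
                  hstd0 _ (by simp [e1v, Fin.ext_iff, h1, hl0, Ne.symm hl0, Ne.symm h1]) ?_⟩
                have ho1 : (⟨m + 1, by omega⟩ : Fin (n + 1)) ≠ 1 := fun e => by
                  have := congrArg Fin.val e; rw [h1v] at this; simp at this; omega
                rw [hJiff]
                rintro (h | ⟨-, j, hjN, hj1, hjp⟩)
                · simp [e1v, ho1, hl1, Ne.symm hl1] at h
                · have hjo : j ≠ (⟨m + 1, by omega⟩ : Fin (n + 1)) := fun e => by rw [e, mem_Nset] at hjN; simp at hjN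
                  have hjl : j ≠ l := fun e => by rw [e, mem_Nset] at hjN; omega
                  simp [e1v, hjo, Ne.symm hjo, hjl, Ne.symm hjl, hj1, Ne.symm hj1] at hjp
              · have hll : l = Fin.last n := by
                  have := l.isLt
                  have hls : l ≠ s := fun e => by rw [e] at hUs; simp [e1v, hs1, Ne.symm hs1] at hUs
                  have : l.val ≠ n - 1 := fun e => hls (Fin.ext e)
                  exact Fin.ext (by simp; omega)
                subst hll
                refine Or.inr (h0 (Sum.inr (Sum.inr (Sum.inl ⟨s, mem_Eset.2 ⟨hs, rfl, ?_⟩⟩))))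
                simp [hsdef]; omega
      refine eq_zero_of_cf hI (G := G) (fun β hβ => ?_) φ ?_
      · obtain ⟨g, hg, hle⟩ := hG β hβ
        rcases hg with ⟨i, hi, rfl⟩ | ⟨j, hjN, rfl⟩
        exacts [⟨_, Or.inl ⟨i, hi, rfl⟩, gz_mem hexp hi, hle⟩, ⟨_, Or.inr ⟨j, hjN, rfl⟩, hj_mem j hjN, hle⟩]
      rintro g (⟨i, hi, rfl⟩ | ⟨j, hjN, rfl⟩) - U hUstd
      · exact gzero i hi U
      by_cases hdeg : ∑ x, U x = ∑ x, hj q j x
      swap
      · exact cf_eq_zero_of_degree hI hdeg hφ
      rw [sum_hj] at hdeg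
      by_cases hU0 : 0 < U 0
      · obtain ⟨t, rfl⟩ := std_of_pos hexp (by omega) hU0 hUstd
        rw [← Finsupp.degree_eq_sum, map_add, Finsupp.degree_single, Finsupp.degree_single] at hdeg
        obtain rfl : t = q := by omega
        exact h0 (Sum.inr (Sum.inr (Sum.inr (Sum.inl ⟨j, hjN⟩))))
      have hU0 : U 0 = 0 := by omega
      have hUnJ : U ∉ Jset q m := fun h => hUstd ((hexp _).2 (Or.inr h))
      rw [hJiff] at hUnJ
      push Not at hUnJ
      rcases Nat.lt_or_ge (U 1) q with hU1 | hU1
      swap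
      · -- `U = x₁^q x_l`
        obtain hUq : U 1 = q := by omega
        have e : U - Finsupp.single 1 q + Finsupp.single 1 q = U := tsub_add_cancel_of_le (Finsupp.single_le_iff.2 (by omega))
        have hd := congrArg Finsupp.degree e
        rw [map_add, Finsupp.degree_single, Finsupp.degree_eq_sum U, hdeg] at hd
        have hd1 : ∑ x, (U - Finsupp.single 1 q : Fin (n + 1) →₀ ℕ) x = 1 := by rw [← Finsupp.degree_eq_sum]; omega
        obtain ⟨l, hl⟩ := exists_pos (hd1.symm ▸ Nat.one_pos)
        have hl1 : l ≠ 1 := fun e => by subst e; simp [hUq] at hl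
        have hl' : 0 < U l := by simp [hl1, Ne.symm hl1] at hl; omega
        have hlH : l ∈ Hset n m := by
          rw [mem_Hset]; by_contra hle
          have hl0 : l ≠ 0 := fun e => by rw [e] at hl'; omega
          have := hUnJ.2 hU1 l (mem_Nset.2 ⟨Nat.pos_of_ne_zero fun e => hl0 (Fin.ext (by simpa using e)), by omega⟩) hl1
          omega
        have eU : U = Finsupp.single 1 q + e1v l := e.symm.trans (by rw [sum_eq_one hd1 hl]; exact add_comm _ _)
        rw [eU]
        exact h0 (Sum.inr (Sum.inr (Sum.inr (Sum.inr (Sum.inl (⟨j, hjN⟩, ⟨l, hlH⟩))))))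
      by_cases hxn : 0 < U (Fin.last n) ∧ ∀ x, x ≠ Fin.last n → U x = 0
      · -- `U = x_n^{q+1}`: multiply by `x₀`
        have eU : U = Finsupp.single (Fin.last n) (q + 1) := Finsupp.ext fun x => by
          by_cases hx : x = Fin.last n
          · subst hx
            rw [Finset.sum_eq_single (Fin.last n) (fun b _ hb => hxn.2 b hb) (fun h => absurd (Finset.mem_univ _) h)] at hdeg
            simpa using hdeg
          · simp [hxn.2 x hx, Ne.symm hx, hx]
        have hU' : e1v 0 + U ∉ exps I := eU ▸ socle_notMem hexp hJmid (by omega) (q + 1)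
        rw [cf_rel hI (hj_mem j hjN) (gz_mem hexp (Nlt j hjN)) (δ := Finsupp.single 1 q) (by simp only [hj, gz]; abel) hU' φ]
        split_ifs with hle
        · exact gzero j (Nlt j hjN) _
        · rfl
      have rel : ∀ o, o ∈ Nset n m → e1v o + U ∉ exps I →
          cf hI (hj q j) U φ = if e1v j ≤ e1v o + U then cf hI (hj q o) (e1v o + U - e1v j) φ else 0 := fun o ho hU =>
        cf_rel hI (hj_mem j hjN) (hj_mem o ho) (by simp only [hj]; abel) hU φ
      have Pco : ∀ w, ∑ x, (e1v two + w : Fin (n + 1) →₀ ℕ) x = q + 1 → w 0 = 0 → e1v two + w ∉ exps I →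
          cf hI (hj q two) (e1v two + w) φ = 0 := fun w hw hw0 hstd => by
        have hws : ∑ x, w x = q := by
          rw [← Finsupp.degree_eq_sum, map_add, Finsupp.degree_single, Finsupp.degree_eq_sum] at hw; omega
        refine h0 (Sum.inr (Sum.inr (Sum.inr (Sum.inr (Sum.inr ⟨w, hw0, hws, fun e => hstd ((hexp _).2 (Or.inr ((hJiff _).2 ?_)))⟩)))))
        subst e
        exact Or.inr ⟨by simp [e1v], two, htwoN, two1, by simp [e1v]⟩
      by_cases hj2 : j = two
      · subst hj2
        by_cases hU2 : 0 < U two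
        · have e : U = e1v two + (U - e1v two) := (add_tsub_cancel_of_le (e1v_le hU2)).symm
          rw [e]
          exact Pco _ (e ▸ hdeg) (by simp [hU0]) (e ▸ hUstd)
        · have htgt : ∀ o, o ≠ two → ¬ e1v two ≤ e1v o + U := fun o ho h => by
            have := h two; simp [e1v, ho, Ne.symm ho] at this; omega
          by_cases hk : ∃ o ∈ Nset n m, o ≠ 1 ∧ 0 < U o
          · obtain ⟨o, hoN, ho1, hop⟩ := hk
            rw [rel o hoN ?_, if_neg (htgt o fun e => hU2 (e ▸ hop))]
            refine hstd0 _ (by simp [e1v, N0 o hoN, Ne.symm (N0 o hoN), hU0]) ?_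
            rw [hJiff]; simp [e1v, Finsupp.single_apply, ho1]; omega
          · push Not at hk
            rw [rel 1 oneN ?_, if_neg (htgt 1 (Ne.symm two1))]
            refine hstd0 _ (by simp [e1v, h1, Ne.symm h1, hU0]) ?_
            rw [hJiff]
            rintro (h | ⟨-, j', hjN', hj1, hjp⟩)
            · simp [e1v] at h; omega
            · have := hk j' hjN' hj1
              simp [e1v, hj1, Ne.symm hj1] at hjp
              omega
      · have hU2std : e1v two + U ∉ exps I := by
          refine hstd0 _ (by simp [e1v, two0, Ne.symm two0, hU0]) ?_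
          rw [hJiff]; simp [e1v, Finsupp.single_apply, two1]; omega
        rw [rel two htwoN hU2std]
        split_ifs with hle
        · have hjU : e1v j ≤ U := e1v_le (by have := hle j; simp [e1v, hj2, Ne.symm hj2] at this; omega)
          rw [add_tsub_assoc_of_le hjU]
          refine Pco _ ?_ (by simp [hU0]) fun h => ?_
          · rw [← add_tsub_assoc_of_le hjU, ← Finsupp.degree_eq_sum]
            have e : e1v two + U - e1v j + e1v j = e1v two + U := tsub_add_cancel_of_le hle
            have := congrArg Finsupp.degree e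
            rw [map_add, map_add, Finsupp.degree_single, Finsupp.degree_single, Finsupp.degree_eq_sum U, hdeg] at this
            omega
          · refine hU2std ?_
            rw [← add_tsub_cancel_of_le (show e1v two + (U - e1v j) ≤ e1v two + U from add_le_add le_rfl tsub_le_self)]
            exact add_mem_exps h _
        · rfl
    · rintro (i | l | i | j | w | u)
      exacts [transl_mem hI (datA i), transl_mem hI (datL l.1), transl_mem hI (datE i.1 i.2),
        transl_mem hI (datB j), transl_mem hI (datQ w.1.1 w.1.2 w.2.1), transl_mem hI (datP u.1 u.2.2.1)]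
    · rintro (i | l | i | j | w | u)
      · exact (hsoc (p := Sum.inl i) (p' := Sum.inl i) (datA i)).trans (if_pos rfl)
      · refine (cf_transl hI (datL l.1) (gz_mem hexp hs) (hT (Sum.inr (Sum.inl l)))).trans (if_pos ⟨?_, ?_⟩)
        · simp [gz, e1v]
        · change gz s - e1v 0 + e1v l.1 = e1v s + e1v l.1
          rw [hLL]
      · exact (hsoc (p := Sum.inr (Sum.inr (Sum.inl i))) (p' := Sum.inr (Sum.inr (Sum.inl i))) (datE i.1 i.2)).trans (if_pos rfl)
      · exact (hsoc (p := Sum.inr (Sum.inr (Sum.inr (Sum.inl j)))) (p' := Sum.inr (Sum.inr (Sum.inr (Sum.inl j)))) (datB j)).trans (if_pos rfl)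
      · exact (hsoc (p := Sum.inr (Sum.inr (Sum.inr (Sum.inr (Sum.inl w))))) (p' := Sum.inr (Sum.inr (Sum.inr (Sum.inr (Sum.inl w))))) (datQ w.1.1 w.1.2 w.2.1)).trans (if_pos rfl)
      · refine (cf_transl hI (datP u.1 u.2.2.1) (hj_mem _ htwoN) (hT (Sum.inr (Sum.inr (Sum.inr (Sum.inr (Sum.inr u))))))).trans (if_pos ⟨hjJ _ htwoN, ?_⟩)
        change hj q two - Finsupp.single 1 q + u.1 = e1v two + u.1
        rw [hPP]
    · intro p p' hne hor
      rcases p with i | l | i | j | w | u
      · exact (hsoc (p := Sum.inl i) (p' := p') (datA i)).trans (if_neg hne)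
      · -- `x_l ∂₀` against the other non-socle coordinates
        have hnS : ¬ S p' := hor.resolve_left (fun h => h)
        rcases p' with i' | l' | i' | j' | w' | u'
        · exact absurd trivial hnS
        · refine (cf_transl hI (datL l.1) (gz_mem hexp hs) (hT (Sum.inr (Sum.inl l')))).trans (if_neg ?_)
          rintro ⟨-, e⟩
          change gz s - e1v 0 + e1v l.1 = e1v s + e1v l'.1 at e
          rw [hLL] at e
          exact hne (congrArg (fun x => Sum.inr (Sum.inl x)) (Subtype.ext (Finsupp.single_left_injective one_ne_zero (add_left_cancel e)).symm))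
        · exact absurd trivial hnS
        · exact absurd trivial hnS
        · exact absurd trivial hnS
        · refine (cf_transl hI (datL l.1) (hj_mem _ htwoN) (hT (Sum.inr (Sum.inr (Sum.inr (Sum.inr (Sum.inr u'))))))).trans (if_neg ?_)
          rintro ⟨h, -⟩
          simp [hh0] at h
      · exact (hsoc (p := Sum.inr (Sum.inr (Sum.inl i))) (p' := p') (datE i.1 i.2)).trans (if_neg hne)
      · exact (hsoc (p := Sum.inr (Sum.inr (Sum.inr (Sum.inl j)))) (p' := p') (datB j)).trans (if_neg hne)
      · exact (hsoc (p := Sum.inr (Sum.inr (Sum.inr (Sum.inr (Sum.inl w))))) (p' := p') (datQ w.1.1 w.1.2 w.2.1)).trans (if_neg hne)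
      · have hnS : ¬ S p' := hor.resolve_left (fun h => h)
        rcases p' with i' | l' | i' | j' | w' | u'
        · exact absurd trivial hnS
        · refine (cf_transl hI (datP u.1 u.2.2.1) (gz_mem hexp hs) (hT (Sum.inr (Sum.inl l')))).trans (if_neg ?_)
          rintro ⟨h, -⟩
          exact hgsJ h
        · exact absurd trivial hnS
        · exact absurd trivial hnS
        · exact absurd trivial hnS
        · refine (cf_transl hI (datP u.1 u.2.2.1) (hj_mem _ htwoN) (hT (Sum.inr (Sum.inr (Sum.inr (Sum.inr (Sum.inr u'))))))).trans (if_neg ?_)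
          rintro ⟨-, e⟩
          change hj q two - Finsupp.single 1 q + u.1 = e1v two + u'.1 at e
          rw [hPP] at e
          exact hne (congrArg (fun x => Sum.inr (Sum.inr (Sum.inr (Sum.inr (Sum.inr x))))) (Subtype.ext (add_left_cancel e).symm))
  have cN : (Nset n m).card = m := by
    conv_rhs => rw [← Finset.card_range m]
    refine Finset.card_bij (fun j _ => j.val - 1) (fun j h => ?_) (fun a ha b hb e => Fin.ext ?_) (fun x hx => ?_)
    · rw [mem_Nset] at h; simp; omega
    · rw [mem_Nset] at ha hb; omega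
    · have := Finset.mem_range.1 hx; exact ⟨⟨x + 1, by omega⟩, mem_Nset.2 ⟨by simp, by simp; omega⟩, by simp⟩
  have cH : (Hset n m).card = n - m := by
    conv_rhs => rw [← Finset.card_range (n - m)]
    refine Finset.card_bij (fun j _ => j.val - (m + 1)) (fun j h => ?_) (fun a ha b hb e => Fin.ext ?_) (fun x hx => ?_)
    · rw [mem_Hset] at h; have := j.isLt; simp; omega
    · rw [mem_Hset] at ha hb; omega
    · have := Finset.mem_range.1 hx; exact ⟨⟨x + (m + 1), by omega⟩, mem_Hset.2 (by simp; omega), by simp⟩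
  have hcP := card_targets (n := n) q (by omega)
  rw [Nat.card_eq_fintype_card] at hcP
  simp only [ι, Fintype.card_sum, Fintype.card_prod, Fintype.card_fin, Fintype.card_coe, cN, cH] at hcount
  omega

end GrothLib.HilbPn
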