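import Groth.Agent.Lib.HilbPn.TwoBlock

/-!
# The two-block ideals as spans
-/

namespace GrothLib.HilbPn

open MvPolynomial W4c1hilbpn

universe u

variable {n : ℕ} {k : Type u} [Field k]

theorem monomial_gz (i : Fin (n + 1)) : (X 0 * X i : MvPolynomial (Fin (n + 1)) k) = monomial (gz i) 1 := by
  rw [gz, X, X, monomial_mul, one_mul]

theorem monomial_hj (q : ℕ) (i : Fin (n + 1)) :
    (X 1 ^ q * X i : MvPolynomial (Fin (n + 1)) k) = monomial (hj q i) 1 := by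
  rw [hj, X_pow_eq_monomial, X, monomial_mul, one_mul]

/-- Count for `x₀(x₀,…,x_{n-1}) + x₁^q(x₁,…,x_m)`. -/
theorem finrank_twoBlock_span {q m : ℕ} (hq : 1 ≤ q) (hm : 2 ≤ m) (hmn : m + 1 ≤ n) (hcase : q = 2 → m + 3 ≤ n) :
    Module.finrank k ↥(hom0 (Ideal.span ({f : MvPolynomial (Fin (n + 1)) k | ∃ i : Fin (n + 1), i.val + 1 ≤ n ∧ f = X 0 * X i} ∪
      {f : MvPolynomial (Fin (n + 1)) k | ∃ i : Fin (n + 1), 1 ≤ i.val ∧ i.val ≤ m ∧ f = X 1 ^ q * X i}))) + 1 =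
      n + (Lset n q m).card + (Eset n q m).card + m + m * (n - m) + (n + q - 1).choose q := by
  classical
  let S : Set (Fin (n + 1) →₀ ℕ) :=
    {g | (∃ i : Fin (n + 1), i.val < n ∧ g = gz i) ∨ ∃ i ∈ Nset n m, g = hj q i}
  have hset : ({f : MvPolynomial (Fin (n + 1)) k | ∃ i : Fin (n + 1), i.val + 1 ≤ n ∧ f = X 0 * X i} ∪
      {f : MvPolynomial (Fin (n + 1)) k | ∃ i : Fin (n + 1), 1 ≤ i.val ∧ i.val ≤ m ∧ f = X 1 ^ q * X i}) =
      (fun g => monomial g (1 : k)) '' S := by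
    ext f
    simp only [Set.mem_union, Set.mem_ofPred_eq, Set.mem_image, S, mem_Nset, monomial_gz, monomial_hj]
    constructor
    · rintro (⟨i, hi, rfl⟩ | ⟨i, h1, h2, rfl⟩)
      exacts [⟨_, Or.inl ⟨i, by omega, rfl⟩, rfl⟩, ⟨_, Or.inr ⟨i, ⟨h1, h2⟩, rfl⟩, rfl⟩]
    · rintro ⟨g, ⟨i, hi, rfl⟩ | ⟨i, ⟨h1, h2⟩, rfl⟩, rfl⟩
      exacts [Or.inl ⟨i, by omega, rfl⟩, Or.inr ⟨i, h1, h2, rfl⟩]
  rw [hset]
  have hexp : ∀ β, β ∈ exps (Ideal.span ((fun g => monomial g (1 : k)) '' S)) ↔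
      (∃ i : Fin (n + 1), i.val < n ∧ gz i ≤ β) ∨ β ∈ Jset q m := by
    intro β
    change monomial β (1 : k) ∈ Ideal.span ((fun g => monomial g (1 : k)) '' S) ↔ _
    rw [mem_ideal_span_monomial_image, support_monomial, if_neg one_ne_zero]
    simp only [Finset.mem_singleton, forall_eq]
    constructor
    · rintro ⟨g, ⟨i, hi, rfl⟩ | ⟨i, hi, rfl⟩, hle⟩
      exacts [Or.inl ⟨i, hi, hle⟩, Or.inr ⟨i, hi, hle⟩]
    · rintro (⟨i, hi, hle⟩ | ⟨i, hi, hle⟩)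
      exacts [⟨_, Or.inl ⟨i, hi, rfl⟩, hle⟩, ⟨_, Or.inr ⟨i, hi, rfl⟩, hle⟩]
  refine finrank_twoBlock (fun p hp β hβ => ?_) hexp hq hm hmn hcase
  rw [mem_ideal_span_monomial_image] at hp ⊢
  rw [support_monomial, if_neg one_ne_zero]
  simp only [Finset.mem_singleton, forall_eq]
  exact hp β hβ

theorem card_Lset_generic {q m : ℕ} (hn : 1 ≤ n) (h : ¬ (q = 1 ∧ m + 1 = n)) : (Lset n q m).card = n := by
  have e : Lset n q m = Finset.univ.erase 0 := by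
    ext l
    rw [mem_Lset, Finset.mem_erase, ne_eq, Fin.ext_iff]
    simp only [Finset.mem_univ, and_true, Fin.coe_ofNat_eq_mod, Nat.zero_mod]
    constructor
    · intro h'; omega
    · intro h'; exact ⟨by omega, fun a => h ⟨a.1, a.2.1⟩⟩
  rw [e, Finset.card_erase_of_mem (Finset.mem_univ _), Finset.card_univ, Fintype.card_fin]
  omega

theorem card_Lset_zero {m : ℕ} (hn : 2 ≤ n) (hmn : m + 1 = n) : (Lset n 1 m).card = n - 1 := by
  have e : Lset n 1 m = Finset.Ici (⟨2, by omega⟩ : Fin (n + 1)) := by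
    ext l
    rw [mem_Lset, Finset.mem_Ici, Fin.le_def]
    constructor
    · rintro ⟨a, b⟩; simp; by_contra hh; exact b ⟨rfl, hmn, by omega⟩
    · intro h; simp at h; exact ⟨by omega, fun ⟨_, _, c⟩ => by omega⟩
  rw [e, Fin.card_Ici]
  simp

end GrothLib.HilbPn
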