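import Groth.Agent.Lib.HilbPn.Sum
import Mathlib.Algebra.MvPolynomial.PDeriv
import Mathlib.RingTheory.MvPolynomial.Ideal

/-!
# Degree-zero homomorphisms for two transversal coordinate planes
-/

namespace GrothLib.HilbPn

open MvPolynomial W4c1hilbpn

universe u

variable {σ : Type} [Fintype σ] [DecidableEq σ] {k : Type u} [Field k] {I : Ideal (MvPolynomial σ k)}
  {A B : Finset σ}

theorem finrank_biSup_of_finite (hI : IsMonomial I) (T : Finset (σ → ℤ))
    (hfin : ∀ α ∈ T, Module.Finite k (tPiece I α)) :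
    Module.Finite k ↥(⨆ α ∈ T, tPiece I α) ∧
      Module.finrank k ↥(⨆ α ∈ T, tPiece I α) = ∑ α ∈ T, Module.finrank k (tPiece I α) := by
  classical
  induction T using Finset.induction_on with
  | empty =>
    have e : (⨆ α ∈ (∅ : Finset (σ → ℤ)), tPiece I α) = ⊥ := by simp
    rw [e]
    exact ⟨inferInstance, by simp⟩
  | insert α T hα ih =>
    obtain ⟨hf, he⟩ := ih fun x hx => hfin x (Finset.mem_insert_of_mem hx)
    haveI := hf
    haveI := hfin α (Finset.mem_insert_self _ _)
    rw [Finset.sum_insert hα, ← he, Finset.iSup_insert]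
    refine ⟨inferInstance, ?_⟩
    have hd : Disjoint (tPiece I α) (⨆ x ∈ T, tPiece I x) :=
      (iSupIndep_tPiece hI α).mono_right
        (iSup₂_le fun x hx => le_iSup₂ (f := fun j (_ : j ≠ α) => tPiece I j) x fun e => hα (e ▸ hx))
    have := Submodule.finrank_sup_add_finrank_inf_eq (tPiece I α) (⨆ x ∈ T, tPiece I x)
    rw [hd.eq_bot, finrank_bot, add_zero] at this
    exact this

/-- The multidegree of `x_l ∂/∂x_i`. -/
def dir (l i : σ) : σ → ℤ := Pi.single l 1 - Pi.single i 1

theorem dir_inj {l i l' i' : σ} (h : l ≠ i) (e : dir l i = dir l' i') : l = l' ∧ i = i' := by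
  have h1 := congrFun e l
  have h2 := congrFun e i
  simp [dir, Pi.single_apply, h, Ne.symm h] at h1 h2
  constructor
  · by_contra hne
    simp [hne] at h1
    split_ifs at h1 <;> omega
  · by_contra hne
    simp [hne] at h2
    split_ifs at h2 <;> omega

variable (hexp : ∀ β, β ∈ exps I ↔ (∃ a ∈ A, 0 < β a) ∧ (∃ b ∈ B, 0 < β b))
  (hI : IsMonomial I) (hAB : Disjoint A B) (hA : 2 ≤ A.card) (hB : 2 ≤ B.card)

include hexp in
theorem gen_mem {a b : σ} (ha : a ∈ A) (hb : b ∈ B) :
    monomial (Finsupp.single a 1 + Finsupp.single b 1) (1 : k) ∈ I :=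
  (hexp _).2 ⟨⟨a, ha, by simp⟩, ⟨b, hb, by simp⟩⟩

include hexp hI hAB in
theorem eq_zero_of_gens (φ : Tgt I)
    (h : ∀ a (ha : a ∈ A) b (hb : b ∈ B), φ ⟨_, gen_mem hexp ha hb⟩ = 0) : φ = 0 := by
  refine tgt_ext hI fun β hβ => ?_
  rw [LinearMap.zero_apply]
  obtain ⟨⟨a, ha, ha'⟩, b, hb, hb'⟩ := (hexp β).1 hβ
  have hab : a ≠ b := fun e => Finset.disjoint_left.1 hAB ha (e ▸ hb)
  have hle : Finsupp.single a 1 + Finsupp.single b 1 ≤ β := fun x => by
    simp only [Finsupp.add_apply, Finsupp.single_apply]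
    split_ifs <;> subst_vars <;> first | omega | exact absurd rfl hab
  have e := tsub_add_cancel_of_le hle
  have h' : monomial (β - (Finsupp.single a 1 + Finsupp.single b 1) + (Finsupp.single a 1 + Finsupp.single b 1)) (1 : k) ∈ I :=
    e.symm ▸ hβ
  rw [show (⟨_, hβ⟩ : I) = ⟨_, h'⟩ from Subtype.ext (congrArg (fun x => monomial x (1 : k)) e.symm),
    tgt_monomial_add φ (gen_mem hexp ha hb) _ h', h a ha b hb, smul_zero]

theorem std_of_no (hexp : ∀ β, β ∈ exps I ↔ (∃ a ∈ A, 0 < β a) ∧ (∃ b ∈ B, 0 < β b)) {T : σ →₀ ℕ}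
    (h : (∀ a ∈ A, T a = 0) ∨ (∀ b ∈ B, T b = 0)) : T ∉ exps I := by
  rw [hexp]
  rintro ⟨⟨a, ha, ha'⟩, b, hb, hb'⟩
  rcases h with h | h
  · have := h a ha; omega
  · have := h b hb; omega

theorem eq_zero_of_smul_eq_zero {c : k} {s : σ} {T : σ →₀ ℕ} (hstd : Finsupp.single s 1 + T ∉ exps I)
    (h : monomial (Finsupp.single s 1) (1 : k) • c • Ideal.Quotient.mk I (monomial T (1 : k)) = 0) : c = 0 := by
  rw [smul_comm, show monomial (Finsupp.single s 1) (1 : k) • Ideal.Quotient.mk I (monomial T (1 : k)) =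
    Ideal.Quotient.mk I (monomial (Finsupp.single s 1) 1 * monomial T 1) from rfl, ← monomial_add_eq] at h
  exact (smul_eq_zero.1 h).resolve_right fun h' => hstd (mk_monomial_eq_zero_iff.1 h')

include hexp hI hAB hA hB in
/-- Classification of nonzero degree-zero pieces. -/
theorem exists_dir {α : σ → ℤ} (hα : ∑ x, α x = 0) (hne : tPiece I α ≠ ⊥) :
    ∃ i l, ((i ∈ A ∧ l ∉ A) ∨ (i ∈ B ∧ l ∉ B)) ∧ α = dir l i := by
  by_contra hno
  push Not at hno
  refine hne ((Submodule.eq_bot_iff _).2 fun φ hφ => eq_zero_of_gens hexp hI hAB φ fun a ha b hb => ?_)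
  have hab : a ≠ b := fun e => Finset.disjoint_left.1 hAB ha (e ▸ hb)
  set g := Finsupp.single a 1 + Finsupp.single b 1 with hg
  have hgI : monomial g (1 : k) ∈ I := gen_mem hexp ha hb
  by_cases hn : ∀ x, 0 ≤ (g x : ℤ) + α x
  swap
  · push Not at hn; exact (hφ g hgI).2 hn
  obtain ⟨c, hc⟩ := Submodule.mem_span_singleton.1 ((hφ g hgI).1 hn)
  set T := shift g α with hT
  have hTx : ∀ x, (T x : ℤ) = g x + α x := fun x => shift_apply hn x
  change φ ⟨monomial g 1, hgI⟩ = 0
  rw [← hc]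
  by_cases hstd : T ∈ exps I
  · rw [mk_monomial_eq_zero_iff.2 hstd, smul_zero]
  suffices c = 0 by rw [this, zero_smul]
  have hdeg : T.degree = 2 := by
    have : ((∑ x, T x : ℕ) : ℤ) = 2 := by
      push_cast
      simp only [hTx, Finset.sum_add_distrib, hα, add_zero]
      rw [← Nat.cast_sum, ← Finsupp.degree_eq_sum, hg, map_add, Finsupp.degree_single, Finsupp.degree_single]
      rfl
    rw [Finsupp.degree_eq_sum]; omega
  -- either T avoids A or it avoids B
  have hside : (∀ x ∈ A, T x = 0) ∨ (∀ x ∈ B, T x = 0) := by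
    by_contra h
    push Not at h
    obtain ⟨⟨x, hx, hx'⟩, y, hy, hy'⟩ := h
    exact hstd ((hexp T).2 ⟨⟨x, hx, Nat.pos_of_ne_zero hx'⟩, y, hy, Nat.pos_of_ne_zero hy'⟩)
  -- T contains neither of the two variables of the generator
  have key : ∀ s, 0 < T s → ∀ o, g = Finsupp.single s 1 + Finsupp.single o 1 → ∃ l, T = Finsupp.single s 1 + Finsupp.single l 1 ∧ α = dir l o := by
    intro s hs o hgo
    have hle : Finsupp.single s 1 ≤ T := Finsupp.single_le_iff.2 hs
    have hd : (T - Finsupp.single s 1).degree = 1 := by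
      have := congrArg Finsupp.degree (tsub_add_cancel_of_le hle)
      rw [map_add, Finsupp.degree_single, hdeg] at this
      omega
    obtain ⟨l, hl⟩ : ∃ l, T - Finsupp.single s 1 = Finsupp.single l 1 := by
      obtain ⟨l, hl⟩ : ∃ l, (T - Finsupp.single s 1 : σ →₀ ℕ) l ≠ 0 := by
        by_contra h; push Not at h
        rw [Finsupp.degree_eq_sum, Finset.sum_eq_zero fun x _ => h x] at hd
        omega
      refine ⟨l, ?_⟩
      have hle' : Finsupp.single l 1 ≤ T - Finsupp.single s 1 := Finsupp.single_le_iff.2 (Nat.pos_of_ne_zero hl)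
      have := congrArg Finsupp.degree (tsub_add_cancel_of_le hle')
      rw [map_add, Finsupp.degree_single, hd] at this
      have h0 : T - Finsupp.single s 1 - Finsupp.single l 1 = 0 := (Finsupp.degree_eq_zero_iff _).1 (by omega)
      rw [← tsub_add_cancel_of_le hle', h0, zero_add]
    have hTe : T = Finsupp.single s 1 + Finsupp.single l 1 := by
      rw [← hl, add_tsub_cancel_of_le hle]
    refine ⟨l, hTe, funext fun x => ?_⟩
    have := hTx x
    rw [hTe, hgo] at this
    simp only [Finsupp.add_apply, Finsupp.single_apply, eq_comm, Nat.cast_add, Nat.cast_ite, Nat.cast_one, Nat.cast_zero] at this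
    simp only [dir, Pi.sub_apply, Pi.single_apply, eq_comm]
    omega
  have hTa : T a = 0 := by
    by_contra h
    obtain ⟨l, hTe, hl⟩ := key a (Nat.pos_of_ne_zero h) b hg
    refine hno b l (Or.inr ⟨hb, fun hlB => ?_⟩) hl
    rcases hside with h' | h'
    · exact h (h' a ha)
    · have := h' l hlB; rw [hTe] at this; simp at this
  have hTb : T b = 0 := by
    by_contra h
    obtain ⟨l, hTe, hl⟩ := key b (Nat.pos_of_ne_zero h) a (hg.trans (add_comm _ _))
    refine hno a l (Or.inl ⟨ha, fun hlA => ?_⟩) hl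
    rcases hside with h' | h'
    · have := h' l hlA; rw [hTe] at this; simp at this
    · exact h (h' b hb)
  have hneg : ∀ s t g' (hg' : monomial g' (1 : k) ∈ I), T s = 0 → g s = 1 → g' s = 0 →
      Finsupp.single t 1 + g = Finsupp.single s 1 + g' →
      monomial (Finsupp.single t 1) (1 : k) • c • Ideal.Quotient.mk I (monomial T (1 : k)) = 0 := by
    intro s t g' hg' hTs hgs hg's e
    have h1 : monomial (Finsupp.single t 1 + g) (1 : k) ∈ I := by
      rw [monomial_add_eq]; exact Ideal.mul_mem_left _ _ hgI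
    have h2 : monomial (Finsupp.single s 1 + g') (1 : k) ∈ I := e ▸ h1
    rw [hc, ← tgt_monomial_add φ hgI _ h1,
      show (⟨_, h1⟩ : I) = ⟨_, h2⟩ from Subtype.ext (congrArg (fun x => monomial x (1 : k)) e),
      tgt_monomial_add φ hg' _ h2, (hφ g' hg').2 ⟨s, by have := hTx s; omega⟩, smul_zero]
  rcases hside with h | h
  · obtain ⟨b', hb', hne'⟩ := Finset.exists_mem_ne (by omega) b (s := B)
    refine eq_zero_of_smul_eq_zero (s := b') (T := T) ?_ (hneg b b' (Finsupp.single a 1 + Finsupp.single b' 1)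
      (gen_mem hexp ha hb') hTb (by simp [hg, hab]) (by simp [hab, Ne.symm hne', hne']) (by rw [hg]; abel))
    refine std_of_no hexp (Or.inl fun x hx => ?_)
    have hxb : x ≠ b' := fun e => Finset.disjoint_left.1 hAB hx (e ▸ hb')
    simp [h x hx, hxb]
  · obtain ⟨a', ha', hne'⟩ := Finset.exists_mem_ne (by omega) a (s := A)
    refine eq_zero_of_smul_eq_zero (s := a') (T := T) ?_ (hneg a a' (Finsupp.single a' 1 + Finsupp.single b 1)
      (gen_mem hexp ha' hb) hTa (by simp [hg, hab]) (by simp [hab, Ne.symm hab, Ne.symm hne', hne']) (by rw [hg]; abel))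
    refine std_of_no hexp (Or.inr fun x hx => ?_)
    have hxa : x ≠ a' := fun e => Finset.disjoint_left.1 hAB (e ▸ ha') hx
    simp [h x hx, hxa]

include hexp hI hAB hB in
/-- Each such piece is a line. -/
theorem finrank_dir {i l : σ} (hi : i ∈ A) (hl : l ∉ A) :
    Module.Finite k (tPiece I (dir l i)) ∧ Module.finrank k (tPiece I (dir l i)) = 1 := by
  classical
  have hli : l ≠ i := fun e => hl (e ▸ hi)
  obtain ⟨b₀, hb₀⟩ : B.Nonempty := Finset.card_pos.1 (by omega)
  have hne : ∀ b ∈ B, i ≠ b := fun b hb e => Finset.disjoint_left.1 hAB hi (e ▸ hb)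
  have hnn : ∀ b, b ∈ B → ∀ x, 0 ≤ ((Finsupp.single i 1 + Finsupp.single b 1 : σ →₀ ℕ) x : ℤ) + dir l i x := fun b hb x => by
    have := hne b hb
    simp only [dir, Finsupp.add_apply, Finsupp.single_apply, Pi.sub_apply, Pi.single_apply, eq_comm]
    split_ifs <;> omega
  have hsh : ∀ b, b ∈ B → shift (Finsupp.single i 1 + Finsupp.single b 1) (dir l i) = Finsupp.single l 1 + Finsupp.single b 1 := fun b hb => by
    ext x
    have := shift_apply (hnn b hb) x
    simp only [dir, Finsupp.add_apply, Finsupp.single_apply, Pi.sub_apply, Pi.single_apply, eq_comm,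
      Nat.cast_add, Nat.cast_ite, Nat.cast_one, Nat.cast_zero] at this ⊢
    split_ifs at this ⊢ <;> omega
  have hstd0 : Finsupp.single l 1 + Finsupp.single b₀ 1 ∉ exps I := std_of_no hexp (Or.inl fun x hx => by
    have h1 : x ≠ l := fun e => hl (e ▸ hx)
    have h2 : x ≠ b₀ := fun e => Finset.disjoint_left.1 hAB hx (e ▸ hb₀)
    simp [h1, h2])
  let f : tPiece I (dir l i) →ₗ[k] k :=
    { toFun := fun φ => coefAt hI (Finsupp.single l 1 + Finsupp.single b₀ 1) (φ.1 ⟨_, gen_mem hexp hi hb₀⟩)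
      map_add' := fun φ ψ => by rw [← map_add]; rfl
      map_smul' := fun t φ => by rw [RingHom.id_apply, ← map_smul]; rfl }
  have hinj : Function.Injective f := by
    suffices H : ∀ φ : tPiece I (dir l i), f φ = 0 → φ.1 = 0 by
      intro φ ψ h
      refine Subtype.ext (sub_eq_zero.1 (H ⟨φ.1 - ψ.1, Submodule.sub_mem _ φ.2 ψ.2⟩ ?_))
      change coefAt hI _ ((φ.1 - ψ.1) _) = 0
      rw [LinearMap.sub_apply, map_sub, sub_eq_zero]
      exact h
    intro φ h0
    refine eq_zero_of_gens hexp hI hAB φ.1 fun a ha b hb => ?_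
    by_cases hai : a = i
    swap
    · refine (φ.2 _ (gen_mem hexp ha hb)).2 ⟨i, ?_⟩
      simp [dir, hai, Ne.symm hai, hli, Ne.symm hli, (hne b hb), Ne.symm (hne b hb)]
    subst hai
    have val : ∀ b (hb : b ∈ B), ∃ t : k, φ.1 ⟨_, gen_mem hexp ha hb⟩ =
        t • Ideal.Quotient.mk I (monomial (Finsupp.single l 1 + Finsupp.single b 1) (1 : k)) := fun b hb => by
      obtain ⟨t, ht⟩ := Submodule.mem_span_singleton.1 ((φ.2 _ (gen_mem hexp ha hb)).1 (hnn b hb))
      exact ⟨t, by rw [← ht, hsh b hb]⟩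
    obtain ⟨t, ht⟩ := val b hb
    obtain ⟨t₀, ht₀⟩ := val b₀ hb₀
    have ht0 : t₀ = 0 := by
      change coefAt hI _ (φ.1 ⟨_, gen_mem hexp ha hb₀⟩) = 0 at h0
      rwa [ht₀, coefAt_smul_mk_monomial hI hstd0] at h0
    rw [ht0, zero_smul] at ht₀
    have h1 : monomial (Finsupp.single b₀ 1 + (Finsupp.single a 1 + Finsupp.single b 1)) (1 : k) ∈ I := by
      rw [monomial_add_eq]; exact Ideal.mul_mem_left _ _ (gen_mem hexp ha hb)
    have e : Finsupp.single b₀ 1 + (Finsupp.single a 1 + Finsupp.single b 1) =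
        (Finsupp.single b 1 + (Finsupp.single a 1 + Finsupp.single b₀ 1) : σ →₀ ℕ) := by abel
    have h2 : monomial (Finsupp.single b 1 + (Finsupp.single a 1 + Finsupp.single b₀ 1)) (1 : k) ∈ I := e ▸ h1
    have h3 : φ.1 ⟨_, h1⟩ = φ.1 ⟨_, h2⟩ := congrArg φ.1 (Subtype.ext (congrArg (fun x => monomial x (1 : k)) e))
    rw [tgt_monomial_add φ.1 (gen_mem hexp ha hb) _ h1, tgt_monomial_add φ.1 (gen_mem hexp ha hb₀) _ h2, ht, ht₀,
      smul_zero] at h3
    have : t = 0 := eq_zero_of_smul_eq_zero (std_of_no hexp (Or.inl fun x hx => by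
      have h1 : x ≠ l := fun e => hl (e ▸ hx)
      have h2 : x ≠ b₀ := fun e => Finset.disjoint_left.1 hAB hx (e ▸ hb₀)
      have h4 : x ≠ b := fun e => Finset.disjoint_left.1 hAB hx (e ▸ hb)
      simp [h1, h2, h4])) h3
    rw [ht, this, zero_smul]
  haveI : Module.Finite k (tPiece I (dir l i)) := Module.Finite.of_injective f hinj
  refine ⟨inferInstance, le_antisymm ((LinearMap.finrank_le_finrank_of_injective hinj).trans (Module.finrank_self k).le) ?_⟩
  -- the derivation `x_l ∂/∂x_i`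
  have hX : ∀ p ∈ I, ∀ q : MvPolynomial σ k, Ideal.Quotient.mk I (q * p) = 0 := fun p hp q =>
    Ideal.Quotient.eq_zero_iff_mem.2 (Ideal.mul_mem_left _ _ hp)
  let D : Tgt I :=
    { toFun := fun p => Ideal.Quotient.mk I (X l * pderiv i (p : MvPolynomial σ k))
      map_add' := fun p q => by simp [mul_add]
      map_smul' := fun r p => by
        change Ideal.Quotient.mk I (X l * pderiv i (r * (p : MvPolynomial σ k))) =
          Ideal.Quotient.mk I (r * (X l * pderiv i (p : MvPolynomial σ k)))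
        rw [pderiv_mul, mul_add, map_add, show X l * (pderiv i r * (p : MvPolynomial σ k)) =
          (X l * pderiv i r) * (p : MvPolynomial σ k) by ring, hX _ p.2, zero_add, mul_left_comm] }
  have hD : D ∈ tPiece I (dir l i) := by
    intro β hβ
    change (_ → Ideal.Quotient.mk I (X l * pderiv i (monomial β 1)) ∈ _) ∧
      (_ → Ideal.Quotient.mk I (X l * pderiv i (monomial β 1)) = 0)
    rw [pderiv_monomial, one_mul, X, monomial_mul, one_mul]
    refine ⟨fun h => ?_, fun ⟨x, hx⟩ => ?_⟩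
    · by_cases h0 : β i = 0
      · simp [h0]
      · have e : Finsupp.single l 1 + (β - Finsupp.single i 1) = shift β (dir l i) := Finsupp.ext fun x => by
          have := shift_apply h x
          simp only [dir, Finsupp.add_apply, Finsupp.coe_tsub, Pi.sub_apply, Finsupp.single_apply, Pi.single_apply, eq_comm] at this ⊢
          split_ifs at this ⊢ <;> subst_vars <;> omega
        rw [e, show monomial (shift β (dir l i)) (β i : k) = (β i : k) • monomial (shift β (dir l i)) (1 : k) by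
          rw [smul_monomial, smul_eq_mul, mul_one]]
        exact Submodule.mem_span_singleton.2 ⟨_, rfl⟩
    · simp only [dir, Pi.sub_apply, Pi.single_apply] at hx
      have h0 : β i = 0 := by split_ifs at hx <;> subst_vars <;> omega
      simp [h0]
  refine Nat.succ_le_of_lt (Module.finrank_pos_iff_exists_ne_zero.2 ⟨(⟨D, hD⟩ : tPiece I (dir l i)), fun h => ?_⟩)
  have := LinearMap.congr_fun (congrArg Subtype.val h) ⟨_, gen_mem hexp hi hb₀⟩
  change Ideal.Quotient.mk I (X l * pderiv i (monomial (Finsupp.single i 1 + Finsupp.single b₀ 1) 1)) = 0 at this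
  rw [pderiv_monomial, one_mul, X, monomial_mul, one_mul, add_tsub_cancel_left] at this
  simp [hne b₀ hb₀] at this
  exact hstd0 (mk_monomial_eq_zero_iff.1 this)

include hexp hI hAB hA hB in
/-- The count of degree-zero homomorphisms. -/
theorem finrank_hom0 :
    Module.finrank k ↥(⨆ α : {α : σ → ℤ // ∑ x, α x = 0}, tPiece I α.1) =
      A.card * (Fintype.card σ - A.card) + B.card * (Fintype.card σ - B.card) := by
  classical
  have hexp' : ∀ β, β ∈ exps I ↔ (∃ b ∈ B, 0 < β b) ∧ (∃ a ∈ A, 0 < β a) := fun β => (hexp β).trans and_comm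
  let T₁ := (A ×ˢ Aᶜ).image fun v => dir v.2 v.1
  let T₂ := (B ×ˢ Bᶜ).image fun v => dir v.2 v.1
  have hmem : ∀ α ∈ T₁ ∪ T₂, ∑ x, α x = 0 ∧ Module.Finite k (tPiece I α) ∧ Module.finrank k (tPiece I α) = 1 := by
    intro α h
    rcases Finset.mem_union.1 h with h | h <;> obtain ⟨v, hv, rfl⟩ := Finset.mem_image.1 h <;>
      simp only [Finset.mem_product, Finset.mem_compl] at hv <;> refine ⟨by simp [dir], ?_⟩
    · exact finrank_dir hexp hI hAB hB hv.1 hv.2
    · exact finrank_dir hexp' hI hAB.symm hA hv.1 hv.2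
  have e : (⨆ α : {α : σ → ℤ // ∑ x, α x = 0}, tPiece I α.1) = ⨆ α ∈ T₁ ∪ T₂, tPiece I α := by
    refine le_antisymm (iSup_le fun α => ?_) (iSup₂_le fun α h => le_iSup_of_le ⟨α, (hmem α h).1⟩ le_rfl)
    by_cases hb : tPiece I α.1 = ⊥
    · rw [hb]; exact bot_le
    obtain ⟨i, l, hil, hαe⟩ := exists_dir hexp hI hAB hA hB α.2 hb
    refine le_iSup₂ (f := fun α (_ : α ∈ T₁ ∪ T₂) => tPiece I α) α.1 ?_
    rw [hαe]
    rcases hil with ⟨h1, h2⟩ | ⟨h1, h2⟩
    · exact Finset.mem_union_left _ (Finset.mem_image.2 ⟨(i, l), by simp [h1, h2], rfl⟩)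
    · exact Finset.mem_union_right _ (Finset.mem_image.2 ⟨(i, l), by simp [h1, h2], rfl⟩)
  have inj : ∀ S : Finset σ, Set.InjOn (fun v : σ × σ => dir v.2 v.1) ↑(S ×ˢ Sᶜ) := fun S v hv w _ e => by
    simp only [Finset.coe_product, Set.mem_prod, Finset.mem_coe, Finset.mem_compl] at hv
    obtain ⟨h1, h2⟩ := dir_inj (fun h => hv.2 (by rw [h]; exact hv.1)) e
    exact Prod.ext h2 h1
  have hdisj : Disjoint T₁ T₂ := Finset.disjoint_left.2 fun α h1 h2 => by
    obtain ⟨v, hv, rfl⟩ := Finset.mem_image.1 h1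
    obtain ⟨w, hw, e⟩ := Finset.mem_image.1 h2
    simp only [Finset.mem_product, Finset.mem_compl] at hv hw
    obtain ⟨-, h⟩ := dir_inj (fun h => hw.2 (by rw [h]; exact hw.1)) e
    exact Finset.disjoint_left.1 hAB hv.1 (h ▸ hw.1)
  rw [e, (finrank_biSup_of_finite hI _ fun α h => (hmem α h).2.1).2, Finset.sum_congr rfl fun α h => (hmem α h).2.2,
    Finset.sum_const, smul_eq_mul, mul_one, Finset.card_union_of_disjoint hdisj, Finset.card_image_of_injOn (inj A),
    Finset.card_image_of_injOn (inj B), Finset.card_product, Finset.card_product, Finset.card_compl, Finset.card_compl]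

end GrothLib.HilbPn
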