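import Groth.Agent.Lib.HilbPn.PowThree

/-!
# Monomial ideals containing a small power of a variable
-/

namespace GrothLib.HilbPn

open MvPolynomial W4c1hilbpn

universe u

variable {k : Type u} [Field k] {I : Ideal (MvPolynomial (Fin 3) k)}

local notation "π₀" => Equiv.refl (Fin 3)

/-- The monomial `x^a y^c z^n`. -/
noncomputable abbrev mon (a c n : ℕ) : MvPolynomial (Fin 3) k := monomial (expo π₀ a c n) 1

theorem mon_mul (a c n a' c' n' : ℕ) :
    (mon a c n : MvPolynomial (Fin 3) k) * mon a' c' n' = mon (a + a') (c + c') (n + n') := by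
  rw [monomial_mul, one_mul, expo_add]

variable (I) in
/-- The syzygies of the generators of a slice, applied to `S/I`. -/
noncomputable def slMap (N : ℕ) (L : ℕ → ℕ) :
    (Fin (N + 1) → MvPolynomial (Fin 3) k ⧸ I) →ₗ[MvPolynomial (Fin 3) k] (Fin N → MvPolynomial (Fin 3) k ⧸ I) :=
  LinearMap.pi fun a => (mon 0 1 0 : MvPolynomial (Fin 3) k) • LinearMap.proj a.castSucc -
    (mon 0 0 (L a.val - L (a.val + 1)) : MvPolynomial (Fin 3) k) • LinearMap.proj a.succ

theorem slMap_apply (N : ℕ) (L : ℕ → ℕ) (v : Fin (N + 1) → MvPolynomial (Fin 3) k ⧸ I) (a : Fin N) :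
    slMap I N L v a = (mon 0 1 0 : MvPolynomial (Fin 3) k) • v a.castSucc -
      (mon 0 0 (L a.val - L (a.val + 1)) : MvPolynomial (Fin 3) k) • v a.succ := rfl

variable [Module.Finite k (MvPolynomial (Fin 3) k ⧸ I)]

theorem finrank_ker_slMap_le {N p : ℕ} {L : ℕ → ℕ} (hL : ∀ a, L (a + 1) ≤ L a) (hN : L N = 0)
    (hx : expo π₀ p 0 0 ∈ exps I) :
    Module.finrank k ↥((LinearMap.ker (slMap I N L)).restrictScalars k) ≤
      Module.finrank k (MvPolynomial (Fin 3) k ⧸ I) + p * ∑ a ∈ Finset.range N, L a := by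
  classical
  set Φ := (slMap I N L).restrictScalars k with hΦ
  set d := Module.finrank k (MvPolynomial (Fin 3) k ⧸ I) with hd
  change Module.finrank k (LinearMap.ker Φ) ≤ _
  have e1 := Φ.finrank_range_add_finrank_ker
  have e2 := Submodule.finrank_quotient_add_finrank (LinearMap.range Φ)
  simp only [Module.finrank_pi_fintype, Finset.sum_const, Finset.card_univ, Fintype.card_fin, smul_eq_mul,
    ← hd, Nat.succ_mul] at e1 e2
  suffices hC : Module.finrank k ((Fin N → MvPolynomial (Fin 3) k ⧸ I) ⧸ LinearMap.range Φ) ≤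
      p * ∑ a ∈ Finset.range N, L a by omega
  -- the cokernel of the syzygy map is spanned by few monomials
  let R := LinearMap.range (slMap I N L)
  let e : ℕ → (Fin N → MvPolynomial (Fin 3) k ⧸ I) ⧸ R := fun a =>
    if h : a < N then Submodule.Quotient.mk (Pi.single ⟨a, h⟩ 1) else 0
  have hrel : ∀ b, b ≤ N → (mon 0 1 0 : MvPolynomial (Fin 3) k) • e b -
      (if b = 0 then 0 else (mon 0 0 (L (b - 1) - L b) : MvPolynomial (Fin 3) k) • e (b - 1)) = 0 := by
    intro b hb
    have h0 : (Submodule.Quotient.mk (slMap I N L (Pi.single ⟨b, Nat.lt_succ_of_le hb⟩ 1)) :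
        (Fin N → MvPolynomial (Fin 3) k ⧸ I) ⧸ R) = 0 := (Submodule.Quotient.mk_eq_zero R).2 ⟨_, rfl⟩
    refine Eq.trans ?_ h0
    let E : ℕ → (Fin N → MvPolynomial (Fin 3) k ⧸ I) := fun a =>
      if h : a < N then Pi.single ⟨a, h⟩ 1 else 0
    have hv : slMap I N L (Pi.single ⟨b, Nat.lt_succ_of_le hb⟩ 1) =
        (mon 0 1 0 : MvPolynomial (Fin 3) k) • E b -
          (if b = 0 then 0 else (mon 0 0 (L (b - 1) - L b) : MvPolynomial (Fin 3) k) • E (b - 1)) := by
      funext a
      rw [slMap_apply]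
      simp only [E]
      simp only [Pi.sub_apply, Pi.smul_apply, Pi.single_apply, Fin.ext_iff, Fin.val_castSucc, Fin.val_succ]
      have := a.isLt
      congr 1
      · split_ifs <;> simp_all [Pi.single_apply, Fin.ext_iff] <;> omega
      · split_ifs with h1 h2 h3 <;> simp_all [Pi.single_apply, Fin.ext_iff] <;> (try first | omega | rw [if_pos (by omega), show b - 1 = a.val by omega])
    rw [hv]
    simp only [e, E, apply_dite Submodule.Quotient.mk, Submodule.Quotient.mk_sub, Submodule.Quotient.mk_smul,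
      Submodule.Quotient.mk_zero]
    split_ifs <;> simp
  have hz : ∀ a, (mon 0 0 (L a) : MvPolynomial (Fin 3) k) • e a = 0 := by
    suffices H : ∀ t a, N ≤ a + t → (mon 0 0 (L a) : MvPolynomial (Fin 3) k) • e a = 0 from fun a => H N a (by omega)
    intro t
    induction t with
    | zero => intro a ha; simp [e, dif_neg (show ¬ a < N by omega)]
    | succ t ih =>
      intro a ha
      rcases Nat.lt_or_ge a N with h | h
      · have h1 := hrel (a + 1) h
        rw [if_neg (Nat.succ_ne_zero a), Nat.add_sub_cancel, sub_eq_zero] at h1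
        have e' : L a = L (a + 1) + (L a - L (a + 1)) := (Nat.add_sub_cancel' (hL a)).symm
        rw [e', show (mon 0 0 (L (a + 1) + (L a - L (a + 1))) : MvPolynomial (Fin 3) k) =
            mon 0 0 (L (a + 1)) * mon 0 0 (L a - L (a + 1)) by rw [mon_mul],
          mul_smul, ← h1, smul_comm, ih (a + 1) (by omega), smul_zero]
      · simp [e, dif_neg (show ¬ a < N by omega)]
  let T := Finset.range p ×ˢ (Finset.range N).sigma fun a => Finset.range (L a)
  let W : Submodule k ((Fin N → MvPolynomial (Fin 3) k ⧸ I) ⧸ R) :=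
    Submodule.span k ↑(T.image fun t => (mon t.1 0 t.2.2 : MvPolynomial (Fin 3) k) • e t.2.1)
  have hW : ∀ c j n a, (mon j c n : MvPolynomial (Fin 3) k) • e a ∈ W := by
    intro c
    induction c with
    | zero =>
      intro j n a
      rcases Nat.lt_or_ge a N with ha | ha
      swap
      · simp [e, dif_neg (show ¬ a < N by omega)]
      rcases Nat.lt_or_ge j p with hj | hj
      swap
      · have : (mon j 0 n : MvPolynomial (Fin 3) k) • e a = 0 := by
          simp only [e, dif_pos ha]
          rw [← Submodule.Quotient.mk_smul, ← Pi.single_smul]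
          have h0 : (mon j 0 n : MvPolynomial (Fin 3) k) • (1 : MvPolynomial (Fin 3) k ⧸ I) = 0 := by
            change Ideal.Quotient.mk I (mon j 0 n * 1) = 0
            rw [mul_one, mk_monomial_eq_zero_iff]
            exact expo_mono_mem π₀ hx hj (Nat.zero_le _) (Nat.zero_le _)
          rw [h0, Pi.single_zero, Submodule.Quotient.mk_zero]
        rw [this]; exact zero_mem W
      rcases Nat.lt_or_ge n (L a) with hn | hn
      · refine Submodule.subset_span ?_
        rw [Finset.coe_image]
        exact ⟨(j, ⟨a, n⟩), by simp [T, hj, ha, hn], rfl⟩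
      · obtain ⟨q, rfl⟩ := Nat.exists_eq_add_of_le hn
        have e0 : (mon j 0 (L a + q) : MvPolynomial (Fin 3) k) = mon j 0 q * mon 0 0 (L a) := by
          rw [mon_mul]; exact congrArg (fun x => monomial x (1 : k)) ((expo_inj π₀).2 (by omega))
        rw [e0, mul_smul, hz a, smul_zero]
        exact zero_mem W
    | succ c ih =>
      intro j n a
      have e0 : (mon j (c + 1) n : MvPolynomial (Fin 3) k) = mon j c n * mon 0 1 0 := by
        rw [mon_mul]; exact congrArg (fun x => monomial x (1 : k)) ((expo_inj π₀).2 (by omega))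
      rw [e0, mul_smul]
      rcases Nat.lt_or_ge a N with ha | ha
      swap
      · simp [e, dif_neg (show ¬ a < N by omega)]
      have h1 := hrel a ha.le
      rw [sub_eq_zero] at h1
      rw [h1]
      split_ifs with h
      · rw [smul_zero]; exact zero_mem W
      · rw [smul_smul, mon_mul]; exact ih _ _ _
  have htop : W = ⊤ := by
    rw [eq_top_iff]
    intro x _
    obtain ⟨v, rfl⟩ := Submodule.Quotient.mk_surjective R x
    rw [← Finset.univ_sum_single v, ← Submodule.mkQ_apply, map_sum]
    refine Submodule.sum_mem _ fun a _ => ?_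
    obtain ⟨f, hf⟩ := Ideal.Quotient.mk_surjective (v a)
    rw [show Pi.single a (v a) = f • (Pi.single a 1 : Fin N → MvPolynomial (Fin 3) k ⧸ I) by
        rw [← Pi.single_smul, ← hf]; congr 1; change _ = Ideal.Quotient.mk I (f * 1); rw [mul_one],
      map_smul, as_sum f, Finset.sum_smul]
    refine Submodule.sum_mem _ fun β _ => ?_
    rw [show monomial β (coeff β f) = coeff β f • monomial β (1 : k) by rw [smul_monomial, smul_eq_mul, mul_one],
      smul_assoc, expo_surj π₀ β]
    refine Submodule.smul_mem _ _ ?_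
    have he : R.mkQ (Pi.single a 1) = e a.val := by simp [e, a.isLt]
    rw [he]
    exact hW _ _ _ _
  have hcard : T.card = p * ∑ a ∈ Finset.range N, L a := by simp [T]
  let Ψ := (R.restrictScalars k).quotEquivOfEq (LinearMap.range Φ) (by simp [R, hΦ, LinearMap.range_restrictScalars])
  rw [← ((Submodule.Quotient.restrictScalarsEquiv k R).symm.trans Ψ).finrank_eq, ← finrank_top, ← htop, ← hcard]
  exact (finrank_span_finset_le_card _).trans Finset.card_image_le

/-- `dim T(I) ≤ (2p + 1) d` if `x^p ∈ I`. -/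
theorem finrank_tgt_le_of_X_pow (hI : IsMonomial I) {p : ℕ} (hx : expo π₀ p 0 0 ∈ exps I) :
    Module.finrank k (Tgt I) ≤ (2 * p + 1) * Module.finrank k (MvPolynomial (Fin 3) k ⧸ I) := by
  classical
  obtain ⟨N₀, hN₀, -⟩ := exists_stair_bound π₀ hI
  set N := N₀ + p with hNdef
  have hN : ∀ a c, N ≤ a ∨ N ≤ c → stair I π₀ a c = 0 := fun a c h =>
    hN₀ a c (h.imp (fun h => by omega) (fun h => by omega))
  let L : Fin p → ℕ → ℕ := fun i a => stair I π₀ i.val a
  have hgen : ∀ i a, expo π₀ i a (stair I π₀ i a) ∈ exps I := fun i a => (mem_exps_expo_iff π₀ hI).2 le_rfl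
  let g : ∀ (i : Fin p) (a : Fin (N + 1)), I := fun i a => ⟨mon i.val a.val (L i a.val), hgen _ _⟩
  let F : Tgt I →ₗ[k] ((i : Fin p) → ↥((LinearMap.ker (slMap I N (L i))).restrictScalars k)) ×
      (MvPolynomial (Fin 3) k ⧸ I) :=
    { toFun := fun φ => (fun i => ⟨fun a => φ (g i a), by
          rw [Submodule.restrictScalars_mem, LinearMap.mem_ker]
          funext a
          rw [slMap_apply, Pi.zero_apply, ← map_smul, ← map_smul, sub_eq_zero]
          refine congrArg φ (Subtype.ext ?_)
          change (mon 0 1 0 : MvPolynomial (Fin 3) k) * mon i.val a.val (L i a.val) =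
            mon 0 0 (L i a.val - L i (a.val + 1)) * mon i.val (a.val + 1) (L i (a.val + 1))
          have := stair_antitone π₀ hI (le_refl i.val) (show a.val ≤ a.val + 1 by omega)
          simp only [mon_mul, L]
          exact congrArg (fun x => monomial x (1 : k)) ((expo_inj π₀).2 (by omega))⟩, φ ⟨mon p 0 0, hx⟩)
      map_add' := fun _ _ => rfl
      map_smul' := fun _ _ => rfl }
  have hF : Function.Injective F := by
    refine (injective_iff_map_eq_zero F).2 fun φ h0 => tgt_ext hI fun β hβ => ?_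
    change φ _ = 0
    obtain ⟨i, a, n, rfl⟩ : ∃ i a n, β = expo π₀ i a n := ⟨_, _, _, expo_surj π₀ β⟩
    rcases Nat.lt_or_ge i p with hi | hi
    · obtain ⟨a', ha', ha'N, hn⟩ : ∃ a', a' ≤ a ∧ a' ≤ N ∧ stair I π₀ i a' ≤ n := by
        rcases Nat.lt_or_ge N a with h | h
        · exact ⟨N, h.le, le_rfl, by rw [hN _ _ (Or.inr le_rfl)]; omega⟩
        · exact ⟨a, le_rfl, h, (mem_exps_expo_iff π₀ hI).1 hβ⟩
      have e : expo π₀ i a n = expo π₀ 0 (a - a') (n - stair I π₀ i a') + expo π₀ i a' (stair I π₀ i a') := by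
        rw [expo_add, expo_inj]; omega
      have h' : monomial (expo π₀ 0 (a - a') (n - stair I π₀ i a') + expo π₀ i a' (stair I π₀ i a')) (1 : k) ∈ I := e ▸ hβ
      rw [show (⟨_, hβ⟩ : I) = ⟨_, h'⟩ from Subtype.ext (congrArg (fun x => monomial x (1 : k)) e),
        tgt_monomial_add φ (hgen i a') _ h',
        show φ ⟨_, hgen i a'⟩ = 0 from
          congrFun (congrArg Subtype.val (congrFun (congrArg Prod.fst h0) ⟨i, hi⟩)) ⟨a', Nat.lt_succ_of_le ha'N⟩,
        smul_zero]
    · have e : expo π₀ i a n = expo π₀ (i - p) a n + expo π₀ p 0 0 := by rw [expo_add, expo_inj]; omega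
      have h' : monomial (expo π₀ (i - p) a n + expo π₀ p 0 0) (1 : k) ∈ I := e ▸ hβ
      rw [show (⟨_, hβ⟩ : I) = ⟨_, h'⟩ from Subtype.ext (congrArg (fun x => monomial x (1 : k)) e),
        tgt_monomial_add φ hx _ h', show φ ⟨_, hx⟩ = 0 from congrArg Prod.snd h0, smul_zero]
  refine (LinearMap.finrank_le_finrank_of_injective hF).trans ?_
  rw [Module.finrank_prod, Module.finrank_pi_fintype]
  refine (add_le_add (Finset.sum_le_sum fun i _ => finrank_ker_slMap_le (L := L i)
    (fun a => stair_antitone π₀ hI le_rfl (Nat.le_succ a)) (hN _ _ (Or.inr le_rfl)) hx) le_rfl).trans ?_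
  rw [Finset.sum_add_distrib, Finset.sum_const, Finset.card_univ, Fintype.card_fin, smul_eq_mul, ← Finset.mul_sum]
  have hle : ∑ i : Fin p, ∑ a ∈ Finset.range N, L i a ≤ Module.finrank k (MvPolynomial (Fin 3) k ⧸ I) := by
    rw [finrank_quotient π₀ hI hN, Fin.sum_univ_eq_sum_range (fun i => ∑ a ∈ Finset.range N, stair I π₀ i a) p]
    exact Finset.sum_le_sum_of_subset (Finset.range_mono (by omega))
  have := Nat.mul_le_mul_left p hle
  rw [show (2 * p + 1) * Module.finrank k (MvPolynomial (Fin 3) k ⧸ I) =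
    p * Module.finrank k (MvPolynomial (Fin 3) k ⧸ I) + p * Module.finrank k (MvPolynomial (Fin 3) k ⧸ I) +
      Module.finrank k (MvPolynomial (Fin 3) k ⧸ I) by ring]
  omega

end GrothLib.HilbPn
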